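import Cfsg.Agent.Lib.Spor.LargeFischer.Cover

/-!
Point stabilisers on the orbit of 378 isotropic vectors: they are transitive on a set of 135 vectors above the point,
five of which are fixed only by the identity, so they have no nontrivial normal 2-subgroup.
-/

set_option autoImplicit false
set_option maxRecDepth 100000
set_option linter.style.haveILetI false

open Cfsg Cfsg.Agent.Classical Cfsg.Agent.Spor.Cos Matrix
open Cfsg.Agent.Spor.USixTwo (K4 vecOf)
open Cfsg.Agent.Spor.U62U43 (cover62)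

namespace Cfsg.Agent.Spor.LargeFischer

variable {k : ℕ}

/-- The vectors above a vector of the small orbit. -/
def InO (k : ℕ) (v w : Fin 6 → K4) : Prop :=
  labV k w = 1 ∧ hermForm 6 K4 2 v w = 0 ∧ labV k (w + v) = 2 ∧ labV k (w + K4.of 2 • v) = 2 ∧
    labV k (w + K4.of 2 • (K4.of 2 • v)) = 2

theorem inO_smul (hk : k < 3) {x : SUV} (hx : x ∈ cover62 k) (v w : Fin 6 → K4) :
    InO k (x • v) (x • w) ↔ InO k v w := by
  simp only [InO, ← smul_scalar, ← smul_add', lab_smul hk hx, smul_herm]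

theorem hermC_zero (a b : ℕ) : hermForm 6 K4 2 (vecOf a) (vecOf b) = 0 ↔ hermC a b = 0 := by
  rw [hermC_sound]
  refine ⟨fun e => ?_, fun e => by rw [e]; rfl⟩
  have h4 : hermC a b < 4 := by
    rw [hermC]
    refine List.foldlRecOn (motive := fun s => s < 4) _ _ (by norm_num) fun s hs i _ => ?_
    exact Nat.xor_lt_two_pow (n := 2) hs (hermC_term _ (Nat.mod_lt _ (by norm_num)) _ (Nat.mod_lt _ (by norm_num))).2
  have h0 : hermC a b % 4 = 0 := congrArg (fun x : K4 => x.v.1) e
  omega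

theorem inO_code (hk : k < 3) {c : ℕ} (hc : c < 4096) : InO k (rep k 1) (vecOf c) ↔ (dat k).inO c = true := by
  have hv : (dat k).v1 < 4096 := rd_lt _ _
  obtain ⟨e1, h1⟩ := om_code hk hv
  obtain ⟨e2, h2⟩ := om_code hk h1
  have hx : ∀ a, a < 4096 → c ^^^ a < 4096 := fun a ha => Nat.xor_lt_two_pow (n := 12) hc ha
  simp only [InO, Dat.inO, rep, if_pos, e1, e2, ← vecOf_xor, labV, enc6_vecOf hc, enc6_vecOf (hx _ hv),
    enc6_vecOf (hx _ h1), enc6_vecOf (hx _ h2), hermC_zero, Bool.and_eq_true, Nat.beq_eq]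
  tauto

theorem orbO_facts (hk : k < 3) :
    (∀ w ∈ (dat k).sg1, ev (kgen k) w ∈ stab k (rep k 1)) ∧
    (∀ c < 4096, (dat k).inO c = true →
      ∃ x ∈ Subgroup.closure {y | ∃ w ∈ (dat k).sg1, ev (kgen k) w = y}, x • vecOf (rd 12 (dat k).ptsO 0) = vecOf c) ∧
    Nat.card {w : Fin 6 → K4 // InO k (rep k 1) w} = 135 := by
  obtain ⟨-, -, -, -, h, -⟩ := facts hk
  simp only [Dat.chkO, Bool.and_eq_true, List.all_eq_true, List.mem_range, Nat.beq_eq, decide_eq_true_eq] at h
  obtain ⟨⟨⟨hfix, hpts⟩, hnd⟩, hcnt⟩ := h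
  have hv : (dat k).v1 < 4096 := rd_lt _ _
  have hmem : ∀ w ∈ (dat k).sg1, ev (kgen k) w ∈ stab k (rep k 1) := fun w hw => by
    rw [rep, if_pos rfl]; exact (fixW hk hv hfix hw).2
  have hset : ((List.range 135).map (rd 12 (dat k).ptsO)).toFinset =
      (Finset.range 4096).filter (fun c => (dat k).inO c = true) := by
    refine Finset.eq_of_subset_of_card_le (fun c hc => ?_) (le_of_eq ?_)
    · obtain ⟨i, hi, rfl⟩ := List.mem_map.1 (List.mem_toFinset.1 hc)
      exact Finset.mem_filter.2 ⟨Finset.mem_range.2 (rd_lt _ _), (hpts i (List.mem_range.1 hi)).2⟩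
    · rw [List.toFinset_card_of_nodup hnd, List.length_map, List.length_range,
        ← hcnt, List.countP_eq_length_filter, ← List.toFinset_card_of_nodup ((List.nodup_range).filter _),
        List.toFinset_filter, List.toFinset_range]
  refine ⟨hmem, fun c hc hO => ?_, ?_⟩
  · have : c ∈ ((List.range 135).map (rd 12 (dat k).ptsO)).toFinset := by
      rw [hset]; exact Finset.mem_filter.2 ⟨Finset.mem_range.2 hc, hO⟩
    obtain ⟨i, hi, rfl⟩ := List.mem_map.1 (List.mem_toFinset.1 this)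
    refine reach (X := Fin 6 → K4) (G := SUV) (g := fun s => ev (kgen k) ((dat k).sg1.getD s []))
      (act := fun s c => (dat k).wC ((dat k).sg1.getD s []) c) (ngen := (dat k).sg1.length)
      (pts := rd 12 (dat k).ptsO) (prd := rd 16 (dat k).prdO) vecOf (fun s hs => ?_) (fun s hs j _ => ?_)
      (fun j hj => (hpts j hj).1) i (List.mem_range.1 hi)
    · exact Subgroup.subset_closure ⟨_, by rw [List.getD_eq_getElem _ _ hs]; exact List.getElem_mem _, rfl⟩
    · refine (word_act hk _ (fixW hk hv hfix ?_).1 _ (rd_lt _ j)).1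
      rw [List.getD_eq_getElem _ _ hs]; exact List.getElem_mem _
  · have hcard : ((Finset.range 4096).filter (fun c => (dat k).inO c = true)).card = 135 := by
      rw [← hset, List.toFinset_card_of_nodup hnd, List.length_map, List.length_range]
    rw [← hcard, ← Nat.card_eq_finsetCard]
    refine Nat.card_congr
      { toFun := fun w => ⟨enc6 w.1, Finset.mem_filter.2 ⟨Finset.mem_range.2 (enc6_lt _),
          (inO_code hk (enc6_lt _)).1 (by rw [vecOf_enc6]; exact w.2)⟩⟩
        invFun := fun c => ⟨vecOf c.1, (inO_code hk (Finset.mem_range.1 (Finset.mem_filter.1 c.2).1)).2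
          (Finset.mem_filter.1 c.2).2⟩
        left_inv := fun w => Subtype.ext (vecOf_enc6 _)
        right_inv := fun c => Subtype.ext (enc6_vecOf (Finset.mem_range.1 (Finset.mem_filter.1 c.2).1)) }

/-- Five of the vectors pin the stabiliser down. -/
theorem five_fix (hk : k < 3) {x : SUV} (hx : x ∈ stab k (rep k 1))
    (h : ∀ b ∈ (dat k).fixB, x • vecOf b = vecOf b) : x = 1 := by
  obtain ⟨-, -, -, -, hO, hC, -⟩ := facts hk
  simp only [Dat.chkO, Bool.and_eq_true, List.all_eq_true, List.mem_range, decide_eq_true_eq] at hO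
  simp only [Dat.chkChain, Bool.and_eq_true, List.all_eq_true, List.mem_range, Nat.beq_eq] at hC
  obtain ⟨⟨⟨⟨⟨hl, hin⟩, h0⟩, hlW⟩, hst⟩, hprod⟩ := hC
  have hv : (dat k).v1 < 4096 := rd_lt _ _
  have hblt : ∀ i, (dat k).fixB.getD i 0 < 4096 := by
    interval_cases k <;>
      (intro i
       rcases Nat.lt_or_ge i 5 with h5 | h5
       · interval_cases i <;> decide
       · rw [List.getD_eq_default _ _ (by rw [hl]; exact h5)]; norm_num)
  let S : ℕ → Subgroup SUV := fun j => stab k (rep k 1) ⊓ ⨅ i : Fin j, MulAction.stabilizer SUV (vecOf ((dat k).fixB.getD i.1 0))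
  have hS : ∀ j y, y ∈ S j ↔ y ∈ stab k (rep k 1) ∧ ∀ i < j, y • vecOf ((dat k).fixB.getD i 0) = vecOf ((dat k).fixB.getD i 0) := by
    intro j y
    simp only [S, Subgroup.mem_inf, Subgroup.mem_iInf, MulAction.mem_stabilizer_iff]
    exact ⟨fun h => ⟨h.1, fun i hi => h.2 ⟨i, hi⟩⟩, fun h => ⟨h.1, fun i => h.2 i.1 i.2⟩⟩
  have hSs : ∀ j, S j ⊓ MulAction.stabilizer SUV (vecOf ((dat k).fixB.getD j 0)) = S (j + 1) := by
    intro j
    ext y
    simp only [Subgroup.mem_inf, hS, MulAction.mem_stabilizer_iff]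
    constructor
    · rintro ⟨⟨h1, h2⟩, h3⟩
      exact ⟨h1, fun i hi => (Nat.lt_succ_iff_lt_or_eq.1 hi).elim (h2 i) fun e => e ▸ h3⟩
    · rintro ⟨h1, h2⟩
      exact ⟨⟨h1, fun i hi => h2 i (hi.trans (Nat.lt_succ_self _))⟩, h2 j (Nat.lt_succ_self _)⟩
  -- the first step
  have first : 135 * Nat.card (S 1) ≤ Nat.card (S 0) := by
    rw [← hSs 0]
    have hb : (dat k).fixB.getD 0 0 = rd 12 (dat k).ptsO 0 := h0
    refine orbit_le (fun i : Fin 135 => vecOf (rd 12 (dat k).ptsO i.1)) (fun i j e => ?_) fun i => ?_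
    · have hij := vecOf_inj (rd_lt _ _) (rd_lt _ _) e
      exact Fin.ext (List.inj_on_of_nodup_map hO.1.2 (List.mem_range.2 i.2) (List.mem_range.2 j.2) hij)
    · obtain ⟨y, hy, e⟩ := (orbO_facts hk).2.1 _ (rd_lt _ _) (hO.1.1.2 i.1 i.2).2
      refine ⟨y, (hS 0 y).2 ⟨?_, fun l hl => absurd hl (Nat.not_lt_zero _)⟩, by rw [hb]; exact e⟩
      exact (Subgroup.closure_le _).2 (fun z hz => by obtain ⟨w, hw, rfl⟩ := hz; exact (orbO_facts hk).1 w hw) hy
  have later : ∀ j < 4, ((dat k).chainW.getD j []).length * Nat.card (S (j + 2)) ≤ Nat.card (S (j + 1)) := by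
    intro j hj
    have hc := hst j hj
    simp only [Dat.chkStep, Bool.and_eq_true, List.all_eq_true, List.mem_range, Nat.beq_eq,
      decide_eq_true_eq] at hc
    obtain ⟨⟨hf, hpre⟩, hnd⟩ := hc
    rw [← hSs (j + 1)]
    refine orbit_le (fun i : Fin ((dat k).chainW.getD j []).length =>
      vecOf ((dat k).wC (((dat k).chainW.getD j []).get i) ((dat k).fixB.getD (j + 1) 0))) (fun a b e => ?_) fun i => ?_
    · have hlt : ∀ a, (dat k).wC (((dat k).chainW.getD j []).get a) ((dat k).fixB.getD (j + 1) 0) < 4096 := fun a =>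
        (word_act hk _ (fixW hk hv hf (List.get_mem _ _)).1 _ (hblt _)).2
      have hab := vecOf_inj (hlt a) (hlt b) e
      exact List.nodup_iff_injective_get.1 (List.Nodup.of_map _ hnd)
        (List.inj_on_of_nodup_map hnd (List.get_mem _ a) (List.get_mem _ b) hab)
    · obtain ⟨hlet, hmem⟩ := fixW hk hv hf (List.get_mem _ i)
      refine ⟨ev (kgen k) (((dat k).chainW.getD j []).get i), (hS _ _).2 ⟨?_, fun l hl => ?_⟩,
        (word_act hk _ hlet _ (hblt _)).1⟩
      · rw [rep, if_pos rfl]; exact hmem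
      · rw [(word_act hk _ hlet _ (hblt _)).1, hpre _ (List.get_mem _ i) l hl]
  have hS0 : Nat.card (S 0) ≤ 25920 :=
    (Subgroup.card_le_of_le (fun y hy => ((hS 0 y).1 hy).1)).trans (card_stab_le hk).1
  have hlen : (dat k).chainW = [(dat k).chainW.getD 0 [], (dat k).chainW.getD 1 [], (dat k).chainW.getD 2 [],
      (dat k).chainW.getD 3 []] := by
    match (dat k).chainW, hlW with
    | [a, b, c, d], _ => rfl
  rw [hlen] at hprod
  simp only [List.map_cons, List.map_nil, List.prod_cons, List.prod_nil, mul_one] at hprod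
  have l0 := later 0 (by norm_num); have l1 := later 1 (by norm_num)
  have l2 := later 2 (by norm_num); have l3 := later 3 (by norm_num)
  have key : 25920 * Nat.card (S 5) ≤ 25920 * 1 := by
    calc 25920 * Nat.card (S 5) = 135 * (((dat k).chainW.getD 0 []).length * (((dat k).chainW.getD 1 []).length *
          (((dat k).chainW.getD 2 []).length * (((dat k).chainW.getD 3 []).length * Nat.card (S 5))))) := by
            rw [← hprod]; ring
      _ ≤ 135 * Nat.card (S 1) := by
            refine Nat.mul_le_mul_left _ (le_trans (Nat.mul_le_mul_left _ (le_trans (Nat.mul_le_mul_left _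
              (le_trans (Nat.mul_le_mul_left _ ?_) l2)) l1)) l0)
            exact l3
      _ ≤ Nat.card (S 0) := first
      _ ≤ 25920 * 1 := hS0
  have h5 : S 5 = ⊥ := by
    refine Subgroup.eq_bot_of_card_le _ ?_
    exact Nat.le_of_mul_le_mul_left key (by norm_num)
  have hx5 : x ∈ S 5 := (hS 5 x).2 ⟨hx, fun i hi => h _ (by
    rw [List.getD_eq_getElem _ _ (hl.symm ▸ hi)]; exact List.getElem_mem _)⟩
  rw [h5] at hx5
  exact Subgroup.mem_bot.1 hx5

theorem eq_of_inv_smul_eq' {a y : SUV} {u : Fin 6 → K4} (h : a⁻¹ • y • a • u = u) : y • a • u = a • u := by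
  have := congrArg (a • ·) h
  simpa using this

/-- No normal 2-subgroup in the stabiliser of a vector of the small orbit. -/
theorem no_two_normal (hk : k < 3) {v : Fin 6 → K4} (hv : labV k v = 1) {N : Subgroup SUV} (hN : N ≤ stab k v)
    (hp : IsPGroup 2 N) (hnorm : ∀ a ∈ stab k v, ∀ b ∈ N, a * b * a⁻¹ ∈ N) : N = ⊥ := by
  obtain ⟨x, hx, rfl⟩ := exists_rep hk (Or.inl rfl) hv
  haveI : Fact (Nat.Prime 2) := ⟨Nat.prime_two⟩
  set M : Subgroup SUV := N.map (MulAut.conj x⁻¹).toMonoidHom with hMdef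
  have hMeq : ∀ y, y ∈ M ↔ x * y * x⁻¹ ∈ N := fun y => by
    rw [hMdef, Subgroup.mem_map_equiv, MulAut.conj_symm_apply, inv_inv]
  have hstab : ∀ a, a ∈ stab k (rep k 1) → x * a * x⁻¹ ∈ stab k (x • rep k 1) := fun a ha =>
    mem_stab.2 ⟨mul_mem (mul_mem hx (mem_stab.1 ha).1) (inv_mem hx), by
      show (x * a * x⁻¹) • x • rep k 1 = x • rep k 1
      rw [mul_smul, inv_smul_smul, mul_smul, (mem_stab.1 ha).2]⟩
  have hMle : M ≤ stab k (rep k 1) := fun y hy => by
    have h := hN ((hMeq y).1 hy)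
    refine ⟨?_, ?_⟩
    · have e := mul_mem (mul_mem (inv_mem hx) h.1) hx
      simpa [mul_assoc] using e
    · have e : (x * y * x⁻¹) • x • rep k 1 = x • rep k 1 := h.2
      rw [mul_smul, inv_smul_smul, mul_smul] at e
      exact MulAction.mem_stabilizer_iff.2 (MulAction.injective x e)
  have hMnorm : ∀ a ∈ stab k (rep k 1), ∀ b ∈ M, a * b * a⁻¹ ∈ M := fun a ha b hb => by
    rw [hMeq]
    rw [show x * (a * b * a⁻¹) * x⁻¹ = (x * a * x⁻¹) * (x * b * x⁻¹) * (x * a * x⁻¹)⁻¹ by group]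
    exact hnorm _ (hstab a ha) _ ((hMeq b).1 hb)
  have hMp : IsPGroup 2 M := hp.map _
  obtain ⟨hsg, htr, hcard⟩ := orbO_facts hk
  letI : MulAction M {w : Fin 6 → K4 // InO k (rep k 1) w} :=
    { smul := fun y w => ⟨y.1 • w.1, by
        have h := hMle y.2
        have := (inO_smul hk h.1 (rep k 1) w.1).2 w.2
        rwa [MulAction.mem_stabilizer_iff.1 h.2] at this⟩
      one_smul := fun w => Subtype.ext (one_smul SUV w.1)
      mul_smul := fun a b w => Subtype.ext (mul_smul a.1 b.1 w.1) }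
  obtain ⟨⟨w, hw⟩, hfix⟩ := hMp.nonempty_fixed_point_of_prime_not_dvd_card {w : Fin 6 → K4 // InO k (rep k 1) w}
    (by rw [hcard]; norm_num)
  have hfw : ∀ y ∈ M, y • w = w := fun y hy => congrArg Subtype.val (hfix ⟨y, hy⟩)
  -- the fixed set is invariant
  have hmove : ∀ a ∈ Subgroup.closure {y | ∃ t ∈ (dat k).sg1, ev (kgen k) t = y}, ∀ u : Fin 6 → K4,
      (∀ y ∈ M, y • u = u) → ∀ y ∈ M, y • (a • u) = a • u := by
    intro a ha u hu y hy
    have ha' : a ∈ stab k (rep k 1) := (Subgroup.closure_le _).2 (fun z hz => by obtain ⟨t, ht, rfl⟩ := hz; exact hsg t ht) ha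
    have := hu _ (hMnorm a⁻¹ (inv_mem ha') y hy)
    rw [inv_inv, mul_smul, mul_smul] at this
    exact eq_of_inv_smul_eq' this
  obtain ⟨a, ha, ea⟩ := htr _ (enc6_lt w) ((inO_code hk (enc6_lt w)).1 (by rw [vecOf_enc6]; exact hw))
  rw [vecOf_enc6] at ea
  have hp0 : ∀ y ∈ M, y • vecOf (rd 12 (dat k).ptsO 0) = vecOf (rd 12 (dat k).ptsO 0) := by
    have := hmove a⁻¹ (inv_mem ha) w hfw
    rwa [← ea, inv_smul_smul] at this
  have hM : M = ⊥ := by
    refine (Subgroup.eq_bot_iff_forall _).2 fun y hy => five_fix hk (hMle hy) fun b hb => ?_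
    obtain ⟨-, -, -, -, -, hC, -⟩ := facts hk
    simp only [Dat.chkChain, Bool.and_eq_true, List.all_eq_true] at hC
    have hbO := hC.1.1.1.1.2 b hb
    have hblt : b < 4096 := by
      interval_cases k <;> revert b <;> decide
    obtain ⟨c, hc, ec⟩ := htr b hblt hbO
    rw [← ec]
    exact hmove c hc _ hp0 y hy
  rw [hMdef, Subgroup.map_eq_bot_iff_of_injective _ (MulAut.conj x⁻¹).injective] at hM
  exact hM

end Cfsg.Agent.Spor.LargeFischer
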