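import Cfsg.Agent.Lib.Spor.LargeFischer.Setting
import Cfsg.Agent.Lib.Spor.LargeFischer.SmallOrbit
import Cfsg.Agent.Lib.Spor.ExtraPairCore
import Cfsg.Agent.Lib.Spor.Leech.MonsterPair

/-!
The two classes of noncentral involutions of the extraspecial group; conjugates of the centre are in the class
belonging to the long orbit.
-/

set_option autoImplicit false
set_option maxRecDepth 100000
set_option linter.style.haveILetI false

open Cfsg Cfsg.Agent.Classical Matrix
open Cfsg.Agent.Spor.USixTwo (K4)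
open Cfsg.Agent.Spor.U62U43 (cover62)

namespace Cfsg.Agent.Spor.LargeFischer

variable {G : Type*} [Group G] [Finite G] {z : G} {Q : Subgroup (Subgroup.centralizer ({z} : Set G))}
  [hQn : Q.Normal]

/-- An element of `Q` in the whole group. -/
abbrev gv (x : Q) : G := ((x : Subgroup.centralizer ({z} : Set G)) : G)

theorem neg_self6 (v : Fin 6 → K4) : v + v = 0 := funext fun i => by
  show v i + v i = 0
  generalize v i = a
  revert a; decide +kernel

theorem rep_first (k : ℕ) (hk : k < 3) : labV k (rep k 1) = 1 ∧ labV k (rep k 2) = 2 := by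
  have h1 := (facts hk).2.2.1 0 (by norm_num)
  have h2 := (facts hk).2.2.2.1 0 (by norm_num)
  simp only [Dat.chkP1, Bool.and_eq_true, Nat.beq_eq] at h1
  simp only [Dat.chkP2, Bool.and_eq_true, Nat.beq_eq] at h2
  refine ⟨?_, ?_⟩
  · rw [rep, if_pos rfl, labV, enc6_vecOf (show (dat k).v1 < 4096 from rd_lt _ _)]; exact h1.1.2
  · rw [rep, if_neg (by norm_num), labV, enc6_vecOf (show (dat k).v2 < 4096 from rd_lt _ _)]; exact h2.1.2

namespace Model

variable (m : Model z Q)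

/-- The label of an element of `Q`. -/
def lab (x : Q) : ℕ := labV m.k (m.rep x)

theorem act_cancel (g : Subgroup.centralizer ({z} : Set G)) (v : Fin 6 → K4) : m.act g⁻¹ (m.act g v) = v := by
  rw [← m.act_mul, inv_mul_cancel, m.act_one]

theorem act_inj (g : Subgroup.centralizer ({z} : Set G)) : Function.Injective (m.act g) := fun v w h => by
  rw [← m.act_cancel g v, h, m.act_cancel]

theorem act_zero (g : Subgroup.centralizer ({z} : Set G)) : m.act g 0 = 0 := by
  have := m.act_add g 0 0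
  rw [add_zero] at this
  exact left_eq_add.1 this

theorem rep_one : m.rep 1 = 0 := (m.rep_zero 1).2 (Or.inl rfl)

theorem rep_inv (x : Q) : m.rep x⁻¹ = m.rep x := by
  have := m.rep_mul x x⁻¹
  rw [mul_inv_cancel, m.rep_one] at this
  exact (add_left_cancel (a := m.rep x) ((neg_self6 _).trans this)).symm

theorem rep_eq {x y : Q} (h : m.rep x = m.rep y) : gv y = gv x ∨ gv y = gv x * z := by
  have h0 : m.rep (x⁻¹ * y) = 0 := by rw [m.rep_mul, m.rep_inv, h, neg_self6]
  rcases (m.rep_zero _).1 h0 with e | e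
  · refine Or.inl ?_
    simp only [Subgroup.coe_mul, Subgroup.coe_inv] at e
    exact (inv_mul_eq_one.1 e).symm
  · refine Or.inr ?_
    simp only [Subgroup.coe_mul, Subgroup.coe_inv] at e
    exact inv_mul_eq_iff_eq_mul.1 e

theorem isotropic_act (g : Subgroup.centralizer ({z} : Set G)) {v : Fin 6 → K4}
    (h : hermForm 6 K4 2 v v = 0) : hermForm 6 K4 2 (m.act g v) (m.act g v) = 0 := by
  obtain ⟨x, rfl⟩ := m.rep_surj v
  rw [m.act_rep, m.herm_zero]
  have hx := (m.herm_zero x).1 h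
  refine Subtype.ext ?_
  show g * x * g⁻¹ * (g * x * g⁻¹) = 1
  have hx' : (x : Subgroup.centralizer ({z} : Set G)) * x = 1 := congrArg Subtype.val hx
  rw [show g * x * g⁻¹ * (g * x * g⁻¹) = g * ((x : Subgroup.centralizer ({z} : Set G)) * x) * g⁻¹ by group,
    hx', mul_one, mul_inv_cancel]

theorem lin_mem (a : m.M) : m.lin a ∈ cover62 m.k := m.lin_range ▸ ⟨a, rfl⟩

theorem exists_lin {x : SUV} (hx : x ∈ cover62 m.k) : ∃ a : m.M, m.lin a = x := by
  rw [← m.lin_range] at hx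
  exact hx

theorem lin_eq_one (a : m.M) : m.lin a = 1 ↔ (a : Subgroup.centralizer ({z} : Set G)) ∈ Q := by
  rw [← m.act_ker]
  refine ⟨fun h v => by rw [m.lin_act, h, one_smul], fun h => ?_⟩
  refine suVal_ext (Matrix.toLin'.injective (LinearMap.ext fun v => ?_))
  have e := h v
  rw [m.lin_act, smul_def] at e
  rw [Matrix.toLin'_apply, e]
  exact (Matrix.one_mulVec v).symm

/-- An orbit cannot be moved to one of another length. -/
theorem lab_act (g : Subgroup.centralizer ({z} : Set G)) (v : Fin 6 → K4) :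
    labV m.k (m.act g v) = labV m.k v := by
  have key : ∀ (g : Subgroup.centralizer ({z} : Set G)) (v : Fin 6 → K4),
      labV m.k v = 2 → labV m.k (m.act g v) = 2 := by
    intro g v hv
    rcases lab_facts m.hk v with ⟨h, -⟩ | ⟨-, h0, hh⟩
    · omega
    refine (lab_pos m.hk (fun e => h0 (m.act_inj g (e.trans (m.act_zero g).symm))) (m.isotropic_act g hh)).resolve_left
      fun h1 => ?_
    have hmap : ∀ w, labV m.k w = 2 → labV m.k (m.act g w) = 1 := fun w hw => by
      obtain ⟨x, hx, rfl⟩ := transitive m.hk (Or.inr rfl) hv hw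
      obtain ⟨a, rfl⟩ := m.exists_lin hx
      have hb : g * a * g⁻¹ ∈ m.M := m.M_normal.conj_mem _ a.2 g
      rw [← m.lin_act, ← m.act_mul, show g * (a : Subgroup.centralizer ({z} : Set G)) =
        (⟨_, hb⟩ : m.M) * g by simp, m.act_mul, m.lin_act, lab_smul m.hk (m.lin_mem _), h1]
    have hle := Nat.card_le_card_of_injective
      (fun w : {w // labV m.k w = 2} => (⟨m.act g w.1, hmap w.1 w.2⟩ : {w // labV m.k w = 1}))
      fun a b h => Subtype.ext (m.act_inj g (congrArg Subtype.val h))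
    rw [(card_lab m.hk).1, (card_lab m.hk).2] at hle
    omega
  rcases lab_facts m.hk v with ⟨h, h'⟩ | ⟨h, h0, hh⟩
  · rw [h]
    rcases lab_facts m.hk (m.act g v) with ⟨e, -⟩ | ⟨-, e0, eh⟩
    · exact e
    · have := m.isotropic_act g⁻¹ eh
      rw [m.act_cancel] at this
      rcases h' with rfl | h'
      · exact absurd (m.act_zero g) e0
      · exact absurd this h'
  · rcases h with h | h
    · rw [h]
      refine (lab_pos m.hk (fun e => h0 (m.act_inj g (e.trans (m.act_zero g).symm))) (m.isotropic_act g hh)).resolve_right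
        fun e2 => ?_
      have := key g⁻¹ _ e2
      rw [m.act_cancel] at this
      omega
    · rw [h]; exact key g v h

theorem lab_conj (g : Subgroup.centralizer ({z} : Set G)) (x : Q) : m.lab (qconj g x) = m.lab x := by
  rw [lab, lab, ← m.act_rep, m.lab_act]

/-- The noncentral involutions have nonzero label. -/
theorem lab_invol {x : Q} (hx : x * x = 1) (h1 : gv x ≠ 1) (hz : gv x ≠ z) : m.lab x = 1 ∨ m.lab x = 2 := by
  refine lab_pos m.hk (fun e => ?_) ((m.herm_zero x).2 hx)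
  rcases (m.rep_zero x).1 e with e | e
  exacts [h1 e, hz e]

theorem of_lab {x : Q} (h : m.lab x = 1 ∨ m.lab x = 2) : x * x = 1 ∧ gv x ≠ 1 ∧ gv x ≠ z := by
  rcases lab_facts m.hk (m.rep x) with ⟨e, -⟩ | ⟨-, h0, hh⟩
  · simp only [lab] at h; omega
  · exact ⟨(m.herm_zero x).1 hh, fun e => h0 ((m.rep_zero x).2 (Or.inl e)), fun e => h0 ((m.rep_zero x).2 (Or.inr e))⟩

theorem noncentral {x : Q} (h : m.lab x = 1 ∨ m.lab x = 2) :
    ∃ q : Q, gv q * gv x * (gv q)⁻¹ = gv x * z := by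
  obtain ⟨-, h1, hz⟩ := m.of_lab h
  have hx : gv x ∈ QG Q := mem_QG.2 ⟨x, rfl⟩
  by_contra hcon
  push Not at hcon
  have hall : ∀ q ∈ QG Q, q * gv x = gv x * q := fun q hq => by
    obtain ⟨q, rfl⟩ := mem_QG.1 hq
    rcases m.ext.conj_cases hx hq with e | ⟨-, e⟩
    · exact e
    · exact absurd e (hcon q)
  exact (m.ext.cen _ hx hall).elim h1 hz

/-- Elements of `Q` with one isotropic image are conjugate. -/
theorem conj_of_rep {x y : Q} (h : m.lab y = 1 ∨ m.lab y = 2) {g : Subgroup.centralizer ({z} : Set G)}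
    (e : m.act g (m.rep x) = m.rep y) :
    ∃ q : Q, ((q : Subgroup.centralizer ({z} : Set G)) * g : G) * gv x * ((q : Subgroup.centralizer ({z} : Set G)) * g : G)⁻¹ =
      gv y := by
  rw [m.act_rep] at e
  rcases m.rep_eq e.symm with e' | e'
  · have e'' : (g : G) * gv x * (g : G)⁻¹ = gv y := e'
    exact ⟨1, by simpa using e''⟩
  · obtain ⟨q, hq⟩ := m.noncentral h
    refine ⟨q, ?_⟩
    have hqz : gv q * z * (gv q)⁻¹ = z := by
      rw [m.ext.central _ (mem_QG.2 ⟨q, rfl⟩), mul_inv_cancel_right]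
    have e'' : (g : G) * gv x * (g : G)⁻¹ = gv y * z := e'
    calc _ = gv q * ((g : G) * gv x * (g : G)⁻¹) * (gv q)⁻¹ := by group
      _ = gv q * (gv y * z) * (gv q)⁻¹ := by rw [e'']
      _ = (gv q * gv y * (gv q)⁻¹) * (gv q * z * (gv q)⁻¹) := by group
      _ = gv y := by rw [hq, hqz, mul_assoc, m.ext.zz, mul_one]

theorem conj_of_lab {x y : Q} (h : m.lab y = 1 ∨ m.lab y = 2) (he : m.lab x = m.lab y) :
    ∃ c : Subgroup.centralizer ({z} : Set G), c * (x : Subgroup.centralizer ({z} : Set G)) * c⁻¹ = y := by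
  obtain ⟨a, ha, e⟩ := transitive m.hk (v := m.rep x) (w := m.rep y) (l := m.lab y) h he rfl
  obtain ⟨b, rfl⟩ := m.exists_lin ha
  rw [← m.lin_act] at e
  obtain ⟨q, hq⟩ := m.conj_of_rep h e
  exact ⟨q * b, Subtype.ext (by simpa using hq)⟩

/-- The stabiliser of an image lifts to the centraliser. -/
theorem exists_centralizing {x : Q} (h : m.lab x = 1 ∨ m.lab x = 2) {a : SUV} (ha : a ∈ stab m.k (m.rep x)) :
    ∃ b : m.M, m.lin b = a ∧ ((b : Subgroup.centralizer ({z} : Set G)) : G) * gv x =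
      gv x * ((b : Subgroup.centralizer ({z} : Set G)) : G) := by
  obtain ⟨b, rfl⟩ := m.exists_lin (mem_stab.1 ha).1
  obtain ⟨q, hq⟩ := m.conj_of_rep (g := b) h (by rw [m.lin_act]; exact (mem_stab.1 ha).2)
  refine ⟨⟨q, m.M_le q.2⟩ * b, ?_, ?_⟩
  · rw [map_mul, (m.lin_eq_one _).2 q.2, one_mul]
  · exact mul_inv_eq_iff_eq_mul.1 hq

end Model

section Pair

variable (m : Model z Q) {g : G}

/-- The conjugate extraspecial group. -/
abbrev PG (Q : Subgroup (Subgroup.centralizer ({z} : Set G))) (g : G) : Subgroup G :=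
  (QG Q).map (MulAut.conj g).toMonoidHom

include m

theorem card_PG : Nat.card (PG Q g) = 2 ^ 13 := by
  rw [Subgroup.card_map_of_injective (MulAut.conj g).injective, m.card_QG]

theorem z_mem_PG (hx : g * z * g⁻¹ ∈ QG Q) : z ∈ PG Q g := by
  refine m.ext.mem_pair hx (m.ext.exists_noncommuting hx ?_)
  rw [m.card_QG]; norm_num

theorem card_half (hx : g * z * g⁻¹ ∈ QG Q) (hne : g * z * g⁻¹ ≠ z) :
    Nat.card ↥(PG Q g ⊓ Subgroup.centralizer ({z} : Set G)) = 2 ^ 12 := by
  have hz := z_mem_PG m hx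
  have hext := m.ext.map_conj g
  have h1 := hext.card_le_centralizing hz
  rw [card_PG m] at h1
  have hlt : PG Q g ⊓ Subgroup.centralizer ({z} : Set G) ≠ PG Q g := fun e' => by
    rcases hext.cen z hz fun q hq => Subgroup.mem_centralizer_singleton_iff.1 (inf_eq_left.1 e' hq) with e'' | e''
    · exact m.ext.ne e''
    · exact hne e''.symm
  obtain ⟨j, hj, he⟩ := (Nat.dvd_prime_pow Nat.prime_two).1
    (card_PG m (g := g) ▸ Subgroup.card_dvd_of_le (inf_le_left : PG Q g ⊓ Subgroup.centralizer ({z} : Set G) ≤ PG Q g))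
  have hj13 : j ≠ 13 := fun e' => hlt (Subgroup.eq_of_le_of_card_ge inf_le_left (by rw [he, e', card_PG m]))
  have hj12 : 12 ≤ j := by
    by_contra hlt'
    have := Nat.pow_le_pow_right (show 0 < 2 by norm_num) (show j ≤ 11 by omega)
    rw [he] at h1; omega
  rw [he, show j = 12 by omega]

theorem inter_sq (hne : g * z * g⁻¹ ≠ z) : ∀ a ∈ QG Q ⊓ PG Q g, a * a = 1 := by
  rintro a ⟨haQ, haP⟩
  rcases m.ext.sq a haQ with e' | e'
  · exact e'
  · rcases (m.ext.map_conj g).sq a haP with e'' | e''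
    · exact e''
    · exact absurd (e''.symm.trans e') hne

theorem inter_comm (hne : g * z * g⁻¹ ≠ z) : ∀ a ∈ QG Q ⊓ PG Q g, ∀ b ∈ QG Q ⊓ PG Q g, a * b = b * a := by
  intro a ha b hb
  have h1 := inter_sq m hne _ (mul_mem ha hb)
  calc a * b = (a * b)⁻¹ := (inv_eq_of_mul_eq_one_right h1).symm
    _ = b⁻¹ * a⁻¹ := mul_inv_rev a b
    _ = b * a := by rw [inv_eq_of_mul_eq_one_right (inter_sq m hne b hb), inv_eq_of_mul_eq_one_right (inter_sq m hne a ha)]

theorem card_inter_le (hx : g * z * g⁻¹ ∈ QG Q) (hne : g * z * g⁻¹ ≠ z) : Nat.card ↥(QG Q ⊓ PG Q g) ≤ 2 ^ 7 := by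
  have h1 := Leech.abelian_sq_le m.ext (D := QG Q ⊓ PG Q g) inf_le_left ⟨m.ext.mem, z_mem_PG m hx⟩ (inter_comm m hne)
    (inter_sq m hne)
  rw [m.card_QG] at h1
  by_contra hgt
  have := Nat.mul_le_mul (Nat.succ_le_of_lt (not_le.1 hgt)) (Nat.succ_le_of_lt (not_le.1 hgt))
  generalize Nat.card ↥(QG Q ⊓ PG Q g) = d at h1 this
  norm_num at h1 this
  omega

/-- The conjugate group inside the centraliser, and its part in the linear half. -/
def Es (Q : Subgroup (Subgroup.centralizer ({z} : Set G))) (g : G) : Subgroup (Subgroup.centralizer ({z} : Set G)) :=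
  (PG Q g ⊓ Subgroup.centralizer ({z} : Set G)).subgroupOf (Subgroup.centralizer ({z} : Set G))

omit m in
theorem mem_Es {a : Subgroup.centralizer ({z} : Set G)} : a ∈ Es Q g ↔ (a : G) ∈ PG Q g :=
  ⟨fun h => h.1, fun h => ⟨h, a.2⟩⟩

theorem card_Es (hx : g * z * g⁻¹ ∈ QG Q) (hne : g * z * g⁻¹ ≠ z) : Nat.card (Es Q g) = 2 ^ 12 := by
  rw [Es, Nat.card_congr (Subgroup.subgroupOfEquivOfLe inf_le_right).toEquiv, card_half m hx hne]

omit m in
theorem card_Es_inf : Nat.card ↥(Es Q g ⊓ Q) = Nat.card ↥(QG Q ⊓ PG Q g) := by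
  rw [← Subgroup.card_map_of_injective (K := Es Q g ⊓ Q) (Subgroup.subtype_injective _)]
  congr 2
  ext y
  constructor
  · rintro ⟨a, ⟨ha, hq⟩, rfl⟩
    exact ⟨⟨a, hq, rfl⟩, ha.1⟩
  · rintro ⟨⟨a, hq, rfl⟩, hp⟩
    exact ⟨a, ⟨mem_Es.2 hp, hq⟩, rfl⟩

theorem card_Es_M (hx : g * z * g⁻¹ ∈ QG Q) (hne : g * z * g⁻¹ ≠ z) :
    2 ^ 11 ≤ Nat.card ↥(Es Q g ⊓ m.M) := by
  have h1 := m.M.relIndex_inf_mul_relIndex (K := Es Q g) (L := ⊤)
  have h2 : Nat.card (Es Q g) ≤ 2 * Nat.card ↥(Es Q g ⊓ m.M) := by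
    have hr : m.M.relIndex (Es Q g) ∣ m.M.index := by
      haveI := m.M_normal
      exact Subgroup.relIndex_dvd_index_of_normal m.M (Es Q g)
    rw [← (m.M.subgroupOf (Es Q g)).card_mul_index, ← Subgroup.inf_subgroupOf_right,
      Nat.card_congr (Subgroup.subgroupOfEquivOfLe (inf_le_right : m.M ⊓ Es Q g ≤ Es Q g)).toEquiv,
      Subgroup.inf_subgroupOf_right, inf_comm, mul_comm]
    refine Nat.mul_le_mul_right _ (Nat.le_of_dvd (by norm_num) ?_)
    rw [m.M_index] at hr
    exact hr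
  rw [card_Es m hx hne] at h2
  omega

/-- The linear part of the conjugate group as a subgroup of the stabiliser. -/
theorem image_facts {s : Q} (hs : gv s = g * z * g⁻¹) (hlab : m.lab s = 1 ∨ m.lab s = 2) :
    ((Es Q g ⊓ m.M).subgroupOf m.M).map m.lin ≤ stab m.k (m.rep s) ∧
      IsPGroup 2 (((Es Q g ⊓ m.M).subgroupOf m.M).map m.lin) ∧
      ∀ a ∈ stab m.k (m.rep s), ∀ b ∈ ((Es Q g ⊓ m.M).subgroupOf m.M).map m.lin,
        a * b * a⁻¹ ∈ ((Es Q g ⊓ m.M).subgroupOf m.M).map m.lin := by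
  have hext := m.ext.map_conj g
  refine ⟨?_, ?_, ?_⟩
  · rintro _ ⟨b, ⟨hb, -⟩, rfl⟩
    refine mem_stab.2 ⟨m.lin_mem b, ?_⟩
    rw [← m.lin_act, m.act_rep]
    congr 1
    refine Subtype.ext (Subtype.ext ?_)
    show ((b : Subgroup.centralizer ({z} : Set G)) : G) * gv s * ((b : Subgroup.centralizer ({z} : Set G)) : G)⁻¹ = gv s
    rw [hs, mul_inv_eq_iff_eq_mul]
    exact hext.central _ (mem_Es.1 hb)
  · refine IsPGroup.map ?_ _
    haveI : Fact (Nat.Prime 2) := ⟨Nat.prime_two⟩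
    have hP : IsPGroup 2 (PG Q g) := IsPGroup.of_card (card_PG m)
    refine hP.of_injective
      (MonoidHom.mk' (fun b => (⟨((b.1 : Subgroup.centralizer ({z} : Set G)) : G), mem_Es.1 b.2.1⟩ : PG Q g))
        fun a b => rfl) fun a b h => Subtype.ext (Subtype.ext (Subtype.ext (congrArg Subtype.val h :)))
  · intro a ha b hb
    obtain ⟨c, rfl, hc⟩ := m.exists_centralizing hlab ha
    obtain ⟨d, ⟨hd, -⟩, rfl⟩ := hb
    refine ⟨c * d * c⁻¹, ⟨mem_Es.2 ?_, (c * d * c⁻¹).2⟩, by rw [map_mul, map_mul, map_inv]⟩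
    rw [hs] at hc
    exact hext.norm _ hc _ (mem_Es.1 hd)

/-- A further conjugate of the centre lies over the long orbit. -/
theorem lab_of_conj {s : Q} (hs : gv s = g * z * g⁻¹) (hne : g * z * g⁻¹ ≠ z) : m.lab s = 2 := by
  have hext := m.ext.map_conj g
  have hx : g * z * g⁻¹ ∈ QG Q := hs ▸ mem_QG.2 ⟨s, rfl⟩
  have hinv : s * s = 1 := Subtype.ext (Subtype.ext (by
    show gv s * gv s = 1
    rw [hs]; exact hext.zz))
  refine (m.lab_invol hinv (by rw [hs]; exact hext.ne) (by rw [hs]; exact hne)).resolve_left fun h1 => ?_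
  obtain ⟨hle, hp, hn⟩ := image_facts m hs (Or.inl h1)
  have hbot := no_two_normal m.hk h1 hle hp hn
  have hsub : Es Q g ⊓ m.M ≤ Es Q g ⊓ Q := fun a ha => by
    refine ⟨ha.1, (m.lin_eq_one ⟨a, ha.2⟩).1 ?_⟩
    have : m.lin ⟨a, ha.2⟩ ∈ ((Es Q g ⊓ m.M).subgroupOf m.M).map m.lin := ⟨⟨a, ha.2⟩, ha, rfl⟩
    rwa [hbot, Subgroup.mem_bot] at this
  have h1' := (card_Es_M m hx hne).trans (Subgroup.card_le_of_le hsub)
  rw [card_Es_inf] at h1'
  have := h1'.trans (card_inter_le m hx hne)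
  norm_num at this

end Pair

end Cfsg.Agent.Spor.LargeFischer
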