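import Cfsg.Agent.Lib.Spor.LargeFischer.Codes
import Cfsg.Agent.Lib.Spor.LargeFischer.Data0
import Cfsg.Agent.Lib.Spor.LargeFischer.Data1
import Cfsg.Agent.Lib.Spor.LargeFischer.Data2
import Cfsg.Agent.Lib.Spor.U62U43.Data

/-! The checks of the orbit tables. -/

set_option autoImplicit false
set_option maxRecDepth 100000

open Cfsg.Agent.Spor.USixTwo (genRows)

namespace Cfsg.Agent.Spor.LargeFischer

/-- The tables of a class. -/
structure Dat where
  /-- images of the bits under the generators -/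
  imgs : List (List ℕ)
  /-- labels -/
  lab : ℕ
  /-- positions -/
  pos : ℕ
  /-- the small orbit -/
  pts1 : ℕ
  /-- its predecessors -/
  prd1 : ℕ
  /-- the large orbit -/
  pts2 : ℕ
  /-- its predecessors -/
  prd2 : ℕ
  /-- words fixing the first vector of the small orbit -/
  sg1 : List (List ℕ)
  /-- an orbit of these -/
  ptsO : ℕ
  /-- its predecessors -/
  prdO : ℕ
  /-- five spanning vectors -/
  fixB : List ℕ
  /-- transversals -/
  chainW : List (List (List ℕ))
  /-- blocks -/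
  blk : ℕ
  /-- vectors in blocks -/
  wl : List ℕ
  /-- one vector in each block -/
  reps : List ℕ
  /-- words fixing the first vector of the large orbit -/
  sg2 : List (List ℕ)
  /-- their permutations -/
  perms : List (List ℕ)
  /-- quadruples -/
  tup : ℕ
  /-- their predecessors -/
  prdT : ℕ
  /-- words fixing the blocks -/
  kerW : List (List ℕ)

/-- The tables. -/
def dat : ℕ → Dat
  | 0 => ⟨C0.imgs, C0.lab, C0.pos, C0.pts1, C0.prd1, C0.pts2, C0.prd2, C0.sg1, C0.ptsO, C0.prdO, C0.fixB, C0.chainW,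
      C0.blk, C0.wl, C0.reps, C0.sg2, C0.perms, C0.tup, C0.prdT, C0.kerW⟩
  | 1 => ⟨C1.imgs, C1.lab, C1.pos, C1.pts1, C1.prd1, C1.pts2, C1.prd2, C1.sg1, C1.ptsO, C1.prdO, C1.fixB, C1.chainW,
      C1.blk, C1.wl, C1.reps, C1.sg2, C1.perms, C1.tup, C1.prdT, C1.kerW⟩
  | _ => ⟨C2.imgs, C2.lab, C2.pos, C2.pts1, C2.prd1, C2.pts2, C2.prd2, C2.sg1, C2.ptsO, C2.prdO, C2.fixB, C2.chainW,
      C2.blk, C2.wl, C2.reps, C2.sg2, C2.perms, C2.tup, C2.prdT, C2.kerW⟩

namespace Dat

variable (D : Dat)

/-- A generator on a code. -/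
def ap (s c : ℕ) : ℕ := app (D.imgs.getD s []) c

/-- A word on a code. -/
def wC (w : List ℕ) (c : ℕ) : ℕ := w.foldr (fun s r => D.ap s r) c

/-- The label. -/
def labC (c : ℕ) : ℕ := rd 2 D.lab c

/-- The first vector of the small orbit. -/
def v1 : ℕ := rd 12 D.pts1 0

/-- The first vector of the large orbit. -/
def v2 : ℕ := rd 12 D.pts2 0

/-- Multiplication by the scalar. -/
def omC (c : ℕ) : ℕ := D.ap 3 c

/-- The orbit of 135 vectors above the first of the small orbit. -/
def inO (c : ℕ) : Bool :=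
  Nat.beq (D.labC c) 1 && Nat.beq (hermC D.v1 c) 0 && Nat.beq (D.labC (c ^^^ D.v1)) 2 &&
    Nat.beq (D.labC (c ^^^ D.omC D.v1)) 2 && Nat.beq (D.labC (c ^^^ D.omC (D.omC D.v1))) 2

/-- The 96 vectors above the first of the large orbit. -/
def inW (c : ℕ) : Bool := Nat.beq (D.labC c) 1 && Nat.beq (hermC D.v2 c) 1

/-- Two of them in one block. -/
def rel (a b : ℕ) : Bool :=
  Nat.beq (D.labC (a ^^^ b)) 1 && Nat.beq (hermC a b) 1 && Nat.beq (D.labC (a ^^^ b ^^^ D.v2)) 1

/-- A code is treated correctly. -/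
def chkC (c : ℕ) : Bool :=
  match D.labC c with
  | 0 => (Nat.beq c 0 || !Nat.beq (hermC c c) 0) && (List.range 4).all (fun s => Nat.beq (D.labC (D.ap s c)) 0)
  | 1 => !Nat.beq c 0 && Nat.beq (hermC c c) 0 && Nat.blt (rd 12 D.pos c) 378 &&
      Nat.beq (rd 12 D.pts1 (rd 12 D.pos c)) c && (List.range 4).all (fun s => Nat.beq (D.labC (D.ap s c)) 1)
  | 2 => !Nat.beq c 0 && Nat.beq (hermC c c) 0 && Nat.blt (rd 12 D.pos c) 1701 &&
      Nat.beq (rd 12 D.pts2 (rd 12 D.pos c)) c && (List.range 4).all (fun s => Nat.beq (D.labC (D.ap s c)) 2)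
  | _ => false

/-- A member of the small orbit. -/
def chkP1 (i : ℕ) : Bool :=
  chkPred D.ap 4 (rd 12 D.pts1) (rd 16 D.prd1) i && Nat.beq (D.labC (rd 12 D.pts1 i)) 1 &&
    Nat.beq (rd 12 D.pos (rd 12 D.pts1 i)) i

/-- A member of the large orbit. -/
def chkP2 (i : ℕ) : Bool :=
  chkPred D.ap 4 (rd 12 D.pts2) (rd 16 D.prd2) i && Nat.beq (D.labC (rd 12 D.pts2 i)) 2 &&
    Nat.beq (rd 12 D.pos (rd 12 D.pts2 i)) i

/-- The words of a list use the four generators and fix a code. -/
def chkFixW (v : ℕ) (ws : List (List ℕ)) : Bool :=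
  ws.all fun w => w.all (fun s => Nat.blt s 4) && Nat.beq (D.wC w v) v

/-- The orbit of 135 vectors. -/
def chkO : Bool :=
  D.chkFixW D.v1 D.sg1 &&
    (List.range 135).all (fun i =>
      chkPred (fun s c => D.wC (D.sg1.getD s []) c) D.sg1.length (rd 12 D.ptsO) (rd 16 D.prdO) i &&
        D.inO (rd 12 D.ptsO i)) &&
    decide ((List.range 135).map (rd 12 D.ptsO)).Nodup && Nat.beq ((List.range 4096).countP D.inO) 135

/-- One step of the chain of stabilisers. -/
def chkStep (j : ℕ) : Bool :=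
  D.chkFixW D.v1 (D.chainW.getD j []) &&
    (D.chainW.getD j []).all (fun w => (List.range (j + 1)).all fun i => Nat.beq (D.wC w (D.fixB.getD i 0)) (D.fixB.getD i 0)) &&
    decide ((D.chainW.getD j []).map (fun w => D.wC w (D.fixB.getD (j + 1) 0))).Nodup

/-- The chain. -/
def chkChain : Bool :=
  Nat.beq D.fixB.length 5 && D.fixB.all D.inO && Nat.beq (D.fixB.getD 0 0) (rd 12 D.ptsO 0) &&
    Nat.beq D.chainW.length 4 && (List.range 4).all D.chkStep &&
    Nat.beq (135 * ((D.chainW.map List.length).prod)) 25920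

/-- The six blocks. -/
def chkBlk : Bool :=
  Nat.beq D.reps.length 6 && (List.range 6).all (fun i => D.inW (D.reps.getD i 0) && Nat.beq (rd 4 D.blk (D.reps.getD i 0)) i) &&
    D.wl.all (fun a => Nat.blt (rd 4 D.blk a) 6) &&
    D.wl.all (fun a => D.wl.all fun b => !D.rel a b || Nat.beq (rd 4 D.blk a) (rd 4 D.blk b)) &&
    D.wl.all (fun a => D.wl.all fun b =>
      !Nat.beq (rd 4 D.blk a) (rd 4 D.blk b) || Nat.beq a b || D.rel a b || D.wl.any fun c => D.rel a c && D.rel c b)

/-- The permutation of the blocks applied to a quadruple. -/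
def tupAct (s t : ℕ) : ℕ :=
  (D.perms.getD s []).getD (t % 6) 0 + 6 * (D.perms.getD s []).getD (t / 6 % 6) 0 +
    36 * (D.perms.getD s []).getD (t / 36 % 6) 0 + 216 * (D.perms.getD s []).getD (t / 216 % 6) 0

/-- The stabiliser of the first vector of the large orbit. -/
def chkS2 : Bool :=
  D.chkFixW D.v2 D.sg2 && D.chkFixW D.v2 D.kerW &&
    (List.range D.sg2.length).all (fun s => (List.range 6).all fun i =>
      Nat.beq (rd 4 D.blk (D.wC (D.sg2.getD s []) (D.reps.getD i 0))) ((D.perms.getD s []).getD i 0)) &&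
    (List.range 360).all (fun i => chkPred D.tupAct D.sg2.length (rd 12 D.tup) (rd 16 D.prdT) i &&
      Nat.blt (rd 12 D.tup i) 1296) &&
    Nat.beq (rd 12 D.tup 0) 726 && decide ((List.range 360).map (rd 12 D.tup)).Nodup &&
    Nat.beq D.kerW.length 16 &&
    D.kerW.all (fun w => (List.range 6).all fun i => Nat.beq (rd 4 D.blk (D.wC w (D.reps.getD i 0))) i) &&
    decide (D.kerW.map fun w => (List.range 12).map fun i => D.wC w (2 ^ i)).Nodup

end Dat

/-- The images of the bits under the generators of the special unitary group. -/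
def baseImgs : List (List ℕ) :=
  (List.range 3).map fun s => (List.range 12).map fun i =>
    (List.range 6).foldl (fun r row => r + 4 ^ row * ([0, 0, 0, 0, 0, 1, 2, 3, 0, 2, 3, 1, 0, 3, 1, 2].getD
      (4 * ((genRows.getD s []).getD (6 * row + i / 2) 0) + 2 ^ (i % 2)) 0)) 0

/-- A word in the generators of the special unitary group on a code. -/
def baseW (w : List ℕ) (c : ℕ) : ℕ := w.foldr (fun s r => app (baseImgs.getD s []) r) c

/-- The generators of the class are the ones tabled. -/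
def chkGen (k : ℕ) : Bool :=
  Nat.beq (dat k).imgs.length 4 &&
    (dat k).imgs.all (fun l => Nat.beq l.length 12 && l.all fun x => Nat.blt x 4096) &&
    (List.range 3).all (fun j => ((U62U43.hGens.getD k []).getD j []).all (fun s => Nat.blt s 3) &&
      (List.range 12).all fun i =>
        Nat.beq (((dat k).imgs.getD j []).getD i 0) (baseW ((U62U43.hGens.getD k []).getD j []) (2 ^ i)))

end Cfsg.Agent.Spor.LargeFischer
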