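import Cfsg.Agent.Lib.Spor.LargeFischer.Cert0
import Cfsg.Agent.Lib.Spor.LargeFischer.Cert1
import Cfsg.Agent.Lib.Spor.LargeFischer.Cert2
import Cfsg.Agent.Lib.Spor.U62U43.Lift

/-!
The three subgroups `3.U₄(3)` of `SU₆(2)` on the isotropic vectors: two orbits, of lengths 378 and 1701, the first
with point stabilisers without normal 2-subgroups, the second with stabilisers `2⁴.A₆`.
-/

set_option autoImplicit false
set_option maxRecDepth 100000
set_option linter.style.haveILetI false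

open Cfsg Cfsg.Agent.Classical Cfsg.Agent.Spor.Cos Matrix
open Cfsg.Agent.Spor.USixTwo (K4 vecOf sT genM suVal_sT)
open Cfsg.Agent.Spor.U62U43 (cover62 K62 psi psi_ev q62 G43 hGens hg)

namespace Cfsg.Agent.Spor.LargeFischer

/-- The group. -/
abbrev SUV : Type := U62U43.SU62

/-- The natural action. -/
scoped instance suAction : MulAction SUV (Fin 6 → K4) where
  smul x v := suVal x *ᵥ v
  one_smul v := Matrix.one_mulVec v
  mul_smul x y v := by
    show suVal (x * y) *ᵥ v = suVal x *ᵥ (suVal y *ᵥ v)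
    rw [suVal_mul, Matrix.mulVec_mulVec]

theorem smul_def (x : SUV) (v : Fin 6 → K4) : x • v = suVal x *ᵥ v := rfl

theorem smul_add' (x : SUV) (v w : Fin 6 → K4) : x • (v + w) = x • v + x • w := Matrix.mulVec_add _ _ _

theorem smul_scalar (x : SUV) (a : K4) (v : Fin 6 → K4) : x • (a • v) = a • (x • v) := Matrix.mulVec_smul _ _ _

theorem smul_herm (x : SUV) (v w : Fin 6 → K4) : hermForm 6 K4 2 (x • v) (x • w) = hermForm 6 K4 2 v w := x.2 v w

/-- The action as an additive map. -/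
def mvHom (x : SUV) : (Fin 6 → K4) →+ (Fin 6 → K4) := AddMonoidHom.mk' (fun v => x • v) (smul_add' x)

/-- Many points in the orbit make the stabiliser small. -/
theorem orbit_le {G X : Type*} [Group G] [Finite G] [MulAction G X] {S : Subgroup G} {x : X} {n : ℕ} (ys : Fin n → X)
    (hys : Function.Injective ys) (hr : ∀ i, ∃ g ∈ S, g • x = ys i) :
    n * Nat.card ↥(S ⊓ MulAction.stabilizer G x) ≤ Nat.card S := by
  choose g hgS hg using hr
  have h := Nat.card_le_card_of_injective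
    (fun p : Fin n × ↥(S ⊓ MulAction.stabilizer G x) => (⟨g p.1 * p.2.1, S.mul_mem (hgS p.1) p.2.2.1⟩ : S))
    fun p p' h => by
      have h' : g p.1 * p.2.1 = g p'.1 * p'.2.1 := congrArg Subtype.val h
      have e := congrArg (fun a => a • x) h'
      simp only [mul_smul, MulAction.mem_stabilizer_iff.1 p.2.2.2, MulAction.mem_stabilizer_iff.1 p'.2.2.2, hg] at e
      have e1 := hys e
      refine Prod.ext e1 (Subtype.ext ?_)
      rw [e1] at h'
      exact mul_left_cancel h'
  rw [Nat.card_prod, Nat.card_fin] at h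
  exact h

/-- The scalar of order three. -/
def omS : SUV := suMk K4.card_eq (Matrix.diagonal fun _ => K4.of 2) (by
  rw [Matrix.det_diagonal, Fin.prod_univ_six]; decide +kernel)
  (transpose_mul_diagonal K4.card_eq fun _ => by decide +kernel)

theorem omS_smul (v : Fin 6 → K4) : omS • v = K4.of 2 • v := by
  funext i
  show (Matrix.diagonal (fun _ => K4.of 2) *ᵥ v) i = _
  rw [Matrix.mulVec_diagonal]; rfl

/-- The generators of a class. -/
noncomputable def kgen (k s : ℕ) : SUV := if s < 3 then ev sT ((hGens.getD k []).getD s []) else omS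

/-- The label of a vector. -/
def labV (k : ℕ) (v : Fin 6 → K4) : ℕ := (dat k).labC (enc6 v)

variable {k : ℕ}

theorem facts (hk : k < 3) : chkGen k = true ∧ (∀ c < 4096, (dat k).chkC c = true) ∧
    (∀ i < 378, (dat k).chkP1 i = true) ∧ (∀ i < 1701, (dat k).chkP2 i = true) ∧ (dat k).chkO = true ∧
    (dat k).chkChain = true ∧ (dat k).chkBlk = true ∧
    (∀ c < 4096, ((dat k).inW c == (dat k).wl.contains c) = true) ∧ (dat k).chkS2 = true := by
  interval_cases k
  exacts [⟨C0.gen_ok, C0.code_ok, C0.pts1_ok, C0.pts2_ok, C0.orbO_ok, C0.chain_ok, C0.blk_ok, C0.wl_ok, C0.stab2_ok⟩,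
    ⟨C1.gen_ok, C1.code_ok, C1.pts1_ok, C1.pts2_ok, C1.orbO_ok, C1.chain_ok, C1.blk_ok, C1.wl_ok, C1.stab2_ok⟩,
    ⟨C2.gen_ok, C2.code_ok, C2.pts1_ok, C2.pts2_ok, C2.orbO_ok, C2.chain_ok, C2.blk_ok, C2.wl_ok, C2.stab2_ok⟩]

theorem base_tab : ∀ s < 3, (baseImgs.getD s []).length = 12 ∧ (∀ x ∈ baseImgs.getD s [], x < 4096) ∧
    ∀ i < 12, genM s *ᵥ vecOf (2 ^ i) = vecOf ((baseImgs.getD s []).getD i 0) := by decide +kernel

theorem word_base : ∀ w : List ℕ, (∀ s ∈ w, s < 3) → ∀ c < 4096,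
    ev sT w • vecOf c = vecOf (baseW w c) ∧ baseW w c < 4096
  | [], _, c, hc => ⟨by rw [ev, one_smul]; rfl, hc⟩
  | s :: w, hw, c, hc => by
    obtain ⟨e, hlt⟩ := word_base w (fun t ht => hw t (List.mem_cons_of_mem _ ht)) c hc
    have hs : s < 3 := hw s (List.mem_cons_self ..)
    obtain ⟨hl, hb, hi⟩ := base_tab s hs
    refine ⟨?_, app_lt hb _⟩
    rw [ev, mul_smul, e]
    exact app_sound (mvHom (sT s)) hl (fun i h => by
      show suVal (sT s) *ᵥ _ = _
      rw [suVal_sT hs]; exact hi i h) hlt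

theorem gen_tab (hk : k < 3) : (dat k).imgs.length = 4 ∧
    (∀ s < 4, ((dat k).imgs.getD s []).length = 12 ∧ ∀ x ∈ (dat k).imgs.getD s [], x < 4096) ∧
    ∀ j < 3, (∀ s ∈ (hGens.getD k []).getD j [], s < 3) ∧ ∀ i < 12,
      ((dat k).imgs.getD j []).getD i 0 = baseW ((hGens.getD k []).getD j []) (2 ^ i) := by
  have h := (facts hk).1
  simp only [chkGen, Bool.and_eq_true, List.all_eq_true, List.mem_range, Nat.beq_eq, Nat.blt_eq] at h
  obtain ⟨⟨h1, h2⟩, h3⟩ := h
  refine ⟨h1, fun s hs => ?_, fun j hj => h3 j hj⟩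
  have hm : (dat k).imgs.getD s [] ∈ (dat k).imgs := by
    rw [List.getD_eq_getElem _ _ (h1.symm ▸ hs)]; exact List.getElem_mem _
  exact h2 _ hm

theorem om_tab : ∀ j < 3, ∀ i < 12, K4.of 2 • vecOf (2 ^ i) = vecOf (((dat j).imgs.getD 3 []).getD i 0) := by
  decide +kernel

theorem gen_act (hk : k < 3) {s : ℕ} (hs : s < 4) {c : ℕ} (hc : c < 4096) :
    kgen k s • vecOf c = vecOf ((dat k).ap s c) ∧ (dat k).ap s c < 4096 := by
  obtain ⟨-, h2, h3⟩ := gen_tab hk
  refine ⟨app_sound (mvHom (kgen k s)) (h2 s hs).1 (fun i hi => ?_) hc, app_lt (h2 s hs).2 _⟩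
  show kgen k s • vecOf (2 ^ i) = _
  rcases Nat.lt_or_ge s 3 with h | h
  · rw [kgen, if_pos h, ((h3 s h).2 i hi)]
    exact (word_base _ (h3 s h).1 _ ((Nat.pow_lt_pow_right (by norm_num) hi).trans_le le_rfl)).1
  · obtain rfl : s = 3 := by omega
    rw [kgen, if_neg (by omega), omS_smul]
    exact om_tab k hk i hi

theorem word_act (hk : k < 3) : ∀ w : List ℕ, (∀ s ∈ w, s < 4) → ∀ c < 4096,
    ev (kgen k) w • vecOf c = vecOf ((dat k).wC w c) ∧ (dat k).wC w c < 4096
  | [], _, c, hc => ⟨by rw [ev, one_smul]; rfl, hc⟩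
  | s :: w, hw, c, hc => by
    obtain ⟨e, hlt⟩ := word_act hk w (fun t ht => hw t (List.mem_cons_of_mem _ ht)) c hc
    obtain ⟨e', hlt'⟩ := gen_act hk (hw s (List.mem_cons_self ..)) hlt
    exact ⟨by rw [ev, mul_smul, e, e']; rfl, hlt'⟩

theorem om_code (hk : k < 3) {c : ℕ} (hc : c < 4096) :
    K4.of 2 • vecOf c = vecOf ((dat k).omC c) ∧ (dat k).omC c < 4096 := by
  obtain ⟨e, h⟩ := gen_act hk (by norm_num : 3 < 4) hc
  rw [kgen, if_neg (by omega), omS_smul] at e
  exact ⟨e, h⟩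

theorem q62_omS : q62 omS = 1 := by
  refine (QuotientGroup.eq_one_iff _).2 (mem_center_of_suVal_scalar (c := K4.of 2) ?_)
  show Matrix.diagonal _ = _
  rw [Matrix.scalar_apply]

theorem q62_gen (j : ℕ) (hj : j < 3) : q62 (kgen k j) = hg k j := by
  rw [kgen, if_pos hj, ev_map]
  rfl

theorem kgen_mem (hk : k < 3) (s : ℕ) : kgen k s ∈ cover62 k := by
  show q62 (kgen k s) ∈ K62 k
  rcases Nat.lt_or_ge s 3 with h | h
  · rw [q62_gen s h]
    exact ⟨UFourThree.gT s, by rw [show UFourThree.gT s = ev UFourThree.gT [s] from (mul_one _).symm, psi_ev hk]; exact mul_one _⟩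
  · rw [kgen, if_neg (by omega), q62_omS]; exact one_mem _

theorem word_mem (hk : k < 3) (w : List ℕ) : ev (kgen k) w ∈ cover62 k := ev_mem w fun s _ => kgen_mem hk s

/-- The class is generated by its four generators. -/
theorem cover_gen (hk : k < 3) : cover62 k = Subgroup.closure {x | ∃ s < 4, kgen k s = x} := by
  refine le_antisymm (fun x hx => ?_) ((Subgroup.closure_le _).2 fun x ⟨s, _, e⟩ => e ▸ kgen_mem hk s)
  set T := Subgroup.closure {x : SUV | ∃ s < 4, kgen k s = x} with hT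
  obtain ⟨a, ha⟩ := (show q62 x ∈ K62 k from hx)
  have hker : ∀ y : SUV, q62 y = 1 → y ∈ T := fun y hy => by
    have hy' : y ∈ Subgroup.center SUV := (QuotientGroup.eq_one_iff _).1 hy
    obtain ⟨c, hc⟩ := suVal_scalar_of_mem_center K4.card_eq hy'
    have hc0 : c ≠ 0 := by
      intro h0
      have := y.1.2
      rw [show y.1.1 = Matrix.scalar (Fin 6) c from hc, h0, map_zero, Matrix.det_zero] at this
      exact zero_ne_one this
    have hom : omS ∈ T := Subgroup.subset_closure ⟨3, by norm_num, by rw [kgen, if_neg (by omega)]⟩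
    have hv : ∀ v : Fin 6 → K4, y • v = c • v := fun v => by
      funext i
      show (suVal y *ᵥ v) i = _
      rw [hc, Matrix.scalar_apply, Matrix.mulVec_diagonal]; rfl
    have hext : ∀ z : SUV, (∀ v : Fin 6 → K4, z • v = y • v) → z = y := fun z hz =>
      suVal_ext (Matrix.toLin'.injective (LinearMap.ext fun v => by simpa [Matrix.toLin'_apply, smul_def] using hz v))
    rcases (show ∀ c : K4, c = 0 ∨ c = 1 ∨ c = K4.of 2 ∨ c = K4.of 2 * K4.of 2 by decide +kernel) c with h | h | h | h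
    · exact absurd h hc0
    · rw [← hext 1 fun v => by rw [hv, h, one_smul, one_smul]]; exact one_mem _
    · rw [← hext omS fun v => by rw [hv, h, omS_smul]]; exact hom
    · rw [← hext (omS * omS) fun v => by rw [hv, h, mul_smul omS, omS_smul, omS_smul, smul_smul]]
      exact mul_mem hom hom
  have hmap : psi k a ∈ T.map q62 := by
    refine (Subgroup.closure_le (K := (T.map q62).comap (psi k))).2 ?_
      (UFourThree.gen.symm ▸ Subgroup.mem_top a)
    rintro _ ⟨j, hj, rfl⟩
    refine ⟨kgen k j, Subgroup.subset_closure ⟨j, by omega, rfl⟩, ?_⟩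
    rw [q62_gen j hj, show UFourThree.gT j = ev UFourThree.gT [j] from (mul_one _).symm, psi_ev hk]
    exact (mul_one _).symm
  obtain ⟨t, ht, e⟩ := hmap
  rw [show x = t * (t⁻¹ * x) by group]
  exact mul_mem ht (hker _ (by rw [map_mul, map_inv, e, ha, inv_mul_cancel]))

theorem lab_facts (hk : k < 3) (v : Fin 6 → K4) :
    (labV k v = 0 ∧ (v = 0 ∨ hermForm 6 K4 2 v v ≠ 0)) ∨
      ((labV k v = 1 ∨ labV k v = 2) ∧ v ≠ 0 ∧ hermForm 6 K4 2 v v = 0) := by
  have h := (facts hk).2.1 _ (enc6_lt v)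
  have hh : hermForm 6 K4 2 v v = K4.of (hermC (enc6 v) (enc6 v)) := by
    conv_lhs => rw [← vecOf_enc6 v]
    exact hermC_sound _ _
  have hv0 : enc6 v = 0 ↔ v = 0 :=
    ⟨fun e => by rw [← vecOf_enc6 v, e, vecOf_zero], fun e => by subst e; rfl⟩
  have hof : hermC (enc6 v) (enc6 v) ≠ 0 → K4.of (hermC (enc6 v) (enc6 v)) ≠ 0 := fun h0 e => by
    have hlt : hermC (enc6 v) (enc6 v) % 4 = 0 := congrArg (fun a : K4 => a.v.1) e
    have h4 : hermC (enc6 v) (enc6 v) < 4 := by
      rw [hermC]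
      refine List.foldlRecOn (motive := fun s => s < 4) _ _ (by norm_num) fun s hs i _ => ?_
      exact Nat.xor_lt_two_pow (n := 2) hs
        (hermC_term _ (Nat.mod_lt _ (by norm_num)) _ (Nat.mod_lt _ (by norm_num))).2
    omega
  simp only [Dat.chkC] at h
  simp only [labV]
  split at h <;> rename_i e
  · simp only [Bool.and_eq_true, Bool.or_eq_true, Nat.beq_eq, Bool.not_eq_true', List.all_eq_true] at h
    refine Or.inl ⟨e, h.1.imp hv0.1 fun h0 => ?_⟩
    rw [hh]; exact hof fun e0 => by simp [e0] at h0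
  all_goals first
    | (simp only [Bool.and_eq_true, Nat.beq_eq, Bool.not_eq_true'] at h
       refine Or.inr ⟨by omega, fun e0 => by simp [hv0.2 e0] at h, ?_⟩
       rw [hh, h.1.1.1.2]; rfl)
    | exact absurd h Bool.false_ne_true

theorem lab_cases (hk : k < 3) (v : Fin 6 → K4) : labV k v = 0 ∨ labV k v = 1 ∨ labV k v = 2 := by
  rcases lab_facts hk v with ⟨h, -⟩ | ⟨h, -, -⟩
  · exact Or.inl h
  · exact Or.inr h

theorem lab_pos (hk : k < 3) {v : Fin 6 → K4} (h0 : v ≠ 0) (hh : hermForm 6 K4 2 v v = 0) :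
    labV k v = 1 ∨ labV k v = 2 := by
  rcases lab_facts hk v with ⟨-, h⟩ | ⟨h, -, -⟩
  · exact absurd hh (h.resolve_left h0)
  · exact h

/-- The label is invariant. -/
theorem lab_smul (hk : k < 3) {x : SUV} (hx : x ∈ cover62 k) (v : Fin 6 → K4) : labV k (x • v) = labV k v := by
  rw [cover_gen hk] at hx
  induction hx using Subgroup.closure_induction generalizing v with
  | one => rw [one_smul]
  | mul a b _ _ iha ihb => rw [mul_smul, iha, ihb]
  | inv a _ ih => rw [← ih (a⁻¹ • v), smul_inv_smul]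
  | mem y hy =>
    obtain ⟨s, hs, rfl⟩ := hy
    obtain ⟨e, hlt⟩ := gen_act hk hs (enc6_lt v)
    rw [vecOf_enc6] at e
    have h := (facts hk).2.1 _ (enc6_lt v)
    simp only [Dat.chkC] at h
    simp only [labV, e, enc6_vecOf hlt]
    split at h <;> rename_i el
    all_goals first
      | exact absurd h Bool.false_ne_true
      | (simp only [Bool.and_eq_true, List.all_eq_true, List.mem_range, Nat.beq_eq] at h
         rw [el]; exact h.2 s hs)

/-- The stabiliser in the class. -/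
noncomputable def stab (k : ℕ) (v : Fin 6 → K4) : Subgroup SUV := cover62 k ⊓ MulAction.stabilizer SUV v

theorem mem_stab {x : SUV} {v : Fin 6 → K4} : x ∈ stab k v ↔ x ∈ cover62 k ∧ x • v = v := Iff.rfl

/-- The first vector of an orbit. -/
def rep (k l : ℕ) : Fin 6 → K4 := vecOf (if l = 1 then (dat k).v1 else (dat k).v2)

theorem rd_lt (n i : ℕ) : rd 12 n i < 4096 := Nat.mod_lt _ (by norm_num)

theorem orbit_pts (hk : k < 3) :
    (∀ i < 378, ∃ x ∈ cover62 k, x • rep k 1 = vecOf (rd 12 (dat k).pts1 i)) ∧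
      ∀ i < 1701, ∃ x ∈ cover62 k, x • rep k 2 = vecOf (rd 12 (dat k).pts2 i) := by
  obtain ⟨-, -, h1, h2, -⟩ := facts hk
  constructor
  · rw [show rep k 1 = vecOf (rd 12 (dat k).pts1 0) from by rw [rep, if_pos rfl]; rfl]
    refine reach (X := Fin 6 → K4) (G := SUV) (g := kgen k) (act := (dat k).ap) (ngen := 4)
      (pts := rd 12 (dat k).pts1) (prd := rd 16 (dat k).prd1) vecOf
      (fun s _ => kgen_mem hk s) (fun s hs i _ => (gen_act hk hs (rd_lt _ i)).1) fun i hi => ?_
    have := h1 i hi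
    simp only [Dat.chkP1, Bool.and_eq_true] at this
    exact this.1.1
  · rw [show rep k 2 = vecOf (rd 12 (dat k).pts2 0) from by rw [rep, if_neg (by norm_num)]; rfl]
    refine reach (X := Fin 6 → K4) (G := SUV) (g := kgen k) (act := (dat k).ap) (ngen := 4)
      (pts := rd 12 (dat k).pts2) (prd := rd 16 (dat k).prd2) vecOf
      (fun s _ => kgen_mem hk s) (fun s hs i _ => (gen_act hk hs (rd_lt _ i)).1) fun i hi => ?_
    have := h2 i hi
    simp only [Dat.chkP2, Bool.and_eq_true] at this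
    exact this.1.1

theorem exists_rep (hk : k < 3) {v : Fin 6 → K4} {l : ℕ} (hl : l = 1 ∨ l = 2) (hv : labV k v = l) :
    ∃ x ∈ cover62 k, x • rep k l = v := by
  have h := (facts hk).2.1 _ (enc6_lt v)
  simp only [Dat.chkC] at h
  rw [show (dat k).labC (enc6 v) = l from hv] at h
  rcases hl with rfl | rfl <;> simp only [Bool.and_eq_true, Nat.beq_eq, Nat.blt_eq] at h
  · obtain ⟨x, hx, e⟩ := (orbit_pts hk).1 _ h.1.1.2
    exact ⟨x, hx, by rw [e, h.1.2, vecOf_enc6]⟩
  · obtain ⟨x, hx, e⟩ := (orbit_pts hk).2 _ h.1.1.2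
    exact ⟨x, hx, by rw [e, h.1.2, vecOf_enc6]⟩

theorem transitive (hk : k < 3) {v w : Fin 6 → K4} {l : ℕ} (hl : l = 1 ∨ l = 2) (hv : labV k v = l)
    (hw : labV k w = l) : ∃ x ∈ cover62 k, x • v = w := by
  obtain ⟨a, ha, ea⟩ := exists_rep hk hl hv
  obtain ⟨b, hb, eb⟩ := exists_rep hk hl hw
  exact ⟨b * a⁻¹, mul_mem hb (inv_mem ha), by rw [mul_smul, ← ea, inv_smul_smul, eb]⟩

theorem card_lab (hk : k < 3) : Nat.card {v : Fin 6 → K4 // labV k v = 1} = 378 ∧
    Nat.card {v : Fin 6 → K4 // labV k v = 2} = 1701 := by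
  obtain ⟨-, hc, h1, h2, -⟩ := facts hk
  constructor
  · rw [← Nat.card_fin 378]
    refine (Nat.card_congr (Equiv.ofBijective (fun i : Fin 378 => (⟨vecOf (rd 12 (dat k).pts1 i.1), ?_⟩ :
      {v : Fin 6 → K4 // labV k v = 1})) ⟨fun i j h => ?_, fun v => ?_⟩)).symm
    · have := h1 i i.2
      simp only [Dat.chkP1, Bool.and_eq_true, Nat.beq_eq] at this
      rw [labV, enc6_vecOf (rd_lt _ _)]; exact this.1.2
    · have a := h1 i i.2; have b := h1 j j.2
      simp only [Dat.chkP1, Bool.and_eq_true, Nat.beq_eq] at a b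
      exact Fin.ext (by rw [← a.2, vecOf_inj (rd_lt _ _) (rd_lt _ _) (congrArg Subtype.val h), b.2])
    · have h := hc _ (enc6_lt v.1)
      simp only [Dat.chkC] at h
      rw [show (dat k).labC (enc6 v.1) = 1 from v.2] at h
      simp only [Bool.and_eq_true, Nat.beq_eq, Nat.blt_eq] at h
      exact ⟨⟨_, h.1.1.2⟩, Subtype.ext (by show vecOf _ = _; rw [h.1.2, vecOf_enc6])⟩
  · rw [← Nat.card_fin 1701]
    refine (Nat.card_congr (Equiv.ofBijective (fun i : Fin 1701 => (⟨vecOf (rd 12 (dat k).pts2 i.1), ?_⟩ :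
      {v : Fin 6 → K4 // labV k v = 2})) ⟨fun i j h => ?_, fun v => ?_⟩)).symm
    · have := h2 i i.2
      simp only [Dat.chkP2, Bool.and_eq_true, Nat.beq_eq] at this
      rw [labV, enc6_vecOf (rd_lt _ _)]; exact this.1.2
    · have a := h2 i i.2; have b := h2 j j.2
      simp only [Dat.chkP2, Bool.and_eq_true, Nat.beq_eq] at a b
      exact Fin.ext (by rw [← a.2, vecOf_inj (rd_lt _ _) (rd_lt _ _) (congrArg Subtype.val h), b.2])
    · have h := hc _ (enc6_lt v.1)
      simp only [Dat.chkC] at h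
      rw [show (dat k).labC (enc6 v.1) = 2 from v.2] at h
      simp only [Bool.and_eq_true, Nat.beq_eq, Nat.blt_eq] at h
      exact ⟨⟨_, h.1.1.2⟩, Subtype.ext (by show vecOf _ = _; rw [h.1.2, vecOf_enc6])⟩

theorem card_cover (hk : k < 3) : Nat.card (cover62 k) = 9797760 := by
  obtain ⟨h3, ⟨e⟩⟩ := U62U43.cover_good hk
  rw [Subgroup.card_eq_card_quotient_mul_card_subgroup (Subgroup.center ↥(cover62 k)), h3, Nat.card_congr e.toEquiv,
    UFourThree.card_G43]

instance : Finite SUV := inferInstance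

theorem card_stab_le (hk : k < 3) : Nat.card (stab k (rep k 1)) ≤ 25920 ∧ Nat.card (stab k (rep k 2)) ≤ 5760 := by
  obtain ⟨o1, o2⟩ := orbit_pts hk
  obtain ⟨-, -, h1, h2, -⟩ := facts hk
  constructor
  · have := orbit_le (S := cover62 k) (x := rep k 1) (fun i : Fin 378 => vecOf (rd 12 (dat k).pts1 i.1))
      (fun i j h => by
        have a := h1 i i.2; have b := h1 j j.2
        simp only [Dat.chkP1, Bool.and_eq_true, Nat.beq_eq] at a b
        exact Fin.ext (by rw [← a.2, vecOf_inj (rd_lt _ _) (rd_lt _ _) h, b.2])) (fun i => o1 i i.2)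
    rw [card_cover hk] at this
    exact Nat.le_of_mul_le_mul_left (this.trans (le_of_eq (by norm_num))) (by norm_num)
  · have := orbit_le (S := cover62 k) (x := rep k 2) (fun i : Fin 1701 => vecOf (rd 12 (dat k).pts2 i.1))
      (fun i j h => by
        have a := h2 i i.2; have b := h2 j j.2
        simp only [Dat.chkP2, Bool.and_eq_true, Nat.beq_eq] at a b
        exact Fin.ext (by rw [← a.2, vecOf_inj (rd_lt _ _) (rd_lt _ _) h, b.2])) (fun i => o2 i i.2)
    rw [card_cover hk] at this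
    exact Nat.le_of_mul_le_mul_left (this.trans (le_of_eq (by norm_num))) (by norm_num)

theorem fixW (hk : k < 3) {c : ℕ} (hc : c < 4096) {ws : List (List ℕ)} (h : (dat k).chkFixW c ws = true)
    {w : List ℕ} (hw : w ∈ ws) : (∀ s ∈ w, s < 4) ∧ ev (kgen k) w ∈ stab k (vecOf c) := by
  have := List.all_eq_true.1 h w hw
  simp only [Bool.and_eq_true, List.all_eq_true, Nat.blt_eq, Nat.beq_eq] at this
  exact ⟨this.1, word_mem hk w, by
    show ev (kgen k) w • vecOf c = vecOf c
    rw [(word_act hk w this.1 c hc).1, this.2]⟩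

end Cfsg.Agent.Spor.LargeFischer
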