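import Cfsg.Agent.Lib.Spor.LargeFischer.Checks
import Cfsg.Agent.Lib.Spor.LargeFischer.Ext0
import Cfsg.Agent.Lib.Spor.LargeFischer.Ext1
import Cfsg.Agent.Lib.Spor.LargeFischer.Ext2

/-! The checks of the further tables: the vectors moved along the fixed vector, pairs of elements of order three. -/

set_option autoImplicit false
set_option maxRecDepth 100000

namespace Cfsg.Agent.Spor.LargeFischer

/-- The trace of the form on codes. -/
def trC (a b : ℕ) : Bool := Nat.blt 1 (hermC a b)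

/-- The cocycle on codes. -/
def betaC (a b : ℕ) : ℕ := if Nat.beq (hermC b a) 1 || Nat.beq (hermC b a) 2 then 1 else 0

/-- The candidates for the second element. -/
def bPerm : ℕ → List (List ℕ)
  | 0 => [[1, 3, 4, 0, 5, 2], [1, 4, 5, 2, 0, 3], [1, 5, 3, 4, 2, 0], [2, 3, 5, 4, 1, 0], [2, 4, 3, 0, 5, 1],
      [2, 5, 4, 1, 0, 3], [3, 0, 4, 1, 5, 2], [3, 2, 5, 4, 0, 1], [3, 4, 0, 2, 5, 1], [3, 5, 1, 4, 0, 2],
      [4, 0, 5, 2, 1, 3], [4, 2, 3, 1, 5, 0], [4, 3, 1, 2, 5, 0], [4, 5, 0, 1, 2, 3], [5, 0, 3, 4, 2, 1],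
      [5, 2, 4, 0, 1, 3], [5, 3, 0, 4, 1, 2], [5, 4, 1, 0, 2, 3]]
  | _ => [[0, 1, 3, 4, 2, 5], [0, 1, 4, 3, 5, 2], [0, 1, 5, 2, 4, 3], [0, 2, 3, 1, 4, 5], [0, 2, 4, 3, 1, 5],
      [0, 2, 5, 3, 4, 1], [0, 3, 2, 4, 1, 5], [0, 4, 2, 3, 5, 1], [0, 5, 2, 1, 4, 3], [1, 3, 2, 0, 4, 5],
      [1, 4, 2, 3, 0, 5], [1, 5, 2, 3, 4, 0], [3, 1, 0, 2, 4, 5], [3, 1, 2, 4, 0, 5], [4, 1, 0, 3, 2, 5],
      [4, 1, 2, 3, 5, 0], [5, 1, 0, 3, 4, 2], [5, 1, 2, 0, 4, 3]]

/-- The first element. -/
def rPerm : List (List ℕ) := [[0, 1, 2, 4, 5, 3], [1, 2, 0, 4, 5, 3]]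

/-- The further tables of a class. -/
structure Ext where
  /-- images of the bits under the sixteen elements fixing the blocks -/
  kimg : List (List ℕ)
  /-- basis of the vectors moved by them only along the fixed vector -/
  sob : List ℕ
  /-- adapted basis -/
  bB : List ℕ
  /-- coordinates in it -/
  bI : List ℕ
  /-- elements with given displacements -/
  pat : List ℕ
  /-- first elements -/
  rW : List (List ℕ)
  /-- their images of the bits -/
  rImg : List (List ℕ)
  /-- second elements -/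
  bW : List (List (List ℕ))
  /-- their images of the bits -/
  bImg : List (List (List ℕ))
  /-- solutions -/
  wit : ℕ
  /-- a pair -/
  pW : List (List ℕ)
  /-- its images of the bits -/
  pImg : List (List ℕ)
  /-- conjugation by it -/
  pConj : List (List ℕ)
  /-- products among the sixteen -/
  mul : List (List ℕ)
  /-- representatives -/
  uj : List (List ℕ)
  /-- commutators -/
  comms : List (List (List ℕ))
  /-- the scalar as a word -/
  omW : List ℕ

/-- The further tables. -/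
def ext : ℕ → Ext
  | 0 => ⟨X0.kimg, X0.sob, X0.bB, X0.bI, X0.pat, X0.rW, X0.rImg, X0.bW, X0.bImg, X0.wit, X0.pW, X0.pImg, X0.pConj,
      X0.mul, X0.uj, X0.comms, X0.omW⟩
  | 1 => ⟨X1.kimg, X1.sob, X1.bB, X1.bI, X1.pat, X1.rW, X1.rImg, X1.bW, X1.bImg, X1.wit, X1.pW, X1.pImg, X1.pConj,
      X1.mul, X1.uj, X1.comms, X1.omW⟩
  | _ => ⟨X2.kimg, X2.sob, X2.bB, X2.bI, X2.pat, X2.rW, X2.rImg, X2.bW, X2.bImg, X2.wit, X2.pW, X2.pImg, X2.pConj,
      X2.mul, X2.uj, X2.comms, X2.omW⟩

namespace Ext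

variable (X : Ext) (D : Dat)

/-- One of the sixteen on a code. -/
def kap (j c : ℕ) : ℕ := app (X.kimg.getD j []) c

/-- A member of the space. -/
def sb (i : ℕ) : ℕ := X.sob.getD i 0

/-- The space of vectors moved only along the fixed vector. -/
def inSO (c : ℕ) : Bool := (List.range 6).all fun i => !trC c (X.sb i)

/-- The space as moved vectors. -/
def chkSO (c : ℕ) : Bool :=
  X.inSO c == (List.range 16).all fun j => Nat.beq (X.kap j c) c || Nat.beq (X.kap j c) (c ^^^ D.v2)

/-- The adapted basis. -/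
def chkB (c : ℕ) : Bool :=
  Nat.beq (app X.bB (app X.bI c)) c && (!Nat.blt (hermC c D.v2) 2 || Nat.blt (app X.bI c) 2048) &&
    (!((List.range 10).all fun i => trC c (X.bB.getD i 0) == trC (X.bB.getD 10 0) (X.bB.getD i 0)) ||
      !Nat.beq (hermC c c) (hermC (X.bB.getD 10 0) (X.bB.getD 10 0)) ||
      Nat.beq c (X.bB.getD 10 0) || Nat.beq c (X.bB.getD 10 0 ^^^ D.v2))

/-- The permutation of the blocks of an additive map. -/
def permI (l : List ℕ) : List ℕ := (List.range 6).map fun i => rd 4 D.blk (app l (D.reps.getD i 0))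

/-- Images of the bits of a word. -/
def chkImg (w l : List ℕ) : Bool :=
  w.all (fun s => Nat.blt s 4) && Nat.beq (D.wC w D.v2) D.v2 && Nat.beq l.length 12 && l.all (fun x => Nat.blt x 4096) &&
    (List.range 12).all fun i => Nat.beq (D.wC w (2 ^ i)) (l.getD i 0)

/-- The lists. -/
def chkBase : Bool :=
  Nat.beq X.kimg.length 16 && (List.range 16).all (fun j => chkImg D (D.kerW.getD j []) (X.kimg.getD j [])) &&
    Nat.beq X.sob.length 6 && X.sob.all (fun x => Nat.blt x 4096) && Nat.beq (X.sb 0) D.v2 &&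
    Nat.beq (X.sb 1) (D.omC D.v2) &&
    Nat.beq X.bB.length 12 && X.bB.all (fun x => Nat.blt x 4096) && Nat.beq X.bI.length 12 &&
    X.bI.all (fun x => Nat.blt x 4096) &&
    (List.range 6).all (fun i => Nat.beq (X.bB.getD i 0) (X.sb i)) &&
    (List.range 4).all (fun i => Nat.beq (X.bB.getD (6 + i) 0) (D.omC (X.sb (2 + i)))) &&
    Nat.beq (X.bB.getD 11 0) (D.omC (X.bB.getD 10 0)) &&
    (List.range 16).all (fun p => Nat.blt (X.pat.getD p 16) 16 && (List.range 4).all fun i =>
      Nat.beq (X.kap (X.pat.getD p 0) (X.sb (2 + i))) (if p.testBit i then X.sb (2 + i) ^^^ D.v2 else X.sb (2 + i))) &&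
    (List.range 16).all (fun i => (List.range 16).all fun j => Nat.blt ((X.mul.getD i []).getD j 16) 16 &&
      (List.range 12).all fun b =>
        Nat.beq (X.kap i ((X.kimg.getD j []).getD b 0)) ((X.kimg.getD ((X.mul.getD i []).getD j 0) []).getD b 0))

/-- The lifts of the candidates. -/
def chkPairs : Bool :=
  (List.range 2).all fun r => chkImg D (X.rW.getD r []) (X.rImg.getD r []) &&
    (permI D (X.rImg.getD r []) == rPerm.getD r []) &&
    (List.range 18).all fun i => chkImg D ((X.bW.getD r []).getD i []) ((X.bImg.getD r []).getD i []) &&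
      (permI D ((X.bImg.getD r []).getD i []) == (bPerm r).getD i [])

/-- Twice the difference from the identity. -/
def sqd (f : ℕ → ℕ) (t : ℕ) : ℕ := (fun y => f y ^^^ y) (f t ^^^ t)

/-- An element of a coset on a code. -/
def cosR (r j c : ℕ) : ℕ := app (X.rImg.getD r []) (X.kap j c)

/-- An element of a coset on a code. -/
def cosB (r i j c : ℕ) : ℕ := app ((X.bImg.getD r []).getD i []) (X.kap j c)

/-- The fixed vector is a sum of commutators. -/
def chkWit (n : ℕ) : Bool :=
  !trC (rd 24 X.wit n % 4096) D.v2 && !trC (rd 24 X.wit n / 4096) D.v2 &&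
    Nat.beq (sqd (X.cosR (n / 4608) (n / 288 % 16)) (rd 24 X.wit n % 4096) ^^^
      sqd (X.cosB (n / 4608) (n / 16 % 18) (n % 16)) (rd 24 X.wit n / 4096)) D.v2

/-- A member of the pair on a code. -/
def pAp (e c : ℕ) : ℕ := app (X.pImg.getD e []) c

/-- The pair. -/
def chkPair : Bool :=
  (List.range 2).all (fun e => chkImg D (X.pW.getD e []) (X.pImg.getD e []) &&
    (List.range 12).all (fun b => Nat.beq (X.pAp e (X.pAp e (X.pAp e (2 ^ b)))) (2 ^ b)) &&
    (List.range 16).all fun o => Nat.blt ((X.pConj.getD e []).getD o 16) 16 && (List.range 12).all fun b =>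
      Nat.beq (X.pAp e (X.kap o (2 ^ b))) (X.kap ((X.pConj.getD e []).getD o 0) (X.pAp e (2 ^ b)))) &&
    (List.range 12).all (fun b =>
      Nat.beq ((List.range 4).foldl (fun c _ => X.pAp 0 (X.pAp 1 c)) (2 ^ b)) (2 ^ b) &&
      Nat.beq ((List.range 5).foldl (fun c _ => X.pAp 0 (X.pAp 0 (X.pAp 1 c))) (2 ^ b)) (2 ^ b)) &&
    (List.range 2).all fun ε => (List.range 16).all fun j => Nat.blt ((X.uj.getD ε []).getD j 4096) 4096 &&
      (List.range 6).all fun i => trC ((X.uj.getD ε []).getD j 0) (X.kap j (X.sb i)) ==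
        (!Nat.beq (X.kap j (X.sb i)) (X.sb i) && Nat.beq ((ε + betaC D.v2 (X.sb i)) % 2) 1)

/-- The product used in a commutator. -/
def cm (e j : ℕ) : ℕ := (X.mul.getD ((X.pConj.getD e []).getD j 0) []).getD j 0

/-- The code of a commutator. -/
def commC (e u j : ℕ) : ℕ :=
  (X.pAp e u ^^^ X.kap (X.cm e j) u) + 4096 * betaC (X.pAp e u ^^^ X.kap (X.cm e j) u) (X.kap (X.cm e j) u) +
    8192 * X.cm e j

/-- A commutator is listed. -/
def chkComm (n : ℕ) : Bool :=
  (List.range 2).all fun e => ((X.comms.getD (n / 1024) []).getD e []).contains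
    (X.commC e ((X.uj.getD (n / 1024) []).getD (n / 64 % 16) 0 ^^^ app X.sob (n % 64)) (n / 64 % 16))

/-- No product of two listed commutators is one of two given elements. -/
def goodProd (ε x y : ℕ) : Bool :=
  (fun r c =>
    !((Nat.beq r 0 && Nat.beq c 1) || (Nat.beq r D.v2 && Nat.beq c ((ε + 1) % 2))) ||
      !(List.range 12).all fun b =>
        Nat.beq ((X.kimg.getD ((X.mul.getD (x / 8192) []).getD (y / 8192) 0) []).getD b 0) (2 ^ b))
    (x % 4096 ^^^ X.kap (x / 8192) (y % 4096))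
    ((x / 4096 % 2 + y / 4096 % 2 + betaC (x % 4096) (X.kap (x / 8192) (y % 4096))) % 2)

/-- The commutators never multiply to the central element. -/
def chkProd : Bool :=
  (List.range 2).all fun ε => ((X.comms.getD ε []).getD 0 []).all fun x => ((X.comms.getD ε []).getD 1 []).all fun y =>
    X.goodProd D ε x y

/-- The scalar is a word with exponent sums divisible by three. -/
def chkOm : Bool :=
  X.omW.all (fun s => Nat.blt s 3) && (List.range 3).all (fun s => Nat.beq (X.omW.count s % 3) 0) &&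
    (List.range 12).all fun b => Nat.beq (D.wC X.omW (2 ^ b)) (D.omC (2 ^ b))

end Ext

end Cfsg.Agent.Spor.LargeFischer
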