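import Cfsg.Agent.Lib.Spor.LargeFischer.Classes

/-!
Coordinates on the extraspecial group: squares and commutators from the form, and, for an element inducing a scalar
of order three, the second coordinate that it distinguishes, with its cocycle.
-/

set_option autoImplicit false
set_option maxRecDepth 100000
set_option linter.style.haveILetI false
set_option linter.unusedSectionVars false

open Cfsg Cfsg.Agent.Classical Matrix
open Cfsg.Agent.Spor.USixTwo (K4)

namespace Cfsg.Agent.Spor.LargeFischer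

/-- The trace bit. -/
def trb (x : K4) : ZMod 2 := if x = K4.of 2 ∨ x = K4.of 3 then 1 else 0

theorem trb_add : ∀ x y : K4, trb (x + y) = trb x + trb y := by decide +kernel

theorem trb_facts : trb 0 = 0 ∧ trb 1 = 0 ∧
    (∀ x : K4, trb (x ^ 2) = trb x) ∧
    (∀ h : K4, trb (K4.of 2 ^ 2 * h) + trb ((K4.of 2 * K4.of 2) ^ 2 * h) +
      trb (K4.of 2 * ((K4.of 2 * K4.of 2) ^ 2 * h)) = trb (K4.of 2 * h)) ∧
    (∀ a b c : K4, a ^ 2 = a → b ^ 2 = b → (if a + b + (c + c ^ 2) = 0 then (0 : ZMod 2) else 1) =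
      (if a = 0 then 0 else 1) + (if b = 0 then 0 else 1) + trb c) := by decide +kernel

/-- The symplectic form. -/
def T6 (u w : Fin 6 → K4) : ZMod 2 := trb (hermForm 6 K4 2 u w)

/-- The norm bit. -/
def nb (u : Fin 6 → K4) : ZMod 2 := if hermForm 6 K4 2 u u = 0 then 0 else 1

/-- The cocycle. -/
def bet (u w : Fin 6 → K4) : ZMod 2 := trb (K4.of 2 * hermForm 6 K4 2 w u)

theorem herm_smul_right (c : K4) (u w : Fin 6 → K4) :
    hermForm 6 K4 2 u (c • w) = c ^ 2 * hermForm 6 K4 2 u w := by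
  rw [herm_swap (c • w) u, herm_smul, mul_pow, ← herm_swap]

theorem T6_comm (u w : Fin 6 → K4) : T6 w u = T6 u w := by
  rw [T6, T6, herm_swap, trb_facts.2.2.1]

theorem T6_add_left (u u' w : Fin 6 → K4) : T6 (u + u') w = T6 u w + T6 u' w := by
  rw [T6, hermForm_add_left, trb_add]; rfl

theorem T6_add_right (u w w' : Fin 6 → K4) : T6 u (w + w') = T6 u w + T6 u w' := by
  rw [T6_comm, T6_add_left, T6_comm, T6_comm w' u]

theorem T6_smul (x : SUV) (u w : Fin 6 → K4) : T6 (x • u) (x • w) = T6 u w := congrArg trb (smul_herm x u w)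

theorem nb_add (u w : Fin 6 → K4) : nb (u + w) = nb u + nb w + T6 u w := by
  rw [nb, herm_add]
  exact trb_facts.2.2.2.2 _ _ _ (herm_swap u u).symm (herm_swap w w).symm

theorem bet_comm_add (u w : Fin 6 → K4) : bet u w + bet w u = T6 u w := by
  rw [bet, bet, T6, herm_swap w u]
  generalize hermForm 6 K4 2 w u = h
  revert h
  decide +kernel

namespace Model

variable {G : Type*} [Group G] [Finite G] {z : G} {Q : Subgroup (Subgroup.centralizer ({z} : Set G))}
  [hQn : Q.Normal] (m : Model z Q)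

include m

theorem z_mem : (⟨z, Subgroup.mem_centralizer_singleton_iff.2 rfl⟩ : Subgroup.centralizer ({z} : Set G)) ∈ Q := by
  obtain ⟨q, hq⟩ := mem_QG.1 m.ext.mem
  exact (show (⟨z, Subgroup.mem_centralizer_singleton_iff.2 rfl⟩ : Subgroup.centralizer ({z} : Set G)) = q from
    Subtype.ext hq.symm) ▸ q.2

/-- The central involution. -/
def zq : Q := ⟨_, m.z_mem⟩

theorem gv_zq : gv m.zq = z := rfl

theorem zq_ne : m.zq ≠ 1 := fun e => m.ext.ne (congrArg (fun q : Q => gv q) e)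

theorem zq_sq : m.zq * m.zq = 1 := Subtype.ext (Subtype.ext m.ext.zz)

theorem zq_comm (x : Q) : x * m.zq = m.zq * x := Subtype.ext (Subtype.ext (m.ext.central _ (mem_QG.2 ⟨x, rfl⟩)))

theorem zq_conj (c : Subgroup.centralizer ({z} : Set G)) : qconj c m.zq = m.zq := Subtype.ext (Subtype.ext (by
  show (c : G) * z * (c : G)⁻¹ = z
  rw [Subgroup.mem_centralizer_singleton_iff.1 c.2, mul_inv_cancel_right]))

omit m in
theorem qconj_mul (c : Subgroup.centralizer ({z} : Set G)) (x y : Q) :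
    qconj c (x * y) = qconj c x * qconj c y := Subtype.ext (by
  show c * (↑x * ↑y) * c⁻¹ = c * ↑x * c⁻¹ * (c * ↑y * c⁻¹)
  group)

omit m in
theorem qconj_qconj (c d : Subgroup.centralizer ({z} : Set G)) (x : Q) :
    qconj c (qconj d x) = qconj (c * d) x := Subtype.ext (by
  show c * (d * ↑x * d⁻¹) * c⁻¹ = c * d * ↑x * (c * d)⁻¹
  group)

/-- A power of the central involution. -/
def zp (t : ZMod 2) : Q := if t = 0 then 1 else m.zq

theorem zp_zero : m.zp 0 = 1 := if_pos rfl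

theorem zp_one : m.zp 1 = m.zq := if_neg one_ne_zero

theorem zp_add (s t : ZMod 2) : m.zp (s + t) = m.zp s * m.zp t := by
  rcases (show ∀ s : ZMod 2, s = 0 ∨ s = 1 by decide) s with rfl | rfl <;>
    rcases (show ∀ s : ZMod 2, s = 0 ∨ s = 1 by decide) t with rfl | rfl
  · rw [add_zero, zp_zero, one_mul]
  · rw [zero_add, zp_zero, one_mul]
  · rw [add_zero, zp_zero, mul_one]
  · rw [show (1 : ZMod 2) + 1 = 0 from by decide, zp_zero, zp_one, zq_sq]

theorem zp_self (t : ZMod 2) : m.zp t * m.zp t = 1 := by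
  rw [← m.zp_add, (show ∀ s : ZMod 2, s + s = 0 by decide) t, m.zp_zero]

theorem zp_comm (x : Q) (t : ZMod 2) : m.zp t * x = x * m.zp t := by
  rcases (show ∀ s : ZMod 2, s = 0 ∨ s = 1 by decide) t with rfl | rfl
  · rw [zp_zero, one_mul, mul_one]
  · rw [zp_one, zq_comm]

theorem zp_inj {s t : ZMod 2} (h : m.zp s = m.zp t) : s = t := by
  rcases (show ∀ s : ZMod 2, s = 0 ∨ s = 1 by decide) s with rfl | rfl <;>
    rcases (show ∀ s : ZMod 2, s = 0 ∨ s = 1 by decide) t with rfl | rfl <;>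
    simp [zp_zero, zp_one, m.zq_ne, Ne.symm m.zq_ne] at h ⊢

theorem zp_conj (c : Subgroup.centralizer ({z} : Set G)) (t : ZMod 2) : qconj c (m.zp t) = m.zp t := by
  rcases (show ∀ s : ZMod 2, s = 0 ∨ s = 1 by decide) t with rfl | rfl
  · rw [zp_zero]; exact Subtype.ext (by show c * 1 * c⁻¹ = 1; group)
  · rw [zp_one, zq_conj]

theorem rep_zp (t : ZMod 2) : m.rep (m.zp t) = 0 := by
  rcases (show ∀ s : ZMod 2, s = 0 ∨ s = 1 by decide) t with rfl | rfl
  · rw [zp_zero, m.rep_one]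
  · rw [zp_one, m.rep_zero]; exact Or.inr rfl

theorem rep_mul_zp (x : Q) (t : ZMod 2) : m.rep (x * m.zp t) = m.rep x := by
  rw [m.rep_mul, m.rep_zp, add_zero]

theorem exists_zp {x y : Q} (h : m.rep x = m.rep y) : ∃ t, y = x * m.zp t := by
  rcases m.rep_eq h with e | e
  · exact ⟨0, by rw [m.zp_zero, mul_one]; exact Subtype.ext (Subtype.ext e)⟩
  · exact ⟨1, by rw [m.zp_one]; exact Subtype.ext (Subtype.ext e)⟩

theorem sq_eq (x : Q) : x * x = m.zp (nb (m.rep x)) := by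
  rw [nb]
  split_ifs with h
  · rw [m.zp_zero]; exact (m.herm_zero x).1 h
  · rw [m.zp_one]
    rcases m.ext.sq _ (mem_QG.2 ⟨x, rfl⟩) with e | e
    · exact absurd ((m.herm_zero x).2 (Subtype.ext (Subtype.ext e))) h
    · exact Subtype.ext (Subtype.ext e)

theorem inv_eq (x : Q) : x⁻¹ = x * m.zp (nb (m.rep x)) :=
  inv_eq_of_mul_eq_one_right (by rw [← mul_assoc, m.sq_eq, m.zp_self])

theorem swap (x y : Q) : x * y = y * x * m.zp (T6 (m.rep x) (m.rep y)) := by
  have h := m.sq_eq (x * y)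
  rw [m.rep_mul, nb_add] at h
  calc x * y = x * y * (x * y) * (y⁻¹ * x⁻¹) := by group
    _ = m.zp (nb (m.rep x) + nb (m.rep y) + T6 (m.rep x) (m.rep y)) *
          (y * (x * (m.zp (nb (m.rep y)) * m.zp (nb (m.rep x))))) := by
        rw [h, m.inv_eq y, m.inv_eq x]; congr 1
        rw [mul_assoc y, ← mul_assoc (m.zp _) x, m.zp_comm x, mul_assoc x]
    _ = y * x * (m.zp (nb (m.rep y)) * m.zp (nb (m.rep x)) *
          m.zp (nb (m.rep x) + nb (m.rep y) + T6 (m.rep x) (m.rep y))) := by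
        rw [m.zp_comm, ← mul_assoc y x, mul_assoc (y * x)]
    _ = y * x * m.zp (T6 (m.rep x) (m.rep y)) := by
        rw [← m.zp_add, ← m.zp_add]
        congr 2
        generalize nb (m.rep x) = a; generalize nb (m.rep y) = b; generalize T6 (m.rep x) (m.rep y) = c
        revert a b c; decide

theorem conj_Q (q x : Q) : qconj (q : Subgroup.centralizer ({z} : Set G)) x =
    x * m.zp (T6 (m.rep q) (m.rep x)) := by
  calc qconj (q : Subgroup.centralizer ({z} : Set G)) x = q * x * q⁻¹ := Subtype.ext rfl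
    _ = x * q * m.zp (T6 (m.rep q) (m.rep x)) * q⁻¹ := by rw [m.swap q x]
    _ = x * m.zp (T6 (m.rep q) (m.rep x)) := by
      rw [mul_assoc (x * q), m.zp_comm, ← mul_assoc (x * q), mul_inv_cancel_right]

theorem comm_iff (q x : Q) : gv q * gv x = gv x * gv q ↔ T6 (m.rep q) (m.rep x) = 0 := by
  have h := m.swap q x
  constructor
  · intro e
    have e' : q * x = x * q := Subtype.ext (Subtype.ext e)
    exact m.zp_inj (by rw [m.zp_zero]; exact mul_eq_left.1 (h.symm.trans e'))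
  · intro e
    rw [e, m.zp_zero, mul_one] at h
    exact congrArg (fun w : Q => gv w) h

omit m in
/-- An element inducing the scalar of order three. -/
def Scalar (m : Model z Q) (x₀ : Subgroup.centralizer ({z} : Set G)) : Prop :=
  ∀ v, m.act x₀ v = K4.of 2 • v

variable (x₀ : Subgroup.centralizer ({z} : Set G))

omit m in
/-- The product over the orbit of the scalar. -/
def prd (q : Q) : Q := q * qconj x₀ q * qconj x₀ (qconj x₀ q)

omit m in
open _root_.Classical in
/-- The second coordinate. -/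
noncomputable def zc (q : Q) : ZMod 2 := if prd x₀ q = 1 then 0 else 1

variable {x₀} (hx : m.Scalar x₀)

theorem rep_conj (q : Q) (c : Subgroup.centralizer ({z} : Set G)) : m.rep (qconj c q) = m.act c (m.rep q) :=
  (m.act_rep c q).symm

include hx

theorem prd_spec (q : Q) : prd x₀ q = m.zp (zc x₀ q) := by
  have h0 : m.rep (prd x₀ q) = 0 := by
    rw [prd, m.rep_mul, m.rep_mul, m.rep_conj, m.rep_conj, m.rep_conj, hx, hx, smul_smul]
    funext i
    simp only [Pi.add_apply, Pi.smul_apply, smul_eq_mul, Pi.zero_apply]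
    generalize m.rep q i = a
    revert a; decide +kernel
  rw [zc]
  split_ifs with h
  · rw [m.zp_zero, h]
  · rw [m.zp_one]
    rcases (m.rep_zero _).1 h0 with e | e
    · exact absurd (Subtype.ext (Subtype.ext e)) h
    · exact Subtype.ext (Subtype.ext e)

theorem zc_mul (a b : Q) : zc x₀ (a * b) = zc x₀ a + zc x₀ b + bet (m.rep a) (m.rep b) := by
  refine m.zp_inj ?_
  rw [← m.prd_spec hx, m.zp_add, m.zp_add, ← m.prd_spec hx, ← m.prd_spec hx, prd, prd, prd, qconj_mul, qconj_mul]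
  set a₁ := qconj x₀ a with ha1
  set a₂ := qconj x₀ a₁ with ha2
  set b₁ := qconj x₀ b with hb1
  set b₂ := qconj x₀ b₁
  have e : bet (m.rep a) (m.rep b) =
      T6 (m.rep b) (m.rep a₁) + T6 (m.rep b) (m.rep a₂) + T6 (m.rep b₁) (m.rep a₂) := by
    simp only [ha2, ha1, hb1, m.rep_conj, hx _]
    rw [T6, T6, T6, bet, smul_smul, herm_smul, herm_smul_right, herm_smul_right]
    exact (trb_facts.2.2.2.1 _).symm
  have L : ∀ (x y w : Q) (t : ZMod 2), x * (y * m.zp t) * w = x * y * w * m.zp t := fun x y w t => by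
    rw [← mul_assoc x y, mul_assoc _ _ w, m.zp_comm w, ← mul_assoc]
  rw [e, m.zp_add, m.zp_add]
  calc a * b * (a₁ * b₁) * (a₂ * b₂) = a * (b * a₁) * (b₁ * (a₂ * b₂)) := by group
    _ = a * (a₁ * b * m.zp (T6 (m.rep b) (m.rep a₁))) * (b₁ * (a₂ * b₂)) := by rw [m.swap b a₁]
    _ = a * (a₁ * b) * (b₁ * (a₂ * b₂)) * m.zp (T6 (m.rep b) (m.rep a₁)) := L _ _ _ _
    _ = (a * a₁ * b) * (b₁ * a₂) * b₂ * m.zp (T6 (m.rep b) (m.rep a₁)) := by group
    _ = (a * a₁ * b) * (a₂ * b₁ * m.zp (T6 (m.rep b₁) (m.rep a₂))) * b₂ * m.zp (T6 (m.rep b) (m.rep a₁)) := by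
      rw [m.swap b₁ a₂]
    _ = (a * a₁ * b) * (a₂ * b₁) * b₂ * m.zp (T6 (m.rep b₁) (m.rep a₂)) * m.zp (T6 (m.rep b) (m.rep a₁)) := by
      rw [L]
    _ = (a * a₁) * (b * a₂) * (b₁ * b₂) * m.zp (T6 (m.rep b₁) (m.rep a₂)) * m.zp (T6 (m.rep b) (m.rep a₁)) := by group
    _ = (a * a₁) * (a₂ * b * m.zp (T6 (m.rep b) (m.rep a₂))) * (b₁ * b₂) * m.zp (T6 (m.rep b₁) (m.rep a₂)) *
        m.zp (T6 (m.rep b) (m.rep a₁)) := by rw [m.swap b a₂]
    _ = (a * a₁ * a₂) * (b * b₁ * b₂) *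
        (m.zp (T6 (m.rep b) (m.rep a₂)) * m.zp (T6 (m.rep b₁) (m.rep a₂)) * m.zp (T6 (m.rep b) (m.rep a₁))) := by
      rw [L]; group
    _ = _ := by
      congr 1
      rw [← m.zp_add, ← m.zp_add, ← m.zp_add, ← m.zp_add]
      congr 1
      ring

theorem zc_zp (t : ZMod 2) : zc x₀ (m.zp t) = t := by
  refine m.zp_inj ?_
  rw [← m.prd_spec hx, prd, m.zp_conj, m.zp_conj, mul_assoc, m.zp_self, mul_one]

theorem zc_mul_zp (q : Q) (t : ZMod 2) : zc x₀ (q * m.zp t) = zc x₀ q + t := by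
  rw [m.zc_mul hx, m.zc_zp hx, m.rep_zp, bet,
    show hermForm 6 K4 2 (0 : Fin 6 → K4) (m.rep q) = 0 from by simp [hermForm], mul_zero, trb_facts.1, add_zero]

theorem coord_inj {a b : Q} (h1 : m.rep a = m.rep b) (h2 : zc x₀ a = zc x₀ b) : a = b := by
  obtain ⟨t, rfl⟩ := m.exists_zp h1
  rw [m.zc_mul_zp hx] at h2
  rw [show t = 0 from add_eq_left.1 h2.symm, m.zp_zero, mul_one]

theorem zc_one : zc x₀ (1 : Q) = 0 := by rw [← m.zp_zero, m.zc_zp hx]

theorem zc_conj {c : Subgroup.centralizer ({z} : Set G)} (hc : c * x₀ = x₀ * c) (q : Q) :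
    zc x₀ (qconj c q) = zc x₀ q := by
  refine m.zp_inj ?_
  rw [← m.prd_spec hx, ← m.zp_conj c (zc x₀ q), ← m.prd_spec hx, prd, prd, qconj_mul, qconj_mul,
    qconj_qconj x₀ c q, qconj_qconj c x₀ q, qconj_qconj x₀ x₀ q, qconj_qconj c (x₀ * x₀) q,
    qconj_qconj x₀ (x₀ * c) q, ← hc, ← mul_assoc x₀ c, ← hc, mul_assoc c x₀ x₀]

theorem zc_conj_Q (q x : Q) :
    zc x₀ (qconj (q : Subgroup.centralizer ({z} : Set G)) x) = zc x₀ x + T6 (m.rep q) (m.rep x) := by
  rw [m.conj_Q, m.zc_mul_zp hx]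

end Model

end Cfsg.Agent.Spor.LargeFischer
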