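import Cfsg.Agent.Lib.Spor.LargeFischer.ExtChecks
import Cfsg.Agent.Lib.Spor.Cos.Act

/-! The further tables of one class are correct. -/

set_option autoImplicit false
set_option maxRecDepth 100000
set_option maxHeartbeats 4000000

open Cfsg.Agent.Spor.Cos

namespace Cfsg.Agent.Spor.LargeFischer.X2

theorem base_ok : (ext 2).chkBase (dat 2) = true := by decide +kernel

theorem so_ok : ∀ c < 4096, (ext 2).chkSO (dat 2) c = true :=
  of_blocks (size := 512) (b := 8) (by decide) (by decide) fun j hj => by interval_cases j <;> decide +kernel

theorem so_count : (List.range 4096).countP (ext 2).inSO = 64 := by decide +kernel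

theorem so_enum : ((List.range 64).map (app (ext 2).sob)).Nodup ∧
    ∀ i < 64, (ext 2).inSO (app (ext 2).sob i) = true := by decide +kernel

theorem basis_ok : ∀ c < 4096, (ext 2).chkB (dat 2) c = true :=
  of_blocks (size := 512) (b := 8) (by decide) (by decide) fun j hj => by interval_cases j <;> decide +kernel

theorem pairs_ok : (ext 2).chkPairs (dat 2) = true := by decide +kernel

theorem wit_ok : ∀ n < 9216, (ext 2).chkWit (dat 2) n = true :=
  of_blocks (size := 512) (b := 18) (by decide) (by decide) fun j hj => by interval_cases j <;> decide +kernel

theorem pair_ok : (ext 2).chkPair (dat 2) = true := by decide +kernel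

theorem comm_ok : ∀ n < 2048, (ext 2).chkComm n = true :=
  of_blocks (size := 256) (b := 8) (by decide) (by decide) fun j hj => by interval_cases j <;> decide +kernel

theorem prod_ok : (ext 2).chkProd (dat 2) = true := by decide +kernel

theorem om_ok : (ext 2).chkOm (dat 2) = true := by decide +kernel

end Cfsg.Agent.Spor.LargeFischer.X2
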