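import Cfsg.Agent.Lib.Spor.LargeFischer.Cover

/-!
Point stabilisers on the orbit of 1701 isotropic vectors: they permute six blocks of a set of 96 vectors above the
point as the alternating group, with a kernel of order 16.
-/

set_option autoImplicit false
set_option maxRecDepth 100000
set_option linter.style.haveILetI false

open Cfsg Cfsg.Agent.Classical Cfsg.Agent.Spor.Cos Matrix
open Cfsg.Agent.Spor.USixTwo (K4 vecOf)
open Cfsg.Agent.Spor.U62U43 (cover62)

namespace Cfsg.Agent.Spor.LargeFischer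

variable {k : ℕ}

/-- The 96 vectors. -/
def InW (k : ℕ) (w : Fin 6 → K4) : Prop := labV k w = 1 ∧ hermForm 6 K4 2 (rep k 2) w = 1

/-- The relation generating the blocks. -/
def Rel (k : ℕ) (a b : Fin 6 → K4) : Prop :=
  labV k (a + b) = 1 ∧ hermForm 6 K4 2 a b = 1 ∧ labV k (a + b + rep k 2) = 1

/-- The block of a vector. -/
def blkV (k : ℕ) (w : Fin 6 → K4) : ℕ := rd 4 (dat k).blk (enc6 w)

theorem hermC_one (a b : ℕ) : hermForm 6 K4 2 (vecOf a) (vecOf b) = 1 ↔ hermC a b = 1 := by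
  rw [hermC_sound]
  have h4 : hermC a b < 4 := by
    rw [hermC]
    refine List.foldlRecOn (motive := fun s => s < 4) _ _ (by norm_num) fun s hs i _ => ?_
    exact Nat.xor_lt_two_pow (n := 2) hs (hermC_term _ (Nat.mod_lt _ (by norm_num)) _ (Nat.mod_lt _ (by norm_num))).2
  generalize hermC a b = n at h4 ⊢
  interval_cases n <;> decide +kernel

theorem rep_two (k : ℕ) : rep k 2 = vecOf (dat k).v2 := by rw [rep, if_neg (by norm_num)]

theorem inW_code {c : ℕ} (hc : c < 4096) : InW k (vecOf c) ↔ (dat k).inW c = true := by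
  simp only [InW, Dat.inW, rep_two, labV, enc6_vecOf hc, hermC_one, Bool.and_eq_true, Nat.beq_eq]

theorem rel_code {a b : ℕ} (ha : a < 4096) (hb : b < 4096) :
    Rel k (vecOf a) (vecOf b) ↔ (dat k).rel a b = true := by
  have h1 : a ^^^ b < 4096 := Nat.xor_lt_two_pow (n := 12) ha hb
  have h2 : a ^^^ b ^^^ (dat k).v2 < 4096 := Nat.xor_lt_two_pow (n := 12) h1 (rd_lt _ _)
  simp only [Rel, Dat.rel, rep_two, ← vecOf_xor, labV, enc6_vecOf h1, enc6_vecOf h2, hermC_one, Bool.and_eq_true,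
    Nat.beq_eq, and_assoc]

theorem inW_smul (hk : k < 3) {x : SUV} (hx : x ∈ stab k (rep k 2)) {w : Fin 6 → K4} (hw : InW k w) :
    InW k (x • w) := by
  refine ⟨(lab_smul hk (mem_stab.1 hx).1 w).trans hw.1, ?_⟩
  conv_lhs => rw [← (mem_stab.1 hx).2]
  rw [smul_herm]; exact hw.2

theorem rel_smul (hk : k < 3) {x : SUV} (hx : x ∈ stab k (rep k 2)) {a b : Fin 6 → K4} (h : Rel k a b) :
    Rel k (x • a) (x • b) := by
  obtain ⟨h1, h2, h3⟩ := h
  refine ⟨?_, by rw [smul_herm]; exact h2, ?_⟩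
  · rw [← smul_add', lab_smul hk (mem_stab.1 hx).1]; exact h1
  · rw [← (mem_stab.1 hx).2, ← smul_add', ← smul_add', lab_smul hk (mem_stab.1 hx).1]; exact h3

theorem blk_facts (hk : k < 3) :
    (∀ i < 6, (dat k).reps.getD i 0 < 4096 ∧ InW k (vecOf ((dat k).reps.getD i 0)) ∧
      blkV k (vecOf ((dat k).reps.getD i 0)) = i) ∧
    (∀ w, InW k w → blkV k w < 6) ∧
    (∀ a b, InW k a → InW k b → Rel k a b → blkV k a = blkV k b) ∧
    (∀ a b, InW k a → InW k b → blkV k a = blkV k b →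
      a = b ∨ Rel k a b ∨ ∃ c, InW k c ∧ Rel k a c ∧ Rel k c b) := by
  obtain ⟨-, -, -, -, -, -, h, hwl, -⟩ := facts hk
  simp only [Dat.chkBlk, Bool.and_eq_true, List.all_eq_true, List.mem_range, Nat.beq_eq, Nat.blt_eq, Bool.or_eq_true,
    Bool.not_eq_true', List.any_eq_true] at h
  obtain ⟨⟨⟨⟨hlen, hrep⟩, hlt⟩, hrel⟩, hconn⟩ := h
  have hwmem : ∀ c < 4096, ((dat k).inW c = true ↔ c ∈ (dat k).wl) := fun c hc => by
    rw [eq_of_beq (hwl c hc), List.contains_iff_mem]
  have hreplt : ∀ i < 6, (dat k).reps.getD i 0 < 4096 := by interval_cases k <;> decide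
  have hwlt : ∀ c ∈ (dat k).wl, c < 4096 := by interval_cases k <;> decide
  have hmem : ∀ w, InW k w → enc6 w ∈ (dat k).wl := fun w hw =>
    (hwmem _ (enc6_lt w)).1 ((inW_code (enc6_lt w)).1 (by rwa [vecOf_enc6]))
  refine ⟨fun i hi => ⟨hreplt i hi, (inW_code (hreplt i hi)).2 (hrep i hi).1, ?_⟩, fun w hw => hlt _ (hmem w hw),
    fun a b ha hb hab => ?_, fun a b ha hb hab => ?_⟩
  · rw [blkV, enc6_vecOf (hreplt i hi)]; exact (hrep i hi).2
  · rcases hrel _ (hmem a ha) _ (hmem b hb) with e | e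
    · rw [← vecOf_enc6 a, ← vecOf_enc6 b, rel_code (enc6_lt a) (enc6_lt b), e] at hab
      exact absurd hab Bool.false_ne_true
    · exact e
  · rcases hconn _ (hmem a ha) _ (hmem b hb) with ((e | e) | e) | ⟨c, hc, e1, e2⟩
    · exfalso
      simp only [blkV] at hab
      simp [hab] at e
    · exact Or.inl (by rw [← vecOf_enc6 a, e, vecOf_enc6])
    · right; left
      rw [← vecOf_enc6 a, ← vecOf_enc6 b, rel_code (enc6_lt a) (enc6_lt b)]; exact e
    · right; right
      refine ⟨vecOf c, (inW_code (hwlt c hc)).2 ((hwmem c (hwlt c hc)).2 hc), ?_, ?_⟩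
      · rw [← vecOf_enc6 a, rel_code (enc6_lt a) (hwlt c hc)]; exact e1
      · rw [← vecOf_enc6 b, rel_code (hwlt c hc) (enc6_lt b)]; exact e2

theorem blk_smul (hk : k < 3) {x : SUV} (hx : x ∈ stab k (rep k 2)) {a b : Fin 6 → K4} (ha : InW k a) (hb : InW k b)
    (h : blkV k a = blkV k b) : blkV k (x • a) = blkV k (x • b) := by
  obtain ⟨-, -, hrel, hconn⟩ := blk_facts hk
  rcases hconn a b ha hb h with rfl | h1 | ⟨c, hc, h1, h2⟩
  · rfl
  · exact hrel _ _ (inW_smul hk hx ha) (inW_smul hk hx hb) (rel_smul hk hx h1)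
  · exact (hrel _ _ (inW_smul hk hx ha) (inW_smul hk hx hc) (rel_smul hk hx h1)).trans
      (hrel _ _ (inW_smul hk hx hc) (inW_smul hk hx hb) (rel_smul hk hx h2))

/-- The representative of a block. -/
def repB (k : ℕ) (i : Fin 6) : Fin 6 → K4 := vecOf ((dat k).reps.getD i.1 0)

open Classical in
/-- The image of a block. -/
noncomputable def moveB (k : ℕ) (x : SUV) (i : Fin 6) : Fin 6 :=
  if h : blkV k (x • repB k i) < 6 then ⟨blkV k (x • repB k i), h⟩ else i

theorem moveB_val (hk : k < 3) {x : SUV} (hx : x ∈ stab k (rep k 2)) (i : Fin 6) :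
    (moveB k x i : ℕ) = blkV k (x • repB k i) := by
  have h : blkV k (x • repB k i) < 6 := (blk_facts hk).2.1 _ (inW_smul hk hx ((blk_facts hk).1 i.1 i.2).2.1)
  rw [moveB, dif_pos h]

theorem moveB_mul (hk : k < 3) {x y : SUV} (hx : x ∈ stab k (rep k 2)) (hy : y ∈ stab k (rep k 2)) (i : Fin 6) :
    moveB k (x * y) i = moveB k x (moveB k y i) := by
  obtain ⟨hrep, -, -, -⟩ := blk_facts hk
  refine Fin.ext ?_
  rw [moveB_val hk (mul_mem hx hy), moveB_val hk hx, mul_smul]
  refine blk_smul hk hx (inW_smul hk hy (hrep i.1 i.2).2.1) (hrep _ (moveB k y i).2).2.1 ?_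
  exact ((hrep _ (moveB k y i).2).2.2.trans (moveB_val hk hy i)).symm

theorem moveB_one (hk : k < 3) (i : Fin 6) : moveB k 1 i = i := by
  refine Fin.ext ?_
  rw [moveB_val hk (one_mem _), one_smul]
  exact ((blk_facts hk).1 i.1 i.2).2.2

/-- The permutation of the blocks. -/
noncomputable def permB (hk : k < 3) : stab k (rep k 2) →* Equiv.Perm (Fin 6) :=
  MonoidHom.mk' (fun x =>
    { toFun := moveB k x.1
      invFun := moveB k x.1⁻¹
      left_inv := fun i => by rw [← moveB_mul hk (inv_mem x.2) x.2, inv_mul_cancel, moveB_one hk]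
      right_inv := fun i => by rw [← moveB_mul hk x.2 (inv_mem x.2), mul_inv_cancel, moveB_one hk] })
    fun x y => Equiv.ext fun i => moveB_mul hk x.2 y.2 i

theorem permB_val (hk : k < 3) (x : stab k (rep k 2)) (i : Fin 6) :
    (permB hk x i : ℕ) = blkV k (x.1 • repB k i) := moveB_val hk x.2 i

/-- A quadruple of blocks. -/
def quad (t : ℕ) : Fin 4 → Fin 6 :=
  ![⟨t % 6, Nat.mod_lt _ (by norm_num)⟩, ⟨t / 6 % 6, Nat.mod_lt _ (by norm_num)⟩,
    ⟨t / 36 % 6, Nat.mod_lt _ (by norm_num)⟩, ⟨t / 216 % 6, Nat.mod_lt _ (by norm_num)⟩]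

theorem digits4 {a b c d : ℕ} (ha : a < 6) (hb : b < 6) (hc : c < 6) (hd : d < 6) :
    (a + 6 * b + 36 * c + 216 * d) % 6 = a ∧ (a + 6 * b + 36 * c + 216 * d) / 6 % 6 = b ∧
      (a + 6 * b + 36 * c + 216 * d) / 36 % 6 = c ∧ (a + 6 * b + 36 * c + 216 * d) / 216 % 6 = d := by
  omega

theorem quad_inj {s t : ℕ} (hs : s < 1296) (ht : t < 1296) (h : quad s = quad t) : s = t := by
  have h0 := congrArg Fin.val (congrFun h 0)
  have h1 := congrArg Fin.val (congrFun h 1)
  have h2 := congrArg Fin.val (congrFun h 2)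
  have h3 := congrArg Fin.val (congrFun h 3)
  simp [quad] at h0 h1 h2 h3
  omega

/-- The stabiliser of the first vector induces the alternating group on the blocks, kernel of order 16. -/
theorem six_blocks (hk : k < 3) :
    (permB hk).range = alternatingGroup (Fin 6) ∧ Nat.card (permB hk).ker = 16 := by
  obtain ⟨-, -, -, -, -, -, -, -, h⟩ := facts hk
  simp only [Dat.chkS2, Bool.and_eq_true, List.all_eq_true, List.mem_range, Nat.beq_eq, Nat.blt_eq,
    decide_eq_true_eq] at h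
  obtain ⟨⟨⟨⟨⟨⟨⟨⟨hfix, hker⟩, hperm⟩, htup⟩, ht0⟩, hnd⟩, hklen⟩, hkfix⟩, hknd⟩ := h
  have hv : (dat k).v2 < 4096 := rd_lt _ _
  obtain ⟨hrep, -, -, -⟩ := blk_facts hk
  have hword : ∀ w, (∀ s ∈ w, s < 4) → ∀ (hm : ev (kgen k) w ∈ stab k (rep k 2)) (i : Fin 6),
      (permB hk ⟨_, hm⟩ i : ℕ) = rd 4 (dat k).blk ((dat k).wC w ((dat k).reps.getD i.1 0)) := fun w hw hm i => by
    rw [permB_val]
    show blkV k (ev (kgen k) w • vecOf _) = _
    obtain ⟨e, hlt⟩ := word_act hk w hw _ (hrep i.1 i.2).1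
    rw [e, blkV, enc6_vecOf hlt]
  have hin : ∀ {ws : List (List ℕ)}, (dat k).chkFixW (dat k).v2 ws = true → ∀ w ∈ ws,
      (∀ s ∈ w, s < 4) ∧ ev (kgen k) w ∈ stab k (rep k 2) := fun hws w hw => by
    rw [rep_two]; exact fixW hk hv hws hw
  -- the kernel
  have hker16 : 16 ≤ Nat.card (permB hk).ker := by
    rw [← hklen, ← Nat.card_fin (dat k).kerW.length]
    refine Nat.card_le_card_of_injective (fun j => ⟨⟨ev (kgen k) ((dat k).kerW.get j),
      (hin hker _ (List.get_mem _ j)).2⟩, MonoidHom.mem_ker.2 (Equiv.ext fun i => Fin.ext ?_)⟩) fun a b hab => ?_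
    · rw [hword _ (hin hker _ (List.get_mem _ j)).1]
      exact hkfix _ (List.get_mem _ j) i.1 i.2
    · have e : ev (kgen k) ((dat k).kerW.get a) = ev (kgen k) ((dat k).kerW.get b) :=
        congrArg (fun x : (permB hk).ker => x.1.1) hab
      refine List.nodup_iff_injective_get.1 (List.Nodup.of_map _ hknd)
        (List.inj_on_of_nodup_map hknd (List.get_mem _ a) (List.get_mem _ b) (List.map_congr_left fun i hi => ?_))
      have h2 : 2 ^ i < 4096 := Nat.pow_lt_pow_right (by norm_num : 1 < 2) (List.mem_range.1 hi)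
      obtain ⟨ea, la⟩ := word_act hk _ (hin hker _ (List.get_mem _ a)).1 _ h2
      obtain ⟨eb, lb⟩ := word_act hk _ (hin hker _ (List.get_mem _ b)).1 _ h2
      refine vecOf_inj la lb ?_
      rw [← ea, ← eb, e]
  -- the image
  have hr360 : 360 ≤ Nat.card (permB hk).range := by
    have hreach := reach (X := Fin 4 → Fin 6) (G := Equiv.Perm (Fin 6)) (S := (permB hk).range)
      (g := fun s => if hs : s < (dat k).sg2.length then
        permB hk ⟨ev (kgen k) ((dat k).sg2[s]), (hin hfix _ (List.getElem_mem hs)).2⟩ else 1)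
      (act := (dat k).tupAct) (ngen := (dat k).sg2.length) (pts := rd 12 (dat k).tup) (prd := rd 16 (dat k).prdT)
      (n := 360) quad (fun s hs => by rw [dif_pos hs]; exact ⟨_, rfl⟩) (fun s hs i hi => ?_)
      (fun i hi => (htup i hi).1)
    · refine le_trans ?_ (orbit_le (x := quad (rd 12 (dat k).tup 0)) (fun i : Fin 360 => quad (rd 12 (dat k).tup i.1))
        (fun i j e => ?_) fun i => hreach i.1 i.2)
      · exact Nat.le_mul_of_pos_right _ Nat.card_pos
      · exact Fin.ext (List.inj_on_of_nodup_map hnd (List.mem_range.2 i.2) (List.mem_range.2 j.2)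
          (quad_inj (htup i.1 i.2).2 (htup j.1 j.2).2 e))
    · rw [dif_pos hs]
      have hget : (dat k).sg2.getD s [] = (dat k).sg2[s] := List.getD_eq_getElem _ _ hs
      have key : ∀ r : Fin 6, ((permB hk ⟨ev (kgen k) ((dat k).sg2[s]), (hin hfix _ (List.getElem_mem hs)).2⟩ r : Fin 6) : ℕ) =
          ((dat k).perms.getD s []).getD r.1 0 := fun r => by
        rw [hword _ (hin hfix _ (List.getElem_mem hs)).1, ← hget]
        exact hperm s hs r.1 r.2
      have hlt : ∀ r < 6, ((dat k).perms.getD s []).getD r 0 < 6 := fun r hr => by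
        rw [← key ⟨r, hr⟩]; exact Fin.is_lt _
      have a0 := hlt _ (Nat.mod_lt (rd 12 (dat k).tup i) (by norm_num : 0 < 6))
      have a1 := hlt _ (Nat.mod_lt (rd 12 (dat k).tup i / 6) (by norm_num : 0 < 6))
      have a2 := hlt _ (Nat.mod_lt (rd 12 (dat k).tup i / 36) (by norm_num : 0 < 6))
      have a3 := hlt _ (Nat.mod_lt (rd 12 (dat k).tup i / 216) (by norm_num : 0 < 6))
      funext r
      refine Fin.ext ?_
      rw [Pi.smul_apply, Equiv.Perm.smul_def, key]
      obtain ⟨d0, d1, d2, d3⟩ := digits4 a0 a1 a2 a3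
      match r with
      | 0 => exact d0.symm
      | 1 => exact d1.symm
      | 2 => exact d2.symm
      | 3 => exact d3.symm
  have hcard : Nat.card (stab k (rep k 2)) = Nat.card (permB hk).ker * Nat.card (permB hk).range := by
    rw [← (permB hk).ker.card_mul_index, Subgroup.index_ker]
  have hle := hcard ▸ (card_stab_le hk).2
  have hr : Nat.card (permB hk).range = 360 := by
    have := Nat.mul_le_mul_right (Nat.card (permB hk).range) hker16
    omega
  refine ⟨Equiv.Perm.eq_alternatingGroup_of_index_eq_two ?_, ?_⟩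
  · have := (permB hk).range.card_mul_index
    rw [hr, Nat.card_perm, Nat.card_fin, show Nat.factorial 6 = 360 * 2 from rfl] at this
    exact Nat.eq_of_mul_eq_mul_left (by norm_num) this
  · rw [hr] at hle
    omega

/-- The same for every vector of the long orbit. -/
theorem six_action (hk : k < 3) {v : Fin 6 → K4} (hv : labV k v = 2) :
    ∃ φ : stab k v →* alternatingGroup (Fin 6), Function.Surjective φ ∧ Nat.card φ.ker = 16 := by
  obtain ⟨x, hx, rfl⟩ := exists_rep hk (Or.inr rfl) hv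
  have hiff : ∀ a, a ∈ stab k (rep k 2) ↔ x * a * x⁻¹ ∈ stab k (x • rep k 2) := fun a => by
    rw [mem_stab, mem_stab]
    constructor
    · rintro ⟨h1, h2⟩
      exact ⟨mul_mem (mul_mem hx h1) (inv_mem hx), by rw [mul_smul, inv_smul_smul, mul_smul, h2]⟩
    · rintro ⟨h1, h2⟩
      refine ⟨?_, ?_⟩
      · have := mul_mem (mul_mem (inv_mem hx) h1) hx
        simpa [mul_assoc] using this
      · rw [mul_smul, inv_smul_smul, mul_smul] at h2
        exact MulAction.injective x h2
  let t : stab k (x • rep k 2) →* stab k (rep k 2) :=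
    MonoidHom.mk' (fun a => ⟨x⁻¹ * a.1 * x, (hiff _).2 (by
      rw [show x * (x⁻¹ * a.1 * x) * x⁻¹ = a.1 by group]; exact a.2)⟩) fun a b => Subtype.ext (by
        show x⁻¹ * (a.1 * b.1) * x = x⁻¹ * a.1 * x * (x⁻¹ * b.1 * x); group)
  have ht : Function.Bijective t := by
    refine ⟨fun a b h => Subtype.ext ?_, fun a => ⟨⟨x * a.1 * x⁻¹, (hiff _).1 a.2⟩, Subtype.ext ?_⟩⟩
    · have e : x⁻¹ * a.1 * x = x⁻¹ * b.1 * x := congrArg Subtype.val h
      simpa using e
    · show x⁻¹ * (x * a.1 * x⁻¹) * x = a.1; group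
  obtain ⟨hr, hkc⟩ := six_blocks hk
  let φ0 : stab k (rep k 2) →* alternatingGroup (Fin 6) :=
    (permB hk).codRestrict _ fun a => hr ▸ ⟨a, rfl⟩
  have hφ0 : Function.Surjective φ0 := fun σ => by
    obtain ⟨a, ha⟩ := (hr.symm ▸ σ.2 : σ.1 ∈ (permB hk).range)
    exact ⟨a, Subtype.ext ha⟩
  refine ⟨φ0.comp t, hφ0.comp ht.2, ?_⟩
  rw [← hkc]
  refine Nat.card_congr
    { toFun := fun a => ⟨t a.1, congrArg Subtype.val (MonoidHom.mem_ker.1 a.2)⟩
      invFun := fun a => ⟨(ht.2 a.1).choose, MonoidHom.mem_ker.2 (Subtype.ext (by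
        show permB hk (t _) = 1
        rw [(ht.2 a.1).choose_spec]; exact a.2))⟩
      left_inv := fun a => Subtype.ext (ht.1 (ht.2 (t a.1)).choose_spec)
      right_inv := fun a => Subtype.ext (ht.2 a.1).choose_spec }

end Cfsg.Agent.Spor.LargeFischer
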