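import Cfsg.Agent.Lib.Spor.LargeFischer.ExtCert0
import Cfsg.Agent.Lib.Spor.LargeFischer.ExtCert1
import Cfsg.Agent.Lib.Spor.LargeFischer.ExtCert2
import Cfsg.Agent.Lib.Spor.LargeFischer.LargeOrbit
import Cfsg.Agent.Lib.Spor.LargeFischer.Coords

/-! The further tables read on vectors. -/

set_option autoImplicit false
set_option maxRecDepth 100000
set_option linter.style.haveILetI false

open Cfsg Cfsg.Agent.Classical Cfsg.Agent.Spor.Cos Matrix
open Cfsg.Agent.Spor.USixTwo (K4 vecOf)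
open Cfsg.Agent.Spor.U62U43 (cover62)

namespace Cfsg.Agent.Spor.LargeFischer

variable {k : ℕ}

theorem xfacts (hk : k < 3) : (ext k).chkBase (dat k) = true ∧ (∀ c < 4096, (ext k).chkSO (dat k) c = true) ∧
    (List.range 4096).countP (ext k).inSO = 64 ∧
    (((List.range 64).map (app (ext k).sob)).Nodup ∧ ∀ i < 64, (ext k).inSO (app (ext k).sob i) = true) ∧
    (∀ c < 4096, (ext k).chkB (dat k) c = true) ∧ (ext k).chkPairs (dat k) = true ∧
    (∀ n < 9216, (ext k).chkWit (dat k) n = true) ∧ (ext k).chkPair (dat k) = true ∧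
    (∀ n < 2048, (ext k).chkComm n = true) ∧ (ext k).chkProd (dat k) = true ∧ (ext k).chkOm (dat k) = true := by
  interval_cases k
  exacts [⟨X0.base_ok, X0.so_ok, X0.so_count, X0.so_enum, X0.basis_ok, X0.pairs_ok, X0.wit_ok, X0.pair_ok, X0.comm_ok,
      X0.prod_ok, X0.om_ok⟩,
    ⟨X1.base_ok, X1.so_ok, X1.so_count, X1.so_enum, X1.basis_ok, X1.pairs_ok, X1.wit_ok, X1.pair_ok, X1.comm_ok,
      X1.prod_ok, X1.om_ok⟩,
    ⟨X2.base_ok, X2.so_ok, X2.so_count, X2.so_enum, X2.basis_ok, X2.pairs_ok, X2.wit_ok, X2.pair_ok, X2.comm_ok,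
      X2.prod_ok, X2.om_ok⟩]

theorem hermC_lt (a b : ℕ) : hermC a b < 4 := by
  rw [hermC]
  refine List.foldlRecOn (motive := fun s => s < 4) _ _ (by norm_num) fun s hs i _ => ?_
  exact Nat.xor_lt_two_pow (n := 2) hs (hermC_term _ (Nat.mod_lt _ (by norm_num)) _ (Nat.mod_lt _ (by norm_num))).2

theorem T6_code (a b : ℕ) : T6 (vecOf a) (vecOf b) = if trC a b then 1 else 0 := by
  rw [T6, hermC_sound, trC]
  have h := hermC_lt a b
  generalize hermC a b = n at h ⊢
  interval_cases n <;> decide +kernel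

theorem T6_code_zero (a b : ℕ) : T6 (vecOf a) (vecOf b) = 0 ↔ trC a b = false := by
  rw [T6_code]; cases trC a b <;> simp

theorem bet_code (a b : ℕ) : bet (vecOf a) (vecOf b) = (betaC a b : ZMod 2) := by
  rw [bet, hermC_sound, betaC]
  have h := hermC_lt b a
  generalize hermC b a = n at h ⊢
  interval_cases n <;> decide +kernel

/-- The basic tables. -/
theorem base_facts (hk : k < 3) :
    (∀ j < 16, ((∀ s ∈ (dat k).kerW.getD j [], s < 4) ∧ (dat k).wC ((dat k).kerW.getD j []) (dat k).v2 = (dat k).v2) ∧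
      ((ext k).kimg.getD j []).length = 12 ∧ (∀ x ∈ (ext k).kimg.getD j [], x < 4096) ∧
      ∀ i < 12, (dat k).wC ((dat k).kerW.getD j []) (2 ^ i) = ((ext k).kimg.getD j []).getD i 0) ∧
    ((ext k).sob.length = 6 ∧ (∀ x ∈ (ext k).sob, x < 4096) ∧ (ext k).sb 0 = (dat k).v2 ∧
      (ext k).sb 1 = (dat k).omC (dat k).v2) ∧
    ((ext k).bB.length = 12 ∧ (∀ x ∈ (ext k).bB, x < 4096) ∧ (ext k).bI.length = 12 ∧ (∀ x ∈ (ext k).bI, x < 4096) ∧
      (∀ i < 6, (ext k).bB.getD i 0 = (ext k).sb i) ∧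
      (∀ i < 4, (ext k).bB.getD (6 + i) 0 = (dat k).omC ((ext k).sb (2 + i))) ∧
      (ext k).bB.getD 11 0 = (dat k).omC ((ext k).bB.getD 10 0)) ∧
    (∀ p < 16, (ext k).pat.getD p 16 < 16 ∧ ∀ i < 4, (ext k).kap ((ext k).pat.getD p 0) ((ext k).sb (2 + i)) =
      if p.testBit i then (ext k).sb (2 + i) ^^^ (dat k).v2 else (ext k).sb (2 + i)) ∧
    ∀ i < 16, ∀ j < 16, ((ext k).mul.getD i []).getD j 16 < 16 ∧ ∀ b < 12,
      (ext k).kap i (((ext k).kimg.getD j []).getD b 0) =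
        ((ext k).kimg.getD (((ext k).mul.getD i []).getD j 0) []).getD b 0 := by
  have h := (xfacts hk).1
  simp only [Ext.chkBase, Ext.chkImg, Bool.and_eq_true, List.all_eq_true, List.mem_range, Nat.beq_eq, Nat.blt_eq] at h
  obtain ⟨⟨⟨⟨⟨⟨⟨⟨⟨⟨⟨⟨⟨⟨-, h1⟩, h2⟩, h3⟩, h4⟩, h5⟩, h6⟩, h7⟩, h8⟩, h9⟩, h10⟩, h11⟩, h12⟩, h13⟩, h14⟩ := h
  refine ⟨fun j hj => ?_, ⟨h2, h3, h4, h5⟩, ⟨h6, h7, h8, h9, h10, h11, h12⟩, h13, h14⟩
  obtain ⟨⟨⟨⟨a, b⟩, c⟩, d⟩, e⟩ := h1 j hj
  exact ⟨⟨a, b⟩, c, d, e⟩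

theorem getD_lt {l : List ℕ} (h : ∀ x ∈ l, x < 4096) (i : ℕ) : l.getD i 0 < 4096 := by
  rcases Nat.lt_or_ge i l.length with hi | hi
  · rw [List.getD_eq_getElem _ _ hi]; exact h _ (List.getElem_mem _)
  · rw [List.getD_eq_default _ _ hi]; norm_num

theorem sb_lt (hk : k < 3) (i : ℕ) : (ext k).sb i < 4096 := getD_lt (base_facts hk).2.1.2.1 i

theorem v2_lt (k : ℕ) : (dat k).v2 < 4096 := rd_lt _ _

theorem kap_lt (hk : k < 3) {j : ℕ} (hj : j < 16) (c : ℕ) : (ext k).kap j c < 4096 :=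
  app_lt ((base_facts hk).1 j hj).2.2.1 c

/-- One of the sixteen elements fixing the blocks. -/
noncomputable def kel (k j : ℕ) : SUV := ev (kgen k) ((dat k).kerW.getD j [])

theorem ev_app (hk : k < 3) {w l : List ℕ} (hw : ∀ s ∈ w, s < 4) (hl : l.length = 12)
    (h : ∀ i < 12, (dat k).wC w (2 ^ i) = l.getD i 0) {c : ℕ} (hc : c < 4096) :
    ev (kgen k) w • vecOf c = vecOf (app l c) := by
  refine app_sound (mvHom (ev (kgen k) w)) hl (fun i hi => ?_) hc
  show ev (kgen k) w • vecOf (2 ^ i) = _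
  rw [(word_act hk w hw _ (Nat.pow_lt_pow_right (by norm_num) hi)).1, h i hi]

theorem kel_act (hk : k < 3) {j : ℕ} (hj : j < 16) {c : ℕ} (hc : c < 4096) :
    kel k j • vecOf c = vecOf ((ext k).kap j c) :=
  ev_app hk ((base_facts hk).1 j hj).1.1 ((base_facts hk).1 j hj).2.1 ((base_facts hk).1 j hj).2.2.2 hc

theorem ext_suv {x y : SUV} (h : ∀ i < 12, x • vecOf (2 ^ i) = y • vecOf (2 ^ i)) : x = y := by
  have key : ∀ n ≤ 12, ∀ c < 2 ^ n, x • vecOf c = y • vecOf c := by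
    intro n
    induction n with
    | zero =>
      intro _ c hc
      obtain rfl : c = 0 := by simpa using hc
      rw [vecOf_zero, smul_def, smul_def, Matrix.mulVec_zero, Matrix.mulVec_zero]
    | succ n ih =>
      intro hn c hc
      rcases Nat.lt_or_ge c (2 ^ n) with h' | h'
      · exact ih (by omega) c h'
      · have hc' : c - 2 ^ n < 2 ^ n := by rw [pow_succ] at hc; omega
        have e : c = 2 ^ n ^^^ (c - 2 ^ n) := by
          refine Nat.eq_of_testBit_eq fun i => ?_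
          conv_lhs => rw [show c = 2 ^ n + (c - 2 ^ n) by omega]
          rcases Nat.lt_trichotomy i n with hi | rfl | hi
          · rw [Nat.testBit_two_pow_add_gt hi, Nat.testBit_xor, Nat.testBit_two_pow_of_ne (by omega), Bool.false_xor]
          · rw [Nat.testBit_two_pow_add_eq, Nat.testBit_xor, Nat.testBit_two_pow_self, Bool.true_xor]
          · rw [Nat.testBit_lt_two_pow (lt_of_lt_of_le (show 2 ^ n + (c - 2 ^ n) < 2 ^ (n + 1) by omega)
                (Nat.pow_le_pow_right (by norm_num) hi)),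
              Nat.testBit_xor, Nat.testBit_two_pow_of_ne (by omega),
              Nat.testBit_lt_two_pow (hc'.trans (Nat.pow_lt_pow_right (by norm_num) hi)), Bool.false_xor]
        rw [e, vecOf_xor, smul_add', smul_add', h n (by omega), ih (by omega) _ hc']
  refine suVal_ext (Matrix.toLin'.injective (LinearMap.ext fun v => ?_))
  rw [Matrix.toLin'_apply, Matrix.toLin'_apply, ← vecOf_enc6 v]
  exact key 12 le_rfl _ (enc6_lt v)

theorem kel_mul (hk : k < 3) {i j : ℕ} (hi : i < 16) (hj : j < 16) :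
    kel k i * kel k j = kel k (((ext k).mul.getD i []).getD j 0) := by
  obtain ⟨hlt, he⟩ := (base_facts hk).2.2.2.2 i hi j hj
  have hm : ((ext k).mul.getD i []).getD j 0 < 16 := by
    rcases Nat.lt_or_ge j ((ext k).mul.getD i []).length with h | h
    · rw [List.getD_eq_getElem _ _ h] at hlt ⊢; exact hlt
    · rw [List.getD_eq_default _ _ h] at hlt; omega
  refine ext_suv fun b hb => ?_
  have h2 : 2 ^ b < 4096 := Nat.pow_lt_pow_right (by norm_num : 1 < 2) hb
  rw [mul_smul, kel_act hk hj h2, kel_act hk hi (kap_lt hk hj _), kel_act hk hm h2]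
  congr 1
  have e : ∀ (l : List ℕ), l.length = 12 → app l (2 ^ b) = l.getD b 0 := fun l hl => by
    rcases l with _ | ⟨a0, _ | ⟨a1, _ | ⟨a2, _ | ⟨a3, _ | ⟨a4, _ | ⟨a5, _ | ⟨a6, _ | ⟨a7, _ | ⟨a8, _ | ⟨a9, _ | ⟨a10, _ | ⟨a11, _ | ⟨a12, _⟩⟩⟩⟩⟩⟩⟩⟩⟩⟩⟩⟩⟩ <;>
      simp at hl
    interval_cases b <;> simp [app]
  show app _ (app _ (2 ^ b)) = app _ (2 ^ b)
  rw [e _ ((base_facts hk).1 j hj).2.1, e _ ((base_facts hk).1 _ hm).2.1]
  exact he b hb

theorem kel_stab (hk : k < 3) {j : ℕ} (hj : j < 16) :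
    kel k j ∈ stab k (LargeFischer.rep k 2) ∧ ∀ h : kel k j ∈ stab k (LargeFischer.rep k 2), permB hk ⟨_, h⟩ = 1 := by
  obtain ⟨-, -, -, -, -, -, -, -, h⟩ := facts hk
  simp only [Dat.chkS2, Bool.and_eq_true, List.all_eq_true, List.mem_range, Nat.beq_eq, Nat.blt_eq,
    decide_eq_true_eq] at h
  obtain ⟨⟨⟨-, hklen⟩, hkfix⟩, -⟩ := h
  refine ⟨?_, fun hm => Equiv.ext fun i => Fin.ext ?_⟩
  · rw [rep_two, mem_stab]
    refine ⟨word_mem hk _, ?_⟩
    rw [kel, (word_act hk _ ((base_facts hk).1 j hj).1.1 _ (v2_lt k)).1, ((base_facts hk).1 j hj).1.2]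
  · rw [permB_val]
    obtain ⟨hrep, -, -, -⟩ := blk_facts hk
    show blkV k (kel k j • vecOf _) = _
    rw [kel, (word_act hk _ ((base_facts hk).1 j hj).1.1 _ (hrep i.1 i.2).1).1, blkV,
      enc6_vecOf (word_act hk _ ((base_facts hk).1 j hj).1.1 _ (hrep i.1 i.2).1).2]
    exact hkfix _ (by rw [List.getD_eq_getElem _ _ (hklen.symm ▸ hj)]; exact List.getElem_mem _) i.1 i.2

theorem kel_inj (hk : k < 3) {i j : ℕ} (hi : i < 16) (hj : j < 16) (e : kel k i = kel k j) : i = j := by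
  obtain ⟨-, -, -, -, -, -, -, -, h⟩ := facts hk
  simp only [Dat.chkS2, Bool.and_eq_true, decide_eq_true_eq, Nat.beq_eq] at h
  obtain ⟨⟨⟨-, hklen⟩, -⟩, hknd⟩ := h
  have hkl : ∀ {t}, t < 16 → t < (dat k).kerW.length := fun ht => hklen.symm ▸ ht
  refine (List.getElem_inj (h₀ := hkl hi) (h₁ := hkl hj) (List.Nodup.of_map _ hknd)).1 ?_
  refine List.inj_on_of_nodup_map hknd (List.getElem_mem _) (List.getElem_mem _) (List.map_congr_left fun b hb => ?_)
  have h2 : 2 ^ b < 4096 := Nat.pow_lt_pow_right (by norm_num : 1 < 2) (List.mem_range.1 hb)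
  rw [← List.getD_eq_getElem (d := ([] : List ℕ)) _ (hkl hi), ← List.getD_eq_getElem (d := ([] : List ℕ)) _ (hkl hj)]
  obtain ⟨ea, la⟩ := word_act hk _ ((base_facts hk).1 i hi).1.1 _ h2
  obtain ⟨eb, lb⟩ := word_act hk _ ((base_facts hk).1 j hj).1.1 _ h2
  refine vecOf_inj la lb ?_
  rw [← ea, ← eb]
  exact congrArg (· • vecOf (2 ^ b)) e

/-- They are all the elements fixing the blocks. -/
theorem exists_kel (hk : k < 3) (x : stab k (LargeFischer.rep k 2)) (hx : permB hk x = 1) :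
    ∃ j < 16, x.1 = kel k j := by
  haveI : Fintype (permB hk).ker := Fintype.ofFinite _
  have hcard : Nat.card (permB hk).ker = 16 := (six_blocks hk).2
  let f : Fin 16 → (permB hk).ker := fun j =>
    ⟨⟨kel k j.1, (kel_stab hk j.2).1⟩, MonoidHom.mem_ker.2 ((kel_stab hk j.2).2 _)⟩
  have hf : Function.Injective f := fun a b e =>
    Fin.ext (kel_inj hk a.2 b.2 (congrArg (fun y : (permB hk).ker => y.1.1) e))
  obtain ⟨j, hj⟩ := (Fintype.bijective_iff_injective_and_card f).2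
    ⟨hf, by rw [Fintype.card_fin, ← Nat.card_eq_fintype_card, hcard]⟩ |>.2 ⟨x, hx⟩
  exact ⟨j.1, j.2, (congrArg (fun y : (permB hk).ker => y.1.1) hj).symm⟩

/-- The space of vectors that the sixteen elements move only along the fixed vector. -/
theorem inSO_iff (hk : k < 3) {c : ℕ} (hc : c < 4096) : (ext k).inSO c = true ↔
    ∀ j < 16, (ext k).kap j c = c ∨ (ext k).kap j c = c ^^^ (dat k).v2 := by
  have h := eq_of_beq ((xfacts hk).2.1 c hc)
  rw [h]
  simp only [List.all_eq_true, List.mem_range, Bool.or_eq_true, Nat.beq_eq]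

theorem inSO_T6 {c : ℕ} (h : (ext k).inSO c = true) {i : ℕ} (hi : i < 6) :
    T6 (vecOf c) (vecOf ((ext k).sb i)) = 0 := by
  simp only [Ext.inSO, List.all_eq_true, List.mem_range, Bool.not_eq_true'] at h
  exact (T6_code_zero _ _).2 (h i hi)

theorem inSO_of_T6 {c : ℕ} (h : ∀ i < 6, T6 (vecOf c) (vecOf ((ext k).sb i)) = 0) : (ext k).inSO c = true := by
  simp only [Ext.inSO, List.all_eq_true, List.mem_range, Bool.not_eq_true']
  exact fun i hi => (T6_code_zero _ _).1 (h i hi)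

theorem mem_of_count {p : ℕ → Bool} {n : ℕ} {L : List ℕ} (hnd : L.Nodup) (hsub : ∀ x ∈ L, x < n ∧ p x = true)
    (hcount : (List.range n).countP p = L.length) {c : ℕ} (hc : c < n) (h : p c = true) : c ∈ L := by
  have hs : L.toFinset ⊆ ((List.range n).filter p).toFinset := fun x hx => by
    have hx' := hsub x (List.mem_toFinset.1 hx)
    exact List.mem_toFinset.2 (List.mem_filter.2 ⟨List.mem_range.2 hx'.1, hx'.2⟩)
  have he := Finset.eq_of_subset_of_card_le hs (by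
    rw [List.toFinset_card_of_nodup hnd, List.toFinset_card_of_nodup (List.nodup_range.filter _),
      ← List.countP_eq_length_filter, hcount])
  rw [← List.mem_toFinset, he, List.mem_toFinset, List.mem_filter, List.mem_range]
  exact ⟨hc, h⟩

/-- The space is spanned by its six vectors. -/
theorem inSO_enum (hk : k < 3) {c : ℕ} (hc : c < 4096) (h : (ext k).inSO c = true) :
    ∃ t < 64, app (ext k).sob t = c := by
  obtain ⟨-, -, hcount, ⟨hnd, hall⟩, -⟩ := xfacts hk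
  have hm := mem_of_count hnd (fun x hx => by
    obtain ⟨t, ht, rfl⟩ := List.mem_map.1 hx
    exact ⟨app_lt (base_facts hk).2.1.2.1 _, hall t (List.mem_range.1 ht)⟩)
    (hcount.trans (by rw [List.length_map, List.length_range])) hc h
  obtain ⟨t, ht, e⟩ := List.mem_map.1 hm
  exact ⟨t, List.mem_range.1 ht, e⟩

end Cfsg.Agent.Spor.LargeFischer
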