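import Cfsg.Agent.Lib.Spor.LargeFischer.Weights

/-!
An orthogonal decomposition of a quadratic space of dimension twelve into six anisotropic planes, each invariant under
the central element of order three.
-/

set_option autoImplicit false
set_option linter.unusedSectionVars false
set_option maxRecDepth 100000

namespace Cfsg.Agent.Spor.LargeFischer.Weights

/-- The matrix of a list. -/
def mat (l : List ℕ) (i j : Fin 4) : ZMod 3 := ((l.getD (4 * i.1 + j.1) 0 : ℕ) : ZMod 3)

/-- The map on the group given by a matrix and a functional. -/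
def act (l : List ℕ) (f : Fin 4 → ZMod 3) (k : K5) : K5 :=
  Fin.cons (k 0 + ∑ j, f j * k j.succ) (fun i => ∑ j, mat l i j * k j.succ)

/-- A character from its value on the central element and a code. -/
def chi (t : ZMod 3) (c : ℕ) : K5 := Fin.cons t (vec c)

theorem kernel_trivial : ∀ a b c d : ZMod 3,
    ((∀ i, ∑ j, mat mA1 i j * ![a, b, c, d] j = 0) → a = 0 ∧ b = 0 ∧ c = 0 ∧ d = 0) ∧
    ((∀ i, ∑ j, mat mA2 i j * ![a, b, c, d] j = 0) → a = 0 ∧ b = 0 ∧ c = 0 ∧ d = 0) := by decide +kernel

theorem act_bijective {l : List ℕ} (hl : l = mA1 ∨ l = mA2) (f : Fin 4 → ZMod 3) :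
    Function.Bijective (act l f) := by
  refine Finite.injective_iff_bijective.1 fun k k' h => ?_
  have hs : ∀ i : Fin 4, ∑ j, mat l i j * (k j.succ - k' j.succ) = 0 := fun i => by
    have := congrFun h i.succ
    simp only [act, Fin.cons_succ] at this
    simp [mul_sub, Finset.sum_sub_distrib, this]
  set d : Fin 4 → ZMod 3 := fun j => k j.succ - k' j.succ with hd
  have h4 : ![d 0, d 1, d 2, d 3] = d := funext fun i => by fin_cases i <;> rfl
  have hk := kernel_trivial (d 0) (d 1) (d 2) (d 3)
  rw [h4] at hk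
  have hz : d 0 = 0 ∧ d 1 = 0 ∧ d 2 = 0 ∧ d 3 = 0 := by
    rcases hl with rfl | rfl
    · exact hk.1 hs
    · exact hk.2 hs
  have htail : ∀ j : Fin 4, k j.succ = k' j.succ := fun j => sub_eq_zero.1 <| by
    fin_cases j
    exacts [hz.1, hz.2.1, hz.2.2.1, hz.2.2.2]
  funext i
  refine Fin.cases ?_ htail i
  have := congrFun h 0
  simp only [act, Fin.cons_zero, htail] at this
  exact add_right_cancel this

theorem dot_act (l : List ℕ) (f : Fin 4 → ZMod 3) (χ k : K5) :
    dot χ (act l f k) =
      dot (Fin.cons (χ 0) (fun j => χ 0 * f j + ∑ i : Fin 4, χ i.succ * mat l i j)) k := by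
  simp only [dot, act, Fin.sum_univ_succ (n := 4), Fin.cons_zero, Fin.cons_succ, mul_add, Finset.mul_sum,
    add_mul, Finset.sum_add_distrib, Finset.sum_mul]
  rw [add_assoc, Finset.sum_comm (γ := Fin 4)]
  simp only [mul_assoc]

theorem chi_dot (l : List ℕ) (t : ℕ) (f c : ℕ) :
    (Fin.cons ((chi (t : ZMod 3) c) 0) (fun j => (chi (t : ZMod 3) c) 0 * vec f j +
      ∑ i : Fin 4, (chi (t : ZMod 3) c) i.succ * mat l i j) : K5) = chi (t : ZMod 3) (img l t f c) := by
  simp only [chi, Fin.cons_zero, Fin.cons_succ]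
  congr 1
  funext j
  rw [vec_img]
  rfl

theorem chi_neg (c : ℕ) : chi 0 (negC c) = -chi 0 c := by
  funext i
  refine Fin.cases ?_ (fun j => ?_) i
  · simp [chi]
  · simp [chi, vec_negC]

theorem chi_zero_eq : chi 0 0 = 0 := by
  funext i
  refine Fin.cases ?_ (fun j => ?_) i <;> simp [chi, vec_zero]

theorem chi_inj {s t : ZMod 3} {c d : ℕ} (h : chi s c = chi t d) : s = t ∧ vec c = vec d :=
  ⟨by simpa [chi] using congrFun h 0, funext fun j => by simpa [chi] using congrFun h j.succ⟩

theorem eq_chi (χ : K5) : χ = chi (χ 0) (enc fun j => χ j.succ) := by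
  rw [chi, vec_enc]
  funext i
  refine Fin.cases ?_ (fun j => ?_) i <;> simp

variable {V : Type*} [AddCommGroup V] [Module (ZMod 2) V] [Finite V]
variable {R : K5 → Module.End (ZMod 2) V} (hR : Act R)
include hR

/-- A weight space has at least four elements. -/
theorem four_le {χ : K5} (hχ : χ ≠ 0) (he : e R χ ≠ 0) : 4 ≤ Nat.card (LinearMap.range (e R χ)) := by
  obtain ⟨i, hi⟩ := Function.ne_iff.1 hχ
  obtain ⟨x, hx⟩ : ∃ x, dot χ x ≠ 0 := ⟨Pi.single i 1, by rw [dot_unit]; exact hi⟩
  obtain ⟨u, hu⟩ : ∃ u, e R χ u ≠ 0 := by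
    by_contra h; push Not at h; exact he (LinearMap.ext fun u => by simp [h u])
  set v := e R χ u with hv
  have hcom : ∀ k, R k * e R χ = e R χ * R k := fun k => by
    simp only [e, mul_add, add_mul, kerSum_comm hR, allSum, Finset.mul_sum, Finset.sum_mul, comm hR k]
  have hmem : ∀ k, R k v ∈ LinearMap.range (e R χ) := fun k => ⟨R k u, by
    rw [hv, ← Module.End.mul_apply, ← hcom, Module.End.mul_apply]⟩
  have hm := LinearMap.congr_fun (e_move hR hx) u
  simp only [Module.End.mul_apply, LinearMap.add_apply, Module.End.one_apply, LinearMap.zero_apply, ← hv] at hm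
  let g : Fin 4 → LinearMap.range (e R χ) := ![0, ⟨v, u, rfl⟩, ⟨R x v, hmem x⟩, ⟨R (x + x) v, hmem _⟩]
  have hz : ∀ k, R k v ≠ 0 := fun k h => hu <| by
    have := congrArg (R (k + k)) h
    rw [← Module.End.mul_apply, ← hR.add, show k + k + k = 0 from funext fun i => by
      simp only [Pi.add_apply, Pi.zero_apply]; generalize k i = a; revert a; decide, hR.zero, map_zero] at this
    exact this
  have h23 : v ≠ R x v := fun h => hz (x + x) (by rw [← h, ZModModule.add_self, zero_add] at hm; exact hm)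
  have h24 : v ≠ R (x + x) v := fun h => hz x (by
    rwa [← h, add_comm v (R x v), add_assoc, ZModModule.add_self, add_zero] at hm)
  have h34 : R x v ≠ R (x + x) v := fun h => hu (by
    rwa [← h, add_assoc, ZModModule.add_self, add_zero] at hm)
  have hg : Function.Injective g := fun a b h => by
    have h' := congrArg Subtype.val h
    fin_cases a <;> fin_cases b <;>
      first
        | rfl
        | exact absurd h' hu
        | exact absurd h'.symm hu
        | exact absurd h' (hz _)
        | exact absurd h'.symm (hz _)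
        | exact absurd h' h23
        | exact absurd h'.symm h23
        | exact absurd h' h24
        | exact absurd h'.symm h24
        | exact absurd h' h34
        | exact absurd h'.symm h34
  simpa using Nat.card_le_card_of_injective g hg

/-- Independent weights. -/
theorem weights_prod {n : ℕ} (χ : Fin n → K5) (hne : ∀ i, χ i ≠ 0)
    (hdist : ∀ i j, i ≠ j → χ i ≠ χ j ∧ χ i ≠ -χ j) :
    Function.Injective (fun w : (∀ i, LinearMap.range (e R (χ i))) => ∑ i, (w i : V)) := by
  intro w w' h
  funext i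
  have key : ∀ u : (∀ i, LinearMap.range (e R (χ i))), e R (χ i) (∑ j, (u j : V)) = u i := fun u => by
    rw [map_sum, Finset.sum_eq_single i]
    · obtain ⟨y, hy⟩ := (u i).2
      rw [← hy, ← Module.End.mul_apply, e_sq hR (hne i)]
    · intro j _ hj
      obtain ⟨y, hy⟩ := (u j).2
      rw [← hy, ← Module.End.mul_apply, e_mul hR (hne i) (hne j) (hdist i j hj.symm).1 (hdist i j hj.symm).2,
        LinearMap.zero_apply]
    · simp
  exact Subtype.ext (by rw [← key w, ← key w', show (∑ i, (w i : V)) = ∑ i, (w' i : V) from h])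

theorem weights_bound (hV : Nat.card V = 4096) {n : ℕ} (χ : Fin n → K5) (hne : ∀ i, χ i ≠ 0)
    (hdist : ∀ i j, i ≠ j → χ i ≠ χ j ∧ χ i ≠ -χ j) (he : ∀ i, e R (χ i) ≠ 0) : n ≤ 6 := by
  have h := Nat.card_le_card_of_injective _ (weights_prod hR χ hne hdist)
  rw [Nat.card_pi, hV] at h
  have h4 : 4 ^ n ≤ 4096 := by
    refine le_trans ?_ h
    calc 4 ^ n = ∏ _i : Fin n, 4 := by simp
      _ ≤ _ := Finset.prod_le_prod' fun i _ => four_le hR (hne i) (he i)
  exact (Nat.pow_le_pow_iff_right (by norm_num : 1 < 4)).1 (h4.trans (by norm_num : 4096 ≤ 4 ^ 6))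

omit [Finite V] in
theorem e_conj {M : K5 → K5} (hM : Function.Bijective M) {N : Module.End (ZMod 2) V}
    (hN : ∀ k, N * R k = R (M k) * N) {χ ψ : K5} (hψ : ∀ k, dot χ (M k) = dot ψ k) :
    N * e R ψ = e R χ * N := by
  have e1 : N * kerSum R ψ = kerSum R χ * N := by
    simp only [kerSum, Finset.mul_sum, Finset.sum_mul, hN]
    exact Finset.sum_equiv (Equiv.ofBijective M hM) (fun k => by simp [hψ]) fun k _ => rfl
  have e2 : N * allSum R = allSum R * N := by
    simp only [allSum, Finset.mul_sum, Finset.sum_mul, hN]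
    exact Equiv.sum_comp (Equiv.ofBijective M hM) fun k => R k * N
  rw [e, e, mul_add, add_mul, e1, e2]

/-- Six weights with value one at the central element. -/
theorem exists_six (hV : Nat.card V = 4096) {N₁ N₂ : (Module.End (ZMod 2) V)ˣ} {f : Fin 4 → ZMod 3}
    (h₁ : ∀ k, (N₁ : Module.End (ZMod 2) V) * R k = R (act mA1 0 k) * N₁)
    (h₂ : ∀ k, (N₂ : Module.End (ZMod 2) V) * R k = R (act mA2 f k) * N₂)
    (hx : R (Pi.single 1 1) ≠ 1) :
    ∃ χ : Fin 6 → K5, (∀ i, χ i 0 = 1) ∧ Function.Injective χ ∧ (∀ i, e R (χ i) ≠ 0) := by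
  have closed : ∀ (t : ℕ) (f' : ℕ), vec f' = f ∨ t = 0 → ∀ c, e R (chi (t : ZMod 3) c) ≠ 0 →
      e R (chi (t : ZMod 3) (img mA1 t 0 c)) ≠ 0 ∧ e R (chi (t : ZMod 3) (img mA2 t f' c)) ≠ 0 := by
    intro t f' hf c hc
    constructor <;> intro h
    · have := e_conj hR (act_bijective (Or.inl rfl) (vec 0)) (N := N₁.1)
        (by simpa [vec_zero] using h₁) (χ := chi (t : ZMod 3) c) (ψ := chi (t : ZMod 3) (img mA1 t 0 c))
        (fun k => by rw [dot_act, chi_dot])
      rw [h, mul_zero] at this
      exact hc (N₁.mul_left_eq_zero.1 this.symm)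
    · have := e_conj hR (act_bijective (Or.inr rfl) f) (N := N₂.1) h₂
        (χ := chi (t : ZMod 3) c) (ψ := chi (t : ZMod 3) (img mA2 t f' c)) (fun k => by
          rw [dot_act, ← chi_dot]
          rcases hf with hf | hf
          · rw [hf]
          · subst hf; simp [chi])
      rw [h, mul_zero] at this
      exact hc (N₂.mul_left_eq_zero.1 this.symm)
  have lin : ∀ c < 81, c ≠ 0 → e R (chi 0 c) = 0 := by
    intro c hc hc0
    by_contra hne
    obtain h0 | ⟨hlen, hnd, hall⟩ := lin_large c hc
    · exact hc0 h0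
    have hp : ∀ d ∈ linOrb c, e R (chi 0 d) ≠ 0 := by
      have hn : ∀ d, e R (chi 0 d) ≠ 0 → e R (chi 0 (nrm d)) ≠ 0 := fun d hd => by
        rcases min_choice d (negC d) with h | h
        · rwa [nrm, h]
        · rw [nrm, h, chi_neg, e_neg]; exact hd
      refine grow_all (fun d hd => hn _ ?_) (fun d hd => hn _ ?_) 6 [nrm c] fun d hd => ?_
      · simpa using (closed 0 0 (Or.inr rfl) d (by simpa using hd)).1
      · simpa using (closed 0 0 (Or.inr rfl) d (by simpa using hd)).2
      · rw [List.mem_singleton.1 hd]; exact hn c hne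
    have hd : ∀ d ∈ linOrb c, d < 81 ∧ d ≤ negC d ∧ d ≠ 0 := fun d hd => by
      have := List.all_eq_true.1 hall d hd
      simp only [Bool.and_eq_true, Nat.blt_eq, Nat.ble_eq, Bool.not_eq_true', Nat.beq_eq] at this
      exact ⟨this.1.1, this.1.2, fun h => by simpa [h] using this.2⟩
    have hb := weights_bound hR hV (n := (linOrb c).length) (fun i => chi 0 ((linOrb c).get i))
      (fun i h => (hd _ (List.get_mem _ i)).2.2 (lines_inj (hd _ (List.get_mem _ i)).1 (by norm_num)
        (hd _ (List.get_mem _ i)).2.1 (Nat.zero_le _) (Or.inl (chi_inj (h.trans chi_zero_eq.symm)).2)))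
      (fun i j hij => by
        have key : vec ((linOrb c).get i) = vec ((linOrb c).get j) ∨
            vec ((linOrb c).get i) = -vec ((linOrb c).get j) → False := fun h =>
          hij (List.nodup_iff_injective_get.1 hnd (lines_inj (hd _ (List.get_mem _ i)).1 (hd _ (List.get_mem _ j)).1
            (hd _ (List.get_mem _ i)).2.1 (hd _ (List.get_mem _ j)).2.1 h))
        exact ⟨fun h => key (Or.inl (chi_inj h).2), fun h => key (Or.inr (by
          rw [← chi_neg] at h; rw [(chi_inj h).2, vec_negC]))⟩)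
      (fun i => hp _ (List.get_mem _ i))
    omega
  obtain ⟨χ, hχx, hχe⟩ := exists_weight hR hx
  rw [dot_unit] at hχx
  -- normalise the value at the central element
  obtain ⟨ψ, hψ0, hψe, hψ1⟩ : ∃ ψ : K5, ψ 0 = 1 ∧ e R ψ ≠ 0 ∧ ψ 1 ≠ 0 := by
    rcases three_cases (χ 0) with h | h | h
    · refine absurd hχe (not_not.2 ?_)
      rw [eq_chi χ, h]
      refine lin _ (enc_lt _) fun h0 => hχx ?_
      have := congrArg vec h0
      rw [vec_enc, vec_zero] at this
      exact congrFun this 0
    · exact ⟨χ, h, hχe, hχx⟩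
    · exact ⟨-χ, by simp [h], by rwa [e_neg], by simpa using hχx⟩
  set c := enc fun j => ψ j.succ with hc
  have hψc : ψ = chi 1 c := by rw [hc, ← hψ0]; exact eq_chi ψ
  have hc0 : c ≠ 0 := fun h => hψ1 <| by
    rw [hψc, h]
    show chi 1 0 (Fin.succ 0) = 0
    simp [chi, vec_zero]
  obtain h0 | ⟨hlen, hnd, hall⟩ := aff_large (enc f) (enc_lt f) c (enc_lt _)
  · exact absurd h0 hc0
  have hp : ∀ d ∈ affOrb (enc f) c, e R (chi 1 d) ≠ 0 := by
    refine grow_all (fun d hd => ?_) (fun d hd => ?_) 6 [c] fun d hd => ?_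
    · simpa using (closed 1 (enc f) (Or.inl (vec_enc f)) d (by simpa using hd)).1
    · simpa using (closed 1 (enc f) (Or.inl (vec_enc f)) d (by simpa using hd)).2
    · rw [List.mem_singleton.1 hd, ← hψc]; exact hψe
  let g : Fin 6 → K5 := fun i => chi 1 ((affOrb (enc f) c).get (Fin.castLE hlen i))
  refine ⟨g, fun i => by simp [g, chi], fun i j h => ?_, fun i => hp _ (List.get_mem _ _)⟩
  have hlt : ∀ i, (affOrb (enc f) c).get i < 81 := fun i => by
    simpa using List.all_eq_true.1 hall _ (List.get_mem _ i)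
  have he := congrArg enc (chi_inj h).2
  rw [enc_vec _ (hlt _), enc_vec _ (hlt _)] at he
  exact Fin.castLE_injective hlen (List.nodup_iff_injective_get.1 hnd he)

/-- The decomposition. -/
theorem six_planes (hV : Nat.card V = 4096) {N₁ N₂ : (Module.End (ZMod 2) V)ˣ} {f : Fin 4 → ZMod 3}
    (h₁ : ∀ k, (N₁ : Module.End (ZMod 2) V) * R k = R (act mA1 0 k) * N₁)
    (h₂ : ∀ k, (N₂ : Module.End (ZMod 2) V) * R k = R (act mA2 f k) * N₂)
    (hx : R (Pi.single 1 1) ≠ 1) (q : V → ZMod 2) (B : V →ₗ[ZMod 2] V →ₗ[ZMod 2] ZMod 2)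
    (hB : ∀ x y, q (x + y) = q x + q y + B x y) (hnd : ∀ x, (∀ y, B x y = 0) → x = 0)
    (hq : ∀ k v, q (R k v) = q v) :
    ∃ v : Fin 6 → V, (∀ i, q (v i) = 1) ∧
      (∀ i j, i ≠ j → ∀ a b : ZMod 2 × ZMod 2,
        B (a.1 • v i + a.2 • R (Pi.single 0 1) (v i)) (b.1 • v j + b.2 • R (Pi.single 0 1) (v j)) = 0) ∧
      (∀ x, R (Pi.single 0 1) (R (Pi.single 0 1) x) = R (Pi.single 0 1) x + x) ∧
      Function.Bijective (fun ab : Fin 6 → ZMod 2 × ZMod 2 =>
        ∑ i, ((ab i).1 • v i + (ab i).2 • R (Pi.single 0 1) (v i))) := by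
  obtain ⟨χ, hχ0, hinj, hχe⟩ := exists_six hR hV h₁ h₂ hx
  set C := R (Pi.single 0 1) with hC
  have hne : ∀ i, χ i ≠ 0 := fun i h => by simpa [h] using hχ0 i
  have hdist : ∀ i j, i ≠ j → χ i ≠ χ j ∧ χ i ≠ -χ j := fun i j hij => ⟨hinj.ne hij, fun h => by
    have := congrFun h 0
    rw [Pi.neg_apply, hχ0, hχ0] at this
    exact absurd this (by decide)⟩
  have hsum := weights_prod hR χ hne hdist
  have hcard : ∀ i, Nat.card (LinearMap.range (e R (χ i))) = 4 := fun i => by
    have hle := Nat.card_le_card_of_injective _ hsum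
    rw [Nat.card_pi, hV] at hle
    refine le_antisymm (not_lt.1 fun hlt => ?_) (four_le hR (hne i) (hχe i))
    have := Finset.prod_lt_prod (s := Finset.univ) (f := fun _ : Fin 6 => 4)
      (g := fun j => Nat.card (LinearMap.range (e R (χ j)))) (fun _ _ => by norm_num) (fun j _ => four_le hR (hne j) (hχe j))
      ⟨i, Finset.mem_univ i, hlt⟩
    rw [Finset.prod_const, Finset.card_univ, Fintype.card_fin] at this
    norm_num at this
    exact absurd (this.trans_le hle) (lt_irrefl _)
  have hsurj : Function.Surjective (fun w : (∀ i, LinearMap.range (e R (χ i))) => ∑ i, (w i : V)) :=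
    (hsum.bijective_of_nat_card_le (by rw [Nat.card_pi, hV, Finset.prod_congr rfl fun i _ => hcard i]; simp)).2
  have hmove : ∀ i, ∀ w ∈ LinearMap.range (e R (χ i)), C (C w) = C w + w := by
    rintro i _ ⟨u, rfl⟩
    have := LinearMap.congr_fun (e_move hR (χ := χ i) (x := Pi.single 0 1)
      (by rw [dot_unit, hχ0]; decide)) u
    simp only [Module.End.mul_apply, LinearMap.add_apply, Module.End.one_apply, LinearMap.zero_apply, hR.add,
      ← hC] at this
    rw [add_comm (e R (χ i) u), ← ZModModule.sub_eq_add, sub_eq_zero] at this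
    exact this.symm
  have hCC : ∀ x, C (C x) = C x + x := fun x => by
    obtain ⟨w, rfl⟩ := hsurj x
    simp only [map_sum, ← Finset.sum_add_distrib]
    exact Finset.sum_congr rfl fun i _ => hmove i _ (w i).2
  have horth : ∀ i j, i ≠ j → ∀ x ∈ LinearMap.range (e R (χ i)), ∀ y ∈ LinearMap.range (e R (χ j)), B x y = 0 := by
    rintro i j hij _ ⟨u, rfl⟩ _ ⟨w, rfl⟩
    obtain ⟨l, hl, hl'⟩ := exists_sep (hne j) (hne i) (hdist j i hij.symm).1 (hdist j i hij.symm).2
    have hinv : ∀ k a b, B (R k a) (R k b) = B a b := fun k a b => by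
      have e1 := hB (R k a) (R k b)
      rw [← map_add, hq, hq, hq, hB] at e1
      exact (add_left_cancel e1).symm
    have hfix : ∀ k, dot (χ i) k = 0 → R k (e R (χ i) u) = e R (χ i) u := fun k hk => by
      rw [← Module.End.mul_apply, e_fix hR hk]
    have e1 := hinv l (e R (χ i) u) (e R (χ j) w)
    have e2 := hinv (l + l) (e R (χ i) u) (e R (χ j) w)
    rw [hfix l hl] at e1
    rw [hfix (l + l) (by rw [dot_add, hl, add_zero])] at e2
    have := congrArg (B (e R (χ i) u)) (LinearMap.congr_fun (e_move hR hl') w)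
    simp only [Module.End.mul_apply, LinearMap.add_apply, Module.End.one_apply, map_add, e1, e2,
      LinearMap.zero_apply, map_zero] at this
    rwa [CharTwo.add_self_eq_zero, zero_add] at this
  choose v hv0 using fun i => (show ∃ v : LinearMap.range (e R (χ i)), (v : V) ≠ 0 from by
    obtain ⟨u, hu⟩ : ∃ u, e R (χ i) u ≠ 0 := by
      by_contra h; push Not at h; exact hχe i (LinearMap.ext fun u => by simp [h u])
    exact ⟨⟨_, u, rfl⟩, hu⟩)
  have hmem : ∀ i (a : ZMod 2 × ZMod 2), a.1 • (v i : V) + a.2 • C (v i) ∈ LinearMap.range (e R (χ i)) :=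
    fun i a => add_mem (Submodule.smul_mem _ _ (v i).2) (Submodule.smul_mem _ _ (by
      obtain ⟨u, hu⟩ := (v i).2
      refine ⟨C u, ?_⟩
      rw [← hu, ← Module.End.mul_apply, ← Module.End.mul_apply]
      congr 1
      simp only [e, mul_add, add_mul, kerSum_comm hR, hC, allSum, Finset.mul_sum, Finset.sum_mul, comm hR _]))
  let φ : ∀ i, ZMod 2 × ZMod 2 → LinearMap.range (e R (χ i)) := fun i a => ⟨_, hmem i a⟩
  have hφ : ∀ i, Function.Bijective (φ i) := fun i => by
    refine Function.Injective.bijective_of_nat_card_le (fun a b h => ?_) (by rw [hcard]; simp)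
    have h' : a.1 • (v i : V) + a.2 • C (v i) = b.1 • (v i : V) + b.2 • C (v i) := congrArg Subtype.val h
    have h0 : (a.1 + b.1) • (v i : V) + (a.2 + b.2) • C (v i) = 0 := by
      rw [add_smul, add_smul, add_add_add_comm, h', ZModModule.add_self]
    have hCne : C (v i : V) ≠ 0 := fun h => hv0 i (by
      have e := hCC (v i : V)
      rw [h, map_zero, zero_add] at e
      exact e.symm)
    have key : a.1 + b.1 = 0 ∧ a.2 + b.2 = 0 := by
      revert h0
      generalize a.1 + b.1 = s; generalize a.2 + b.2 = t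
      intro h0
      rcases (show ∀ s : ZMod 2, s = 0 ∨ s = 1 by decide) s with rfl | rfl <;>
        rcases (show ∀ s : ZMod 2, s = 0 ∨ s = 1 by decide) t with rfl | rfl
      · exact ⟨rfl, rfl⟩
      · rw [zero_smul, zero_add, one_smul] at h0; exact absurd h0 hCne
      · rw [zero_smul, add_zero, one_smul] at h0; exact absurd h0 (hv0 i)
      · rw [one_smul, one_smul] at h0
        have e : C (C (v i : V)) = 0 := by rw [hCC, add_comm, h0]
        have e' := congrArg C (hCC (v i : V))
        rw [map_add, e, map_zero, zero_add] at e'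
        exact absurd e'.symm hCne
    have two : ∀ x y : ZMod 2, x + y = 0 → x = y := by decide
    exact Prod.ext (two _ _ key.1) (two _ _ key.2)
  refine ⟨fun i => v i, fun i => ?_, fun i j hij a b => horth i j hij _ (hmem i a) _ (hmem j b), hCC, ?_⟩
  · by_contra hq1
    have hq0 : q (v i : V) = 0 := (show ∀ s : ZMod 2, s ≠ 1 → s = 0 by decide) _ hq1
    have hzero : q (0 : V) = 0 := by
      have := hB 0 0
      rw [map_zero, add_zero, add_zero, CharTwo.add_self_eq_zero] at this
      exact this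
    refine hv0 i (hnd _ fun y => ?_)
    obtain ⟨w, rfl⟩ := hsurj y
    rw [map_sum]
    refine Finset.sum_eq_zero fun j _ => ?_
    rcases eq_or_ne i j with rfl | hij
    · obtain ⟨a, ha⟩ := (hφ i).2 (w i)
      rw [← ha]
      show B (v i : V) (a.1 • (v i : V) + a.2 • C (v i)) = 0
      have hvv : B (v i : V) (v i) = 0 := by
        have := hB (v i : V) (v i)
        rw [ZModModule.add_self, hzero, hq0, zero_add, zero_add] at this
        exact this.symm
      have hvc : B (v i : V) (C (v i)) = 0 := by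
        have := hB (v i : V) (C (v i))
        rw [add_comm, ← hCC, hC, hq, hq, hq0, zero_add, zero_add] at this
        exact this.symm
      rw [map_add, map_smul, map_smul, hvv, hvc, smul_zero, smul_zero, add_zero]
    · exact horth i j hij _ (v i).2 _ (w j).2
  · exact (hsum.bijective_of_nat_card_le (by rw [Nat.card_pi, hV, Finset.prod_congr rfl fun i _ => hcard i]; simp)).comp
      (Function.Bijective.piMap hφ)

end Cfsg.Agent.Spor.LargeFischer.Weights
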