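import Cfsg.Agent.Lib.Spor.LargeFischer.Frame
import Cfsg.Agent.Lib.Spor.LargeFischer.Six
import Cfsg.Agent.Lib.Spor.U62U43.Lift

/-!
A group with a kernel of order three over `PSU₄(3)` acting faithfully by isometries on a nondegenerate binary
quadratic space of dimension twelve preserves a hermitian structure over the field with four elements and is one of
the three standard subgroups of `SU₆(2)`.
-/

set_option autoImplicit false
set_option linter.unusedSectionVars false
set_option maxRecDepth 100000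

open Cfsg Cfsg.Agent.Classical Cfsg.Agent.Spor.U62U43 Matrix
open Cfsg.Agent.Spor.USixTwo (K4)

namespace Cfsg.Agent.Spor.LargeFischer

open Weights

/-- The space. -/
abbrev V12 : Type := Fin 12 → ZMod 2

/-- Six coordinates over the field with four elements. -/
abbrev V6 : Type := Fin 6 → K4

/-- A pair of bits as an element of the field. -/
def toK (a : ZMod 2 × ZMod 2) : K4 := K4.of (a.1.val + 2 * a.2.val)

/-- The pair of bits of an element of the field. -/
def ofK (x : K4) : ZMod 2 × ZMod 2 := (((x.v.1 % 2 : ℕ) : ZMod 2), ((x.v.1 / 2 : ℕ) : ZMod 2))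

/-- A bit as an element of the field. -/
def bitK (t : ZMod 2) : K4 := toK (t, 0)

/-- A generator of the multiplicative group. -/
def om : K4 := K4.of 2

theorem toK_facts : (∀ x, toK (ofK x) = x) ∧ (∀ a, ofK (toK a) = a) ∧
    (∀ x y, ofK (x + y) = ofK x + ofK y) ∧ (∀ x, ofK (om * x) = ((ofK x).2, (ofK x).1 + (ofK x).2)) ∧
    (∀ a, toK a * toK a ^ 2 = bitK (if a = 0 then 0 else 1)) := by decide +kernel

theorem bitK_add : ∀ s t, bitK (s + t) = bitK s + bitK t := by decide +kernel

theorem scalar_cases : ∀ x : K4, x = 0 ∨ x = 1 ∨ x = om ∨ x = 1 + om := by decide +kernel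

theorem trace_ext : ∀ x y : K4, x + x ^ 2 = y + y ^ 2 → om * x + (om * x) ^ 2 = om * y + (om * y) ^ 2 → x = y := by
  decide +kernel

theorem sq_sum : ∀ a b : K4, (a + b) ^ 2 = a ^ 2 + b ^ 2 ∧ (a * b ^ 2) ^ 2 = b * a ^ 2 := by decide +kernel

theorem herm_swap (u w : V6) : hermForm 6 K4 2 w u = hermForm 6 K4 2 u w ^ 2 := by
  simp only [hermForm, Fin.sum_univ_six, (sq_sum _ _).1, (sq_sum _ _).2]

theorem herm_add (u w : V6) : hermForm 6 K4 2 (u + w) (u + w) =
    hermForm 6 K4 2 u u + hermForm 6 K4 2 w w + (hermForm 6 K4 2 u w + hermForm 6 K4 2 u w ^ 2) := by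
  rw [← herm_swap]
  simp only [hermForm, Pi.add_apply, Fin.sum_univ_six, (sq_sum _ _).1]
  ring

theorem herm_smul (c : K4) (u w : V6) : hermForm 6 K4 2 (c • u) w = c * hermForm 6 K4 2 u w := by
  simp only [hermForm, Finset.mul_sum, Pi.smul_apply, smul_eq_mul, mul_assoc]

/-- A linear map keeping the norms keeps the form. -/
theorem herm_preserve (M : V6 →ₗ[K4] V6) (h : ∀ u, hermForm 6 K4 2 (M u) (M u) = hermForm 6 K4 2 u u) (u w : V6) :
    hermForm 6 K4 2 (M u) (M w) = hermForm 6 K4 2 u w := by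
  have key : ∀ a b, hermForm 6 K4 2 (M a) (M b) + hermForm 6 K4 2 (M a) (M b) ^ 2 =
      hermForm 6 K4 2 a b + hermForm 6 K4 2 a b ^ 2 := fun a b => by
    have e := h (a + b)
    rw [map_add, herm_add, herm_add, h a, h b] at e
    exact add_left_cancel e
  refine trace_ext _ _ (key u w) ?_
  rw [← herm_smul, ← herm_smul, ← map_smul]
  exact key _ _

/-- A commutative image of `PSU₄(3)` is trivial. -/
theorem hom_comm_trivial {A : Type*} [CommGroup A] (f : G43 →* A) : f = 1 := by
  rcases IsSimpleGroup.eq_bot_or_eq_top_of_normal f.ker inferInstance with h | h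
  · exfalso
    have hinj := (MonoidHom.ker_eq_bot_iff f).1 h
    have hS : S43 ∈ Subgroup.center G43 :=
      Subgroup.mem_center_iff.2 fun x => hinj (by rw [map_mul, map_mul, mul_comm])
    rw [center_G43, Subgroup.mem_bot] at hS
    exact facts43.2.1 hS
  · exact MonoidHom.ext fun x => MonoidHom.mem_ker.1 (h ▸ Subgroup.mem_top x)

section

variable {L : Type*} [Group L] {π : L →* G43} {c n₁ n₂ : L} {e : Fin 4 → L} {f : Fin 4 → ZMod 3}

/-- The element of a vector of exponents. -/
def elt (c : L) (e : Fin 4 → L) (k : K5) : L := zp c (k 0) * W e fun i => k i.succ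

theorem elt_add (F : IsFrame π c n₁ n₂ e f) (k l : K5) : elt c e (k + l) = elt c e k * elt c e l := by
  simp only [elt, Pi.add_apply, zp_add F.c_cube]
  rw [show (fun i : Fin 4 => k i.succ + l i.succ) = (fun i : Fin 4 => k i.succ) + fun i : Fin 4 => l i.succ from rfl,
    W_add F.comm F.cube]
  exact (show Commute (zp c (l 0)) (W e fun i => k i.succ) from zp_comm F.central _ _).mul_mul_mul_comm _ _

theorem W_W (F : IsFrame π c n₁ n₂ e f) (A : Fin 4 → Fin 4 → ZMod 3) (u : Fin 4 → ZMod 3) :
    W (fun j => W e fun i => A i j) u = W e fun i => ∑ j, A i j * u j := by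
  let Φ : Multiplicative (Fin 4 → ZMod 3) →* L :=
    MonoidHom.mk' (fun x => W e x.toAdd) fun x y => W_add F.comm F.cube x.toAdd y.toAdd
  have := W_map Φ (fun j => Multiplicative.ofAdd fun i => A i j) u
  refine this.symm.trans ?_
  show W e _ = _
  congr 1
  funext i
  simp only [W, toAdd_mul, toAdd_pow, toAdd_ofAdd, Pi.add_apply, Fin.sum_univ_four]
  simp [ZMod.natCast_zmod_val, mul_comm]

theorem conj_elt (F : IsFrame π c n₁ n₂ e f) {n : L} {l : List ℕ} {g : Fin 4 → ZMod 3}
    (h : ∀ j, n * e j * n⁻¹ = W e (fun i => matOf l i j) * zp c (g j)) (k : K5) :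
    n * elt c e k = elt c e (act l g k) * n := by
  have h1 : n * (W e fun i => k i.succ) * n⁻¹ =
      (W e fun i => ∑ j, matOf l i j * k j.succ) * zp c (∑ j, k j.succ * g j) := by
    rw [← MulAut.conj_apply, ← MulEquiv.coe_toMonoidHom, W_map]
    simp only [MulEquiv.coe_toMonoidHom, MulAut.conj_apply, h]
    rw [W_mul_zp F.c_cube F.central, W_W F]
  rw [← mul_inv_eq_iff_eq_mul]
  simp only [elt, act, Fin.cons_zero, Fin.cons_succ, zp_add F.c_cube]
  rw [← mul_assoc n, ← zp_comm F.central (k 0) n, mul_assoc (zp c (k 0)), mul_assoc (zp c (k 0)), h1,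
    ← zp_comm F.central]
  simp only [mat, matOf, mul_comm (k _), mul_assoc]

end

set_option maxHeartbeats 1600000 in
/-- The standard form of the action. -/
theorem exists_su62 {L : Type*} [Group L] {π : L →* G43} (hπ : Function.Surjective π) (h3 : Nat.card π.ker = 3)
    (θ : L →* Module.End (ZMod 2) V12) (hθ : Function.Injective θ) (q : QuadraticForm (ZMod 2) V12)
    (hnd : (QuadraticMap.polarBilin q).Nondegenerate) (hq : ∀ g v, q (θ g v) = q v) :
    ∃ (k : ℕ) (Φ : V12 ≃+ V6) (ψ : L →* SU62), k < 3 ∧ Function.Injective ψ ∧ ψ.range = cover62 k ∧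
      (∀ g v, Φ (θ g v) = suVal (ψ g) *ᵥ Φ v) ∧ ∀ v, hermForm 6 K4 2 (Φ v) (Φ v) = bitK (q v) := by
  obtain ⟨c, n₁, n₂, e, f, F⟩ := exists_frame hπ h3
  let R : K5 → Module.End (ZMod 2) V12 := fun k => θ (elt c e k)
  have hR : Weights.Act R :=
    ⟨by simp [R, elt, W, zp_zero], fun k l => by simp only [R, elt_add F, map_mul]⟩
  have h1 : ∀ k, θ n₁ * R k = R (act mA1 0 k) * θ n₁ := fun k => by
    rw [← map_mul, ← map_mul, conj_elt F (g := 0) fun j => by rw [F.conj₁, Pi.zero_apply, zp_zero, mul_one]]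
  have h2 : ∀ k, θ n₂ * R k = R (act mA2 f k) * θ n₂ := fun k => by
    rw [← map_mul, ← map_mul, conj_elt F F.conj₂]
  have hx : R (Pi.single 1 1) ≠ 1 := fun h => by
    have hv : (Pi.single 1 1 : K5) 0 = 0 ∧ (fun i : Fin 4 => (Pi.single 1 1 : K5) i.succ) = ![1, 0, 0, 0] :=
      ⟨rfl, funext fun i => by fin_cases i <;> rfl⟩
    have he : elt c e (Pi.single 1 1) = e 0 := by
      rw [elt, hv.1, hv.2, zp_zero, one_mul]
      simp [W, ZMod.val_one]
    rw [show R (Pi.single 1 1) = θ (e 0) from congrArg θ he, ← map_one θ] at h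
    have := congrArg π (hθ h)
    rw [F.image, map_one] at this
    exact facts_E43.2.2.2.2 this
  have hc : R (Pi.single 0 1) = θ c := congrArg θ (by
    rw [elt, show (Pi.single 0 1 : K5) 0 = 1 from rfl,
      show (fun i : Fin 4 => (Pi.single 0 1 : K5) i.succ) = ![0, 0, 0, 0] from funext fun i => by fin_cases i <;> rfl,
      zp_one]
    simp [W])
  have hV : Nat.card V12 = 4096 := by simp
  obtain ⟨v, hv1, horth, hCC, hbij⟩ := six_planes hR hV (N₁ := Units.map θ (toUnits n₁))
    (N₂ := Units.map θ (toUnits n₂)) h1 h2 hx (fun x => q x) (QuadraticMap.polarBilin q)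
    (fun x y => by simp [QuadraticMap.polar]) (fun x h => hnd.1 x h) (fun k v => hq _ v)
  rw [hc] at horth hCC hbij
  set C := θ c with hC
  let Sg : V6 →+ V12 := AddMonoidHom.mk' (fun u => ∑ i, ((ofK (u i)).1 • v i + (ofK (u i)).2 • C (v i))) fun u w => by
    rw [← Finset.sum_add_distrib]
    refine Finset.sum_congr rfl fun i _ => ?_
    rw [Pi.add_apply, toK_facts.2.2.1, Prod.fst_add, Prod.snd_add, add_smul, add_smul, add_add_add_comm]
  have hof : Function.Bijective (fun (u : V6) i => ofK (u i)) :=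
    Function.bijective_iff_has_inverse.2 ⟨fun a i => toK (a i), fun u => funext fun i => toK_facts.1 _,
      fun a => funext fun i => toK_facts.2.1 _⟩
  let Φ : V12 ≃+ V6 := (AddEquiv.ofBijective Sg (hbij.comp hof)).symm
  have hΦ : ∀ u, Φ.symm u = Sg u := fun u => rfl
  -- multiplication by the scalar
  have hom_om : ∀ x, Φ (C x) = om • Φ x := fun x => by
    refine Φ.symm.injective ?_
    rw [AddEquiv.symm_apply_apply, hΦ]
    conv_lhs => rw [← Φ.symm_apply_apply x, hΦ]
    simp only [Sg, AddMonoidHom.mk'_apply, map_sum, map_add, map_smul, hCC, Pi.smul_apply, smul_eq_mul,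
      toK_facts.2.2.2.1]
    refine Finset.sum_congr rfl fun i _ => ?_
    rw [smul_add, add_smul, ← add_assoc, add_comm]
  -- the norm
  have hnorm : ∀ x, hermForm 6 K4 2 (Φ x) (Φ x) = bitK (q x) := fun x => by
    set u := Φ x with hu
    have hx : x = Sg u := by rw [← hΦ, hu, AddEquiv.symm_apply_apply]
    let t : Fin 6 → V12 := fun i => (ofK (u i)).1 • v i + (ofK (u i)).2 • C (v i)
    have hqc : ∀ i, q (t i) = if ofK (u i) = 0 then 0 else 1 := fun i => by
      simp only [t]
      rcases h : ofK (u i) with ⟨a, b⟩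
      rcases (show ∀ s : ZMod 2, s = 0 ∨ s = 1 by decide) a with rfl | rfl <;>
        rcases (show ∀ s : ZMod 2, s = 0 ∨ s = 1 by decide) b with rfl | rfl
      · simp
      · rw [if_neg (by decide), zero_smul, zero_add, one_smul, hC, hq]; exact hv1 i
      · rw [if_neg (by decide), one_smul, zero_smul, add_zero]; exact hv1 i
      · rw [if_neg (by decide), one_smul, one_smul, add_comm, ← hCC, hC, hq, hq]; exact hv1 i
    have hsum : ∀ S : Finset (Fin 6), bitK (q (∑ i ∈ S, t i)) = ∑ i ∈ S, bitK (q (t i)) := by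
      intro S
      induction S using Finset.induction with
      | empty => simp [bitK]; rfl
      | insert i S hi ih =>
        rw [Finset.sum_insert hi, Finset.sum_insert hi, ← ih, ← bitK_add]
        congr 1
        have hp : QuadraticMap.polar q (t i) (∑ j ∈ S, t j) = 0 := by
          rw [← QuadraticMap.polarBilin_apply_apply, map_sum]
          exact Finset.sum_eq_zero fun j hj => horth i j (fun h => hi (h ▸ hj)) (ofK (u i)) (ofK (u j))
        rwa [QuadraticMap.polar, sub_sub, sub_eq_zero] at hp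
    rw [hx, show Sg u = ∑ i, t i from rfl, hsum]
    exact Finset.sum_congr rfl fun i _ => by
      rw [hqc, ← toK_facts.2.2.2.2, toK_facts.1]
  -- linearity
  have hlin : ∀ g (s : K4) (u : V6), Φ (θ g (Φ.symm (s • u))) = s • Φ (θ g (Φ.symm u)) := fun g s u => by
    have hC' : ∀ y, θ g (C y) = C (θ g y) := fun y => by
      rw [hC, ← Module.End.mul_apply, ← map_mul, ← F.central, map_mul, Module.End.mul_apply]
    have ho : ∀ w : V6, Φ (θ g (Φ.symm (om • w))) = om • Φ (θ g (Φ.symm w)) := fun w => by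
      rw [show Φ.symm (om • w) = C (Φ.symm w) from Φ.injective (by
        rw [AddEquiv.apply_symm_apply, hom_om, AddEquiv.apply_symm_apply]), hC', hom_om]
    rcases scalar_cases s with rfl | rfl | rfl | rfl
    · simp
    · simp
    · exact ho u
    · rw [add_smul, add_smul, map_add, map_add, map_add, ho, one_smul, one_smul]
  let M : L → V6 →ₗ[K4] V6 := fun g =>
    { toFun := fun u => Φ (θ g (Φ.symm u))
      map_add' := fun u w => by simp only [map_add]
      map_smul' := fun s u => hlin g s u }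
  have hMn : ∀ g u, hermForm 6 K4 2 (M g u) (M g u) = hermForm 6 K4 2 u u := fun g u => by
    show hermForm 6 K4 2 (Φ (θ g (Φ.symm u))) (Φ (θ g (Φ.symm u))) = _
    rw [hnorm, hq, ← hnorm, AddEquiv.apply_symm_apply]
  have hMmul : ∀ g g', M (g * g') = M g ∘ₗ M g' := fun g g' => LinearMap.ext fun u => by
    show Φ (θ (g * g') (Φ.symm u)) = Φ (θ g (Φ.symm (Φ (θ g' (Φ.symm u)))))
    rw [AddEquiv.symm_apply_apply, map_mul, Module.End.mul_apply]
  have hM1 : M 1 = LinearMap.id := LinearMap.ext fun u => by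
    show Φ (θ 1 (Φ.symm u)) = u
    rw [map_one, Module.End.one_apply, AddEquiv.apply_symm_apply]
  -- the determinant
  let D₀ : L →* K4 :=
    { toFun := fun g => LinearMap.det (M g)
      map_one' := by rw [hM1, LinearMap.det_id]
      map_mul' := fun g g' => by rw [hMmul, LinearMap.det_comp] }
  let D : L →* K4ˣ := D₀.toHomUnits
  have hDc : π.ker ≤ D.ker := fun x hx => by
    obtain ⟨t, rfl⟩ := F.ker x hx
    refine MonoidHom.mem_ker.2 ?_
    rw [zp, map_pow, show D c = 1 from Units.ext (by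
      show LinearMap.det (M c) = 1
      rw [show M c = om • LinearMap.id from LinearMap.ext fun u => by
        show Φ (θ c (Φ.symm u)) = om • u
        rw [← hC, hom_om, AddEquiv.apply_symm_apply], LinearMap.det_smul, LinearMap.det_id, mul_one,
        Module.finrank_fin_fun]
      decide +kernel), one_pow]
  have hdet : ∀ g, LinearMap.det (M g) = 1 := fun g => by
    obtain ⟨D', hD'⟩ : ∃ D' : G43 →* K4ˣ, D'.comp π = D :=
      ⟨π.liftOfSurjective hπ ⟨D, hDc⟩, MonoidHom.liftOfRightInverse_comp _ _ _ _⟩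
    have := congrArg (fun h : L →* K4ˣ => ((h g : K4ˣ) : K4)) hD'
    simp only [hom_comm_trivial D', MonoidHom.comp_apply, MonoidHom.one_apply, Units.val_one] at this
    exact this.symm
  have hmat : ∀ g u, LinearMap.toMatrix' (M g) *ᵥ u = M g u := fun g u => LinearMap.toMatrix'_mulVec _ _
  let ψ : L →* SU62 := MonoidHom.mk'
    (fun g => ⟨⟨LinearMap.toMatrix' (M g), by rw [LinearMap.det_toMatrix', hdet]⟩, fun u w => by
      show hermForm 6 K4 2 (LinearMap.toMatrix' (M g) *ᵥ u) (LinearMap.toMatrix' (M g) *ᵥ w) = _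
      rw [hmat, hmat]; exact herm_preserve _ (hMn g) u w⟩)
    fun g g' => suVal_ext (show LinearMap.toMatrix' (M (g * g')) = LinearMap.toMatrix' (M g) * LinearMap.toMatrix' (M g')
      by rw [hMmul, LinearMap.toMatrix'_comp])
  have hact : ∀ g x, Φ (θ g x) = suVal (ψ g) *ᵥ Φ x := fun g x => by
    show _ = LinearMap.toMatrix' (M g) *ᵥ Φ x
    rw [hmat]
    show _ = Φ (θ g (Φ.symm (Φ x)))
    rw [AddEquiv.symm_apply_apply]
  have hψ : Function.Injective ψ := fun g g' h => hθ (LinearMap.ext fun x => Φ.injective (by rw [hact, hact, h]))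
  -- the image
  have hcen : Subgroup.center L = π.ker := by
    ext x
    refine ⟨fun hx => ?_, fun hx => ?_⟩
    · have : π x ∈ Subgroup.center G43 := Subgroup.mem_center_iff.2 fun y => by
        obtain ⟨w, rfl⟩ := hπ y
        rw [← map_mul, ← map_mul, Subgroup.mem_center_iff.1 hx w]
      rw [center_G43, Subgroup.mem_bot] at this
      exact this
    · obtain ⟨t, rfl⟩ := F.ker x hx
      exact Subgroup.mem_center_iff.2 fun w => (zp_comm F.central t w).symm
  obtain ⟨hc1, ⟨i1⟩⟩ := center_quot_congr (MonoidHom.ofInjective hψ)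
  obtain ⟨d, k, hk, hd⟩ := cover_class ψ.range (by rw [hc1, hcen, h3])
    ⟨i1.symm.trans ((QuotientGroup.quotientMulEquivOfEq hcen).trans
      (QuotientGroup.quotientKerEquivOfSurjective π hπ))⟩
  have hdinv : ∀ x, suVal d *ᵥ (suVal d⁻¹ *ᵥ x) = x ∧ suVal d⁻¹ *ᵥ (suVal d *ᵥ x) = x := fun x => by
    rw [Matrix.mulVec_mulVec, Matrix.mulVec_mulVec, ← suVal_mul, ← suVal_mul, mul_inv_cancel, inv_mul_cancel]
    exact ⟨Matrix.one_mulVec x, Matrix.one_mulVec x⟩
  let dE : V6 ≃+ V6 :=
    { toFun := fun x => suVal d *ᵥ x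
      invFun := fun x => suVal d⁻¹ *ᵥ x
      left_inv := fun x => (hdinv x).2
      right_inv := fun x => (hdinv x).1
      map_add' := fun x y => Matrix.mulVec_add _ _ _ }
  refine ⟨k, Φ.trans dE, (MulAut.conj d).toMonoidHom.comp ψ, hk, (MulAut.conj d).injective.comp hψ,
    by rw [MonoidHom.range_comp, hd], fun g x => ?_, fun x => ?_⟩
  · show suVal d *ᵥ Φ (θ g x) = suVal (d * ψ g * d⁻¹) *ᵥ (suVal d *ᵥ Φ x)
    rw [hact, suVal_mul, suVal_mul, ← Matrix.mulVec_mulVec _ (suVal d * suVal (ψ g)), (hdinv _).2,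
      ← Matrix.mulVec_mulVec]
  · show hermForm 6 K4 2 (suVal d *ᵥ Φ x) (suVal d *ᵥ Φ x) = _
    rw [← hnorm x]
    exact d.2 (Φ x) (Φ x)

end Cfsg.Agent.Spor.LargeFischer
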