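import Cfsg.Agent.Lib.Spor.LargeFischer.Checks
import Cfsg.Agent.Lib.Spor.Cos.Act

/-! The tables of one class are correct. -/

set_option autoImplicit false
set_option maxRecDepth 100000
set_option maxHeartbeats 4000000

open Cfsg.Agent.Spor.Cos

namespace Cfsg.Agent.Spor.LargeFischer.C0

theorem gen_ok : chkGen 0 = true := by decide +kernel

theorem code_ok : ∀ c < 4096, (dat 0).chkC c = true :=
  of_blocks (size := 512) (b := 8) (by decide) (by decide) fun j hj => by interval_cases j <;> decide +kernel

theorem pts1_ok : ∀ i < 378, (dat 0).chkP1 i = true :=
  of_blocks (size := 378) (b := 1) (by decide) (by decide) fun j hj => by interval_cases j <;> decide +kernel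

theorem pts2_ok : ∀ i < 1701, (dat 0).chkP2 i = true :=
  of_blocks (size := 567) (b := 3) (by decide) (by decide) fun j hj => by interval_cases j <;> decide +kernel

theorem orbO_ok : (dat 0).chkO = true := by decide +kernel

theorem chain_ok : (dat 0).chkChain = true := by decide +kernel

theorem blk_ok : (dat 0).chkBlk = true := by decide +kernel

theorem wl_ok : ∀ c < 4096, ((dat 0).inW c == (dat 0).wl.contains c) = true :=
  of_blocks (size := 1024) (b := 4) (by decide) (by decide) fun j hj => by interval_cases j <;> decide +kernel

theorem stab2_ok : (dat 0).chkS2 = true := by decide +kernel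

end Cfsg.Agent.Spor.LargeFischer.C0
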