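import Cfsg.Agent.Lib.Spor.USixTwo.Group
import Cfsg.Agent.Lib.Spor.Cos.Bst
import Cfsg.Agent.Lib.Spor.Cos.Words

/-!
Vectors of the six-dimensional hermitian space as numbers below `4096`, additive maps as lists of the images of the
twelve bits, and orbits given by predecessors.
-/

set_option autoImplicit false
set_option maxRecDepth 100000

open Cfsg Cfsg.Agent.Classical Matrix
open Cfsg.Agent.Spor.USixTwo (K4 vecOf)

namespace Cfsg.Agent.Spor.LargeFischer

/-- The code of a vector. -/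
def enc6 (v : Fin 6 → K4) : ℕ :=
  (v 0).v.1 + 4 * (v 1).v.1 + 16 * (v 2).v.1 + 64 * (v 3).v.1 + 256 * (v 4).v.1 + 1024 * (v 5).v.1

theorem enc6_lt (v : Fin 6 → K4) : enc6 v < 4096 := by
  have := (v 0).v.2; have := (v 1).v.2; have := (v 2).v.2; have := (v 3).v.2; have := (v 4).v.2; have := (v 5).v.2
  simp only [enc6]; omega

theorem K4_of_val (a : K4) : K4.of a.v.1 = a := congrArg K4.mk (Fin.ext (Nat.mod_eq_of_lt a.v.2))

theorem vecOf_enc6 (v : Fin 6 → K4) : vecOf (enc6 v) = v := by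
  have := (v 0).v.2; have := (v 1).v.2; have := (v 2).v.2; have := (v 3).v.2; have := (v 4).v.2; have := (v 5).v.2
  funext i
  match i with
  | 0 => exact (congrArg K4.of (show enc6 v % 4 = (v 0).v.1 by simp only [enc6]; omega)).trans (K4_of_val _)
  | 1 => exact (congrArg K4.of (show enc6 v / 4 % 4 = (v 1).v.1 by simp only [enc6]; omega)).trans (K4_of_val _)
  | 2 => exact (congrArg K4.of (show enc6 v / 16 % 4 = (v 2).v.1 by simp only [enc6]; omega)).trans (K4_of_val _)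
  | 3 => exact (congrArg K4.of (show enc6 v / 64 % 4 = (v 3).v.1 by simp only [enc6]; omega)).trans (K4_of_val _)
  | 4 => exact (congrArg K4.of (show enc6 v / 256 % 4 = (v 4).v.1 by simp only [enc6]; omega)).trans (K4_of_val _)
  | 5 => exact (congrArg K4.of (show enc6 v / 1024 % 4 = (v 5).v.1 by simp only [enc6]; omega)).trans (K4_of_val _)

theorem enc6_vecOf {c : ℕ} (hc : c < 4096) : enc6 (vecOf c) = c := by
  simp only [enc6, vecOf, K4.of, Fin.ofNat, Matrix.cons_val_zero, Matrix.cons_val_one, Matrix.cons_val]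
  simp
  omega

theorem vecOf_inj {c d : ℕ} (hc : c < 4096) (hd : d < 4096) (h : vecOf c = vecOf d) : c = d := by
  rw [← enc6_vecOf hc, h, enc6_vecOf hd]

theorem vecOf_zero : vecOf 0 = 0 := by funext i; fin_cases i <;> rfl

theorem of_xor : ∀ x < 4, ∀ y < 4, K4.of (x ^^^ y) = K4.of x + K4.of y := by decide +kernel

theorem vecOf_xor (a b : ℕ) : vecOf (a ^^^ b) = vecOf a + vecOf b := by
  have key : ∀ n : ℕ, K4.of ((a ^^^ b) / 2 ^ n % 4) = K4.of (a / 2 ^ n % 4) + K4.of (b / 2 ^ n % 4) := fun n => by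
    rw [show (a ^^^ b) / 2 ^ n % 4 = (a / 2 ^ n % 4) ^^^ (b / 2 ^ n % 4) by
      simp only [← Nat.shiftRight_eq_div_pow, Nat.shiftRight_xor_distrib]
      exact Nat.xor_mod_two_pow (n := 2)]
    exact of_xor _ (Nat.mod_lt _ (by norm_num)) _ (Nat.mod_lt _ (by norm_num))
  funext i
  match i with
  | 0 =>
    show K4.of ((a ^^^ b) % 4) = K4.of (a % 4) + K4.of (b % 4)
    simpa using key 0
  | 1 => exact key 2
  | 2 => exact key 4
  | 3 => exact key 6
  | 4 => exact key 8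
  | 5 => exact key 10

/-- Apply the additive map given by the images of the bits. -/
def app : List ℕ → ℕ → ℕ
  | [], _ => 0
  | x :: l, c => (c % 2 * x) ^^^ app l (c / 2)

theorem app_sound_aux (f : (Fin 6 → K4) →+ (Fin 6 → K4)) : ∀ (l : List ℕ) (j : ℕ),
    (∀ i < l.length, f (vecOf (2 ^ (j + i))) = vecOf (l.getD i 0)) →
    ∀ c < 2 ^ l.length, f (vecOf (c * 2 ^ j)) = vecOf (app l c)
  | [], j, _, c, hc => by
    obtain rfl : c = 0 := by simpa using hc
    rw [zero_mul, app, vecOf_zero, map_zero]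
  | x :: l, j, h, c, hc => by
    have hrec := app_sound_aux f l (j + 1) (fun i hi => by
      have := h (i + 1) (by simpa using hi)
      rwa [show j + (i + 1) = j + 1 + i by omega] at this) (c / 2)
      (by rw [List.length_cons, pow_succ] at hc; omega)
    have hx := h 0 (by simp)
    rw [Nat.add_zero, List.getD_cons_zero] at hx
    have hdec : c * 2 ^ j = (c % 2 * 2 ^ j) ^^^ (c / 2 * 2 ^ (j + 1)) := by
      have hc' : c = (c % 2) ^^^ ((c / 2) * 2) := by
        refine Nat.eq_of_testBit_eq fun i => ?_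
        cases i with
        | zero => simp [Nat.testBit_xor, Nat.testBit_zero, Nat.mul_mod_left]
        | succ i =>
          rw [Nat.testBit_xor, Nat.testBit_succ, Nat.testBit_succ, Nat.testBit_succ,
            show c % 2 / 2 = 0 by omega, show c / 2 * 2 / 2 = c / 2 by omega]
          simp
      rw [pow_succ', ← mul_assoc, ← Nat.shiftLeft_eq, ← Nat.shiftLeft_eq, ← Nat.shiftLeft_eq,
        ← Nat.shiftLeft_xor_distrib, ← hc']
    rw [hdec, vecOf_xor, map_add, hrec, app, vecOf_xor]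
    congr 1
    rcases Nat.mod_two_eq_zero_or_one c with e | e
    · rw [e, zero_mul, zero_mul, vecOf_zero, map_zero]
    · rw [e, one_mul, one_mul, hx]

theorem app_sound (f : (Fin 6 → K4) →+ (Fin 6 → K4)) {l : List ℕ} (hl : l.length = 12)
    (h : ∀ i < 12, f (vecOf (2 ^ i)) = vecOf (l.getD i 0)) {c : ℕ} (hc : c < 4096) :
    f (vecOf c) = vecOf (app l c) := by
  have := app_sound_aux f l 0 (fun i hi => by rw [Nat.zero_add]; exact h i (hl ▸ hi)) c
    (by rw [hl]; exact hc)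
  simpa using this

theorem app_lt {l : List ℕ} (h : ∀ x ∈ l, x < 4096) : ∀ c, app l c < 4096 := by
  induction l with
  | nil => intro c; simp [app]
  | cons x l ih =>
    intro c
    refine Nat.xor_lt_two_pow (n := 12) ?_ (ih (fun y hy => h y (List.mem_cons_of_mem _ hy)) _)
    rcases Nat.mod_two_eq_zero_or_one c with e | e <;> rw [e] <;> simp [h x (List.mem_cons_self ..)]

/-- The form of two codes. -/
def hermC (a b : ℕ) : ℕ :=
  (List.range 6).foldl (fun s i =>
    s ^^^ ([0, 0, 0, 0, 0, 1, 3, 2, 0, 2, 1, 3, 0, 3, 2, 1].getD (4 * (a / 4 ^ i % 4) + b / 4 ^ i % 4) 0)) 0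

theorem hermC_term : ∀ x < 4, ∀ y < 4,
    K4.of ([0, 0, 0, 0, 0, 1, 3, 2, 0, 2, 1, 3, 0, 3, 2, 1].getD (4 * x + y) 0) = K4.of x * K4.of y ^ 2 ∧
      [0, 0, 0, 0, 0, 1, 3, 2, 0, 2, 1, 3, 0, 3, 2, 1].getD (4 * x + y) 0 < 4 := by decide +kernel

theorem hermC_sound (a b : ℕ) : hermForm 6 K4 2 (vecOf a) (vecOf b) = K4.of (hermC a b) := by
  have step : ∀ s t, s < 4 → t < 4 → K4.of (s ^^^ t) = K4.of s + K4.of t ∧ s ^^^ t < 4 := fun s t hs ht =>
    ⟨of_xor s hs t ht, Nat.xor_lt_two_pow (n := 2) hs ht⟩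
  have h : ∀ i : ℕ, K4.of (a / 4 ^ i % 4) * K4.of (b / 4 ^ i % 4) ^ 2 =
      K4.of ([0, 0, 0, 0, 0, 1, 3, 2, 0, 2, 1, 3, 0, 3, 2, 1].getD (4 * (a / 4 ^ i % 4) + b / 4 ^ i % 4) 0) :=
    fun i => ((hermC_term _ (Nat.mod_lt _ (by norm_num)) _ (Nat.mod_lt _ (by norm_num))).1).symm
  have hlt : ∀ i : ℕ, [0, 0, 0, 0, 0, 1, 3, 2, 0, 2, 1, 3, 0, 3, 2, 1].getD (4 * (a / 4 ^ i % 4) + b / 4 ^ i % 4) 0 < 4 :=
    fun i => (hermC_term _ (Nat.mod_lt _ (by norm_num)) _ (Nat.mod_lt _ (by norm_num))).2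
  have key : ∀ n, K4.of ((List.range n).foldl (fun s i =>
      s ^^^ ([0, 0, 0, 0, 0, 1, 3, 2, 0, 2, 1, 3, 0, 3, 2, 1].getD (4 * (a / 4 ^ i % 4) + b / 4 ^ i % 4) 0)) 0) =
      ∑ i ∈ Finset.range n, K4.of (a / 4 ^ i % 4) * K4.of (b / 4 ^ i % 4) ^ 2 ∧
      (List.range n).foldl (fun s i =>
      s ^^^ ([0, 0, 0, 0, 0, 1, 3, 2, 0, 2, 1, 3, 0, 3, 2, 1].getD (4 * (a / 4 ^ i % 4) + b / 4 ^ i % 4) 0)) 0 < 4 := by
    intro n
    induction n with
    | zero => exact ⟨rfl, by simp⟩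
    | succ n ih =>
      rw [List.range_succ, List.foldl_append, List.foldl_cons, List.foldl_nil, Finset.sum_range_succ, ← ih.1, h n]
      exact step _ _ ih.2 (hlt n)
  rw [hermC, (key 6).1, hermForm, Fin.sum_univ_six, Finset.sum_range_succ, Finset.sum_range_succ,
    Finset.sum_range_succ, Finset.sum_range_succ, Finset.sum_range_succ, Finset.sum_range_one]
  simp [vecOf]

/-- A packed list. -/
def rd (bits n i : ℕ) : ℕ := (n >>> (bits * i)) % 2 ^ bits

/-- An orbit given by predecessors: an entry is a predecessor and eight times a generator. -/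
def chkPred (act : ℕ → ℕ → ℕ) (ngen : ℕ) (pts prd : ℕ → ℕ) (i : ℕ) : Bool :=
  Nat.beq i 0 || (Nat.blt (prd i / 8) i && Nat.blt (prd i % 8) ngen &&
    Nat.beq (act (prd i % 8) (pts (prd i / 8))) (pts i))

/-- Everything listed is reached from the first member. -/
theorem reach {X : Type*} {G : Type*} [Group G] [MulAction G X] {S : Subgroup G} {g : ℕ → G} {act : ℕ → ℕ → ℕ}
    {ngen : ℕ} {pts prd : ℕ → ℕ} {n : ℕ} (emb : ℕ → X) (hS : ∀ s < ngen, g s ∈ S)
    (hact : ∀ s < ngen, ∀ i < n, g s • emb (pts i) = emb (act s (pts i)))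
    (h : ∀ i < n, chkPred act ngen pts prd i = true) :
    ∀ i < n, ∃ x ∈ S, x • emb (pts 0) = emb (pts i) := by
  intro i
  induction i using Nat.strong_induction_on with
  | _ i ih =>
    intro hi
    have hc := h i hi
    simp only [chkPred, Bool.or_eq_true, Bool.and_eq_true, Nat.beq_eq, Nat.blt_eq] at hc
    rcases hc with rfl | ⟨⟨h1, h2⟩, h3⟩
    · exact ⟨1, S.one_mem, one_smul _ _⟩
    · obtain ⟨x, hx, e⟩ := ih _ h1 (h1.trans hi)
      exact ⟨g (prd i % 8) * x, S.mul_mem (hS _ h2) hx, by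
        rw [mul_smul, e, hact _ h2 _ (h1.trans hi), h3]⟩

end Cfsg.Agent.Spor.LargeFischer
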