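import Mathlib

/-!
Words and matrices for the elementary abelian subgroup of order 81 of `PSU₄(3)` fixing a totally isotropic line
pointwise, and two elements of its normaliser.
-/

set_option autoImplicit false

namespace Cfsg.Agent.Spor.LargeFischer

/-- A basis of the subgroup of order 81. -/
def eW : List (List ℕ) := [[0, 2, 1, 0, 2, 1, 2, 1, 0, 1, 2, 0], [2, 1, 2, 0, 1, 0, 2, 1, 2, 1, 0, 1, 0], [2, 1, 0, 1, 0, 2, 1, 0, 1, 2, 1, 2, 0, 2, 1], [2, 1, 0, 2, 0, 1, 0, 1, 2, 0, 1, 0, 1, 2, 1, 0, 1, 0, 2]]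

/-- An element of order five normalising it, without fixed points on it. -/
def nW1 : List ℕ := [0, 1, 2, 0, 1, 0, 1, 0]

/-- A second element normalising it. -/
def nW2 : List ℕ := [0, 2, 1, 0, 2, 0, 1, 2, 0]

/-- The matrix of the first element. -/
def mA1 : List ℕ := [1, 1, 1, 2, 0, 0, 1, 2, 1, 0, 0, 0, 1, 0, 0, 1]

/-- The matrix of the second element. -/
def mA2 : List ℕ := [2, 1, 1, 0, 0, 1, 0, 1, 0, 0, 1, 2, 0, 0, 0, 2]

end Cfsg.Agent.Spor.LargeFischer
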