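import Cfsg.Agent.Lib.Spor.LargeFischer.Checks
import Cfsg.Agent.Lib.Spor.Cos.Act

/-!
The sixteen tabled maps fixing the blocks move a vector orthogonal to the first one of the long orbit only along the
line of that one; this is seen on ten basis vectors of the orthogonal space.
-/

set_option autoImplicit false
set_option maxRecDepth 100000
set_option maxHeartbeats 4000000

namespace Cfsg.Agent.Spor.LargeFischer

/-- A basis of the vectors orthogonal to the first of the long orbit. -/
def perpB : List ℕ := [5, 10, 16, 32, 64, 128, 256, 512, 1024, 2048]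

/-- The multiples of the first vector of the long orbit. -/
def Dat.line2 (D : Dat) : List ℕ := [0, D.v2, D.omC D.v2, D.omC (D.omC D.v2)]

/-- The combination of the basis given by the bits from the third on. -/
def perpC (c : ℕ) : ℕ :=
  (List.range 10).foldl (fun s j => s ^^^ (c / 2 ^ (j + 2) % 2 * perpB.getD j 0)) 0

/-- The basis moves along the line. -/
def Dat.chkShift (D : Dat) : Bool :=
  D.kerW.all fun w => perpB.all fun c => D.line2.contains (D.wC w c ^^^ c)

/-- One of the maps has a move by the scalar multiple. -/
def Dat.chkHit (D : Dat) : Bool :=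
  perpB.any fun c => Nat.beq (D.wC (D.kerW.getD 1 []) c ^^^ c) (D.omC D.v2)

/-- A map fixing the orthogonal vectors fixes everything. -/
def Dat.chkFaith (D : Dat) : Bool :=
  D.kerW.all fun w => (perpB.any fun c => !Nat.beq (D.wC w c) c) ||
    (List.range 12).all fun i => Nat.beq (D.wC w (2 ^ i)) (2 ^ i)

/-- The basis is orthogonal, spans, and only the line is orthogonal to it. -/
def Dat.chkPerp (D : Dat) (v : ℕ) : Bool :=
  (!Nat.beq (hermC v D.v2) 0 || Nat.beq (perpC v) v) &&
    (D.line2.contains v || perpB.any fun c => !Nat.beq (hermC v c) 0)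

theorem eight_small : ∀ k < 3, (dat k).chkShift = true ∧ (dat k).chkHit = true ∧ (dat k).chkFaith = true ∧
    Nat.beq (dat k).v2 5 = true ∧
    perpB.all (fun c => Nat.beq (hermC c (dat k).v2) 0) = true := by decide +kernel

theorem eight_perp0 : ∀ v < 4096, (dat 0).chkPerp v = true :=
  Cos.of_blocks (size := 512) (b := 8) (by decide) (by decide) fun j hj => by interval_cases j <;> decide +kernel

theorem eight_perp1 : ∀ v < 4096, (dat 1).chkPerp v = true :=
  Cos.of_blocks (size := 512) (b := 8) (by decide) (by decide) fun j hj => by interval_cases j <;> decide +kernel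

theorem eight_perp2 : ∀ v < 4096, (dat 2).chkPerp v = true :=
  Cos.of_blocks (size := 512) (b := 8) (by decide) (by decide) fun j hj => by interval_cases j <;> decide +kernel

theorem eight_perp : ∀ k < 3, ∀ v < 4096, (dat k).chkPerp v = true := by
  intro k hk
  interval_cases k
  exacts [eight_perp0, eight_perp1, eight_perp2]

end Cfsg.Agent.Spor.LargeFischer
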