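import Cfsg.Agent.Lib.Spor.LargeFischer.EightSetting

/-!
The elementary abelian group of the three centres, its centraliser and the part acting trivially on the six blocks.
-/

set_option autoImplicit false
set_option maxRecDepth 100000
set_option linter.style.haveILetI false
set_option linter.unusedSectionVars false

open Cfsg Cfsg.Agent.Classical Cfsg.Agent.Spor.Cos Matrix
open Cfsg.Agent.Spor.USixTwo (K4 vecOf)
open Cfsg.Agent.Spor.U62U43 (cover62)
open Cfsg.Agent.Fus.LargeFischerScalar (ω k4_facts k4_cases herm_bit exists_om lin_of_mem)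

namespace Cfsg.Agent.Spor.LargeFischer

variable {G : Type*} [Group G] [Finite G] {z : G} {Q : Subgroup (Subgroup.centralizer ({z} : Set G))}
  [hQn : Q.Normal] {m : Model z Q}

/-- The vectors on the line. -/
def lineSub (k : ℕ) : AddSubgroup (Fin 6 → K4) where
  carrier := {v | OnLine k v}
  zero_mem' := ⟨0, (zero_smul _ _).symm⟩
  add_mem' := fun ⟨a, ha⟩ ⟨b, hb⟩ => ⟨a + b, by rw [ha, hb, add_smul]⟩
  neg_mem' := fun {v} h => by
    show OnLine k (-v)
    rwa [neg_eq_of_add_eq_zero_left (neg_self6' v)]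

namespace Cfg

variable (C : Cfg m)

set_option linter.unusedVariables false in
/-- The elementary abelian group of order eight. -/
def V (C : Cfg m) : Subgroup G where
  carrier := {x | ∃ q : Q, gv q = x ∧ OnLine m.k (m.rep q)}
  one_mem' := ⟨1, rfl, by rw [m.rep_one]; exact (lineSub m.k).zero_mem⟩
  mul_mem' := fun ⟨p, hp, hp'⟩ ⟨q, hq, hq'⟩ =>
    ⟨p * q, by rw [← hp, ← hq]; rfl, by rw [m.rep_mul]; exact (lineSub m.k).add_mem hp' hq'⟩
  inv_mem' := fun ⟨p, hp, hp'⟩ => ⟨p⁻¹, by rw [← hp]; rfl, by rwa [m.rep_inv]⟩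

theorem z_mem_V : z ∈ C.V := by
  obtain ⟨q, hq⟩ := mem_QG.1 m.ext.mem
  exact ⟨q, hq, by rw [(m.rep_zero q).2 (Or.inr hq)]; exact (lineSub m.k).zero_mem⟩

theorem s_mem_V : gv C.s ∈ C.V := ⟨C.s, rfl, 1, by rw [C.rep_s, one_smul]⟩

theorem t_mem_V : gv C.t ∈ C.V := ⟨C.t, rfl, ω, C.rep_t⟩

theorem V_le : ∀ {K : Subgroup G}, z ∈ K → gv C.s ∈ K → gv C.t ∈ K → C.V ≤ K := by
  rintro K hz hs ht _ ⟨q, rfl, a, ha⟩
  have key : ∀ p : Q, gv p ∈ K → m.rep q = m.rep p → gv q ∈ K := fun p hp e => by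
    rcases m.rep_eq e with e' | e'
    · rw [← e']; exact hp
    · rw [← (show gv q * z * z = gv q by rw [mul_assoc, m.ext.zz, mul_one]), ← e']
      exact mul_mem hp hz
  rcases k4_cases a with rfl | rfl | rfl | rfl
  · exact key 1 (one_mem _) (by rw [ha, zero_smul, m.rep_one])
  · exact key C.s hs (by rw [ha, one_smul, C.rep_s])
  · exact key C.t ht (by rw [ha, C.rep_t])
  · exact key (C.s * C.t) (mul_mem hs ht)
      (by rw [ha, m.rep_mul, C.rep_s, C.rep_t, ← one_add_omega.1, add_smul, one_smul])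

theorem sq_V {x : G} (hx : x ∈ C.V) : x * x = 1 := by
  obtain ⟨q, rfl, a, ha⟩ := hx
  exact congrArg (fun p : Q => gv p) ((m.herm_zero q).1 (by rw [ha]; exact herm_line a a))

theorem comm_V {x y : G} (hx : x ∈ C.V) (hy : y ∈ C.V) : x * y = y * x := by
  calc x * y = (x * y)⁻¹ := (inv_eq_of_mul_eq_one_right (C.sq_V (mul_mem hx hy))).symm
    _ = y⁻¹ * x⁻¹ := mul_inv_rev x y
    _ = y * x := by rw [inv_eq_of_mul_eq_one_right (C.sq_V hx), inv_eq_of_mul_eq_one_right (C.sq_V hy)]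

theorem elementary_V : Cfsg.IsElementaryAbelian 2 C.V :=
  ⟨⟨⟨fun a b => Subtype.ext (C.comm_V a.2 b.2)⟩⟩, fun a ha => by rw [pow_two]; exact C.sq_V ha⟩

theorem V_le_QG : C.V ≤ QG Q := C.V_le m.ext.mem C.s_mem C.t_mem

theorem mem_cV {a : G} : a ∈ Subgroup.centralizer (C.V : Set G) ↔
    a * z = z * a ∧ a * gv C.s = gv C.s * a ∧ a * gv C.t = gv C.t * a := by
  constructor
  · intro h
    have h' := Subgroup.mem_centralizer_iff.1 h
    exact ⟨(h' z C.z_mem_V).symm, (h' _ C.s_mem_V).symm, (h' _ C.t_mem_V).symm⟩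
  · rintro ⟨h1, h2, h3⟩
    have hle : C.V ≤ Subgroup.centralizer ({a} : Set G) :=
      C.V_le (Subgroup.mem_centralizer_singleton_iff.2 h1.symm) (Subgroup.mem_centralizer_singleton_iff.2 h2.symm)
        (Subgroup.mem_centralizer_singleton_iff.2 h3.symm)
    exact Subgroup.mem_centralizer_iff.2 fun x hx => Subgroup.mem_centralizer_singleton_iff.1 (hle hx)

theorem V_le_cV : C.V ≤ Subgroup.centralizer (C.V : Set G) := fun _ hx =>
  Subgroup.mem_centralizer_iff.2 fun _ hy => C.comm_V hy hx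

theorem cV_le : Subgroup.centralizer (C.V : Set G) ≤ Subgroup.centralizer ({z} : Set G) := fun _ ha =>
  Subgroup.mem_centralizer_singleton_iff.2 (C.mem_cV.1 ha).1

theorem act_fix {a : Subgroup.centralizer ({z} : Set G)} {p : Q} (h : (a : G) * gv p = gv p * a) :
    m.act a (m.rep p) = m.rep p := by
  rw [m.act_rep]
  refine congrArg m.rep (Subtype.ext (Subtype.ext ?_))
  show (a : G) * gv p * (a : G)⁻¹ = gv p
  rw [mul_inv_eq_iff_eq_mul, h]

theorem cV_mem_M {a : G} (ha : a ∈ Subgroup.centralizer (C.V : Set G)) : (⟨a, C.cV_le ha⟩ : Subgroup.centralizer ({z} : Set G)) ∈ m.M := by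
  obtain ⟨-, h2, h3⟩ := C.mem_cV.1 ha
  exact C.mem_M_of_fix (by rw [← C.rep_s]; exact act_fix h2) (by rw [← C.rep_t]; exact act_fix h3)

/-- The map to the stabiliser. -/
noncomputable def toStab : ↥(Subgroup.centralizer (C.V : Set G)) →* stab m.k (rep m.k 2) :=
  MonoidHom.mk' (fun a => ⟨m.lin ⟨⟨a.1, C.cV_le a.2⟩, C.cV_mem_M a.2⟩, mem_stab.2 ⟨m.lin_mem _, by
    rw [← m.lin_act, ← C.rep_s]; exact act_fix (C.mem_cV.1 a.2).2.1⟩⟩)
    fun a b => Subtype.ext (map_mul m.lin ⟨⟨a.1, C.cV_le a.2⟩, C.cV_mem_M a.2⟩ ⟨⟨b.1, C.cV_le b.2⟩, C.cV_mem_M b.2⟩)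

theorem toStab_act (a : ↥(Subgroup.centralizer (C.V : Set G))) (v : Fin 6 → K4) :
    m.act ⟨a.1, C.cV_le a.2⟩ v = (C.toStab a : SUV) • v := m.lin_act ⟨⟨a.1, C.cV_le a.2⟩, C.cV_mem_M a.2⟩ v

theorem toStab_eq_one {a : ↥(Subgroup.centralizer (C.V : Set G))} : C.toStab a = 1 ↔ (a : G) ∈ QG Q := by
  rw [Subtype.ext_iff]
  show m.lin ⟨⟨a.1, C.cV_le a.2⟩, C.cV_mem_M a.2⟩ = 1 ↔ _
  rw [m.lin_eq_one, mem_QG]
  exact ⟨fun h => ⟨⟨_, h⟩, rfl⟩, fun ⟨q, hq⟩ => by
    have e : (q : Subgroup.centralizer ({z} : Set G)) = ⟨a.1, C.cV_le a.2⟩ := Subtype.ext hq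
    show (⟨a.1, C.cV_le a.2⟩ : Subgroup.centralizer ({z} : Set G)) ∈ Q
    rw [← e]
    exact q.2⟩

theorem exists_mover : ∃ y ∈ QG Q ⊓ Subgroup.centralizer ({gv C.s} : Set G), y * gv C.t ≠ gv C.t * y := by
  by_contra hcon
  push Not at hcon
  have hne1 : m.rep C.s ≠ m.rep C.t := by
    rw [C.rep_t, C.rep_s]
    intro e
    have e' : (1 + ω) • rep m.k 2 = 0 := by rw [add_smul, one_smul, ← e, neg_self6]
    rw [one_add_omega.1] at e'
    rcases smul_eq_zero.1 e' with e'' | e''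
    exacts [one_add_omega.2.2.1 e'', rep2_ne e'']
  rcases m.ext.centralized_by_hyperplane C.s_mem C.t_mem
    (fun y hy h => hcon y ⟨hy, Subgroup.mem_centralizer_singleton_iff.2 h⟩) with e | e | e | e
  · exact (rep_not_central C.rep_t_ne).1 e
  · exact (rep_not_central C.rep_t_ne).2 e
  · exact hne1 (congrArg m.rep (Subtype.ext (Subtype.ext e))).symm
  · obtain ⟨q, hq⟩ := mem_QG.1 m.ext.mem
    refine hne1 ?_
    have e' : C.t = C.s * q := Subtype.ext (Subtype.ext (by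
      show gv C.t = gv C.s * gv q
      exact e.trans (congrArg (gv C.s * ·) hq.symm)))
    rw [e', m.rep_mul, (m.rep_zero q).2 (Or.inr hq), add_zero]

/-- The part in `Q`. -/
def A : Subgroup G := QG Q ⊓ Subgroup.centralizer (C.V : Set G)

theorem card_A : Nat.card C.A = 2 ^ 11 := by
  have hsne : ∃ y ∈ QG Q, y * gv C.s ≠ gv C.s * y := by
    by_contra hcon
    push Not at hcon
    have hs0 : m.rep C.s ≠ 0 := by rw [C.rep_s]; exact rep2_ne
    rcases m.ext.cen _ C.s_mem hcon with e | e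
    exacts [(rep_not_central hs0).1 e, (rep_not_central hs0).2 e]
  have h1 := card_cut (z := z) (QG Q) (gv C.s) (fun y hy => m.ext.conj_eq C.s_mem hy)
    (fun y hy => m.ext.central y hy) m.ext.zz hsne
  rw [m.card_QG] at h1
  set B := QG Q ⊓ Subgroup.centralizer ({gv C.s} : Set G) with hB
  have h2 := card_cut (z := z) B (gv C.t) (fun y hy => m.ext.conj_eq C.t_mem hy.1)
    (fun y hy => m.ext.central y hy.1) m.ext.zz C.exists_mover
  have e : B ⊓ Subgroup.centralizer ({gv C.t} : Set G) = C.A := by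
    ext y
    simp only [hB, A, Subgroup.mem_inf, Subgroup.mem_centralizer_singleton_iff, C.mem_cV]
    exact ⟨fun ⟨⟨a, b⟩, c⟩ => ⟨a, m.ext.central y a, b, c⟩, fun ⟨a, _, b, c⟩ => ⟨⟨a, b⟩, c⟩⟩
  rw [e] at h2
  omega

theorem perp_of_A {q : Q} (h : gv q ∈ C.A) : Perp m.k (m.rep q) :=
  C.perp_of_comm (C.mem_cV.1 h.2).2.1 (C.mem_cV.1 h.2).2.2

theorem exists_A {v : Fin 6 → K4} (hv : Perp m.k v) : ∃ q : Q, m.rep q = v ∧ gv q ∈ C.A := by
  obtain ⟨q, rfl⟩ := m.rep_surj v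
  have := C.comm_of_perp hv
  exact ⟨q, rfl, mem_QG.2 ⟨q, rfl⟩, C.mem_cV.2 ⟨m.ext.central _ (mem_QG.2 ⟨q, rfl⟩), this.1, this.2⟩⟩

theorem toStab_surj : Function.Surjective C.toStab := by
  intro a
  have lx : m.lab C.s = 2 := by rw [Model.lab, C.rep_s, (rep_first m.k m.hk).2]
  obtain ⟨b, hb, hbs⟩ := m.exists_centralizing (x := C.s) (Or.inr lx) (a := a.1) (by rw [C.rep_s]; exact a.2)
  have hbt : m.act b (m.rep C.t) = m.rep C.t := by
    rw [m.lin_act, C.rep_t, smul_scalar, hb, (mem_stab.1 a.2).2]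
  rw [m.act_rep] at hbt
  set bc : Subgroup.centralizer ({z} : Set G) := (b : Subgroup.centralizer ({z} : Set G)) with hbc
  have hbz : (bc : G) * z = z * bc := Subgroup.mem_centralizer_singleton_iff.1 bc.2
  rcases m.rep_eq hbt with e | e
  · have ht : (bc : G) * gv C.t = gv C.t * bc := mul_inv_eq_iff_eq_mul.1 e.symm
    exact ⟨⟨(bc : G), C.mem_cV.2 ⟨hbz, hbs, ht⟩⟩, Subtype.ext hb⟩
  · have e1 : (bc : G) * gv C.t * (bc : G)⁻¹ = gv C.t * z := by
      have e2 : gv C.t = (bc : G) * gv C.t * (bc : G)⁻¹ * z := e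
      calc (bc : G) * gv C.t * (bc : G)⁻¹ = (bc : G) * gv C.t * (bc : G)⁻¹ * z * z := by
            rw [mul_assoc _ z z, m.ext.zz, mul_one]
        _ = gv C.t * z := by rw [← e2]
    obtain ⟨y, ⟨hyQ, hys⟩, hyt⟩ := C.exists_mover
    obtain ⟨q, hq⟩ := mem_QG.1 hyQ
    have hys' := Subgroup.mem_centralizer_singleton_iff.1 hys
    have hyt' := ((m.ext.conj_cases C.t_mem hyQ).resolve_left hyt).2
    have hyz := m.ext.central _ hyQ
    have h3 : y * (bc : G) * gv C.t = gv C.t * (y * bc) := by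
      calc y * (bc : G) * gv C.t = y * ((bc : G) * gv C.t * (bc : G)⁻¹) * bc := by group
        _ = (y * gv C.t * y⁻¹) * (y * z * y⁻¹) * y * bc := by rw [e1]; group
        _ = gv C.t * z * z * y * bc := by rw [hyt', hyz, mul_inv_cancel_right]
        _ = _ := by rw [mul_assoc _ z z, m.ext.zz, mul_one]; group
    have hmem : y * (bc : G) ∈ Subgroup.centralizer (C.V : Set G) :=
      C.mem_cV.2 ⟨Commute.mul_left hyz hbz, Commute.mul_left hys' hbs, h3⟩
    refine ⟨⟨_, hmem⟩, Subtype.ext ?_⟩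
    show m.lin _ = a.1
    rw [show (⟨⟨y * (bc : G), C.cV_le hmem⟩, C.cV_mem_M hmem⟩ : m.M) = (⟨q, m.M_le q.2⟩ : m.M) * b from
      Subtype.ext (Subtype.ext (by show y * (bc : G) = gv q * bc; rw [show gv q = y from hq])),
      map_mul, (m.lin_eq_one ⟨q, m.M_le q.2⟩).2 q.2, one_mul, hb]

/-- The action on the six blocks. -/
noncomputable def alpha : ↥(Subgroup.centralizer (C.V : Set G)) →* alternatingGroup (Fin 6) :=
  ((permB m.hk).comp C.toStab).codRestrict (alternatingGroup (Fin 6))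
    fun a => (six_blocks m.hk).1 ▸ ⟨C.toStab a, rfl⟩

theorem alpha_surj : Function.Surjective C.alpha := fun σ => by
  obtain ⟨b, hb⟩ := ((six_blocks m.hk).1.symm ▸ σ.2 : σ.1 ∈ (permB m.hk).range)
  obtain ⟨a, rfl⟩ := C.toStab_surj b
  exact ⟨a, Subtype.ext hb⟩

/-- The kernel. -/
noncomputable def R : Subgroup G := C.alpha.ker.map (Subgroup.centralizer (C.V : Set G)).subtype

theorem R_le : C.R ≤ Subgroup.centralizer (C.V : Set G) := Subgroup.map_subtype_le _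

theorem mem_R {a : ↥(Subgroup.centralizer (C.V : Set G))} : (a : G) ∈ C.R ↔ C.alpha a = 1 :=
  ⟨fun ⟨b, hb, e⟩ => by rw [← Subtype.ext (a1 := b) (a2 := a) e]; exact hb, fun h => ⟨a, h, rfl⟩⟩

theorem mem_R_iff {a : ↥(Subgroup.centralizer (C.V : Set G))} : (a : G) ∈ C.R ↔ permB m.hk (C.toStab a) = 1 := by
  rw [C.mem_R, Subtype.ext_iff]; rfl

theorem A_le_R : C.A ≤ C.R := fun a ha =>
  (C.mem_R_iff (a := ⟨a, ha.2⟩)).2 (by rw [C.toStab_eq_one.2 ha.1, map_one])

theorem card_R : Nat.card C.R = 2 ^ 15 := by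
  rw [R, Subgroup.card_map_of_injective (Subgroup.subtype_injective _),
    Leech.card_eq_ker_mul_map C.toStab C.alpha.ker]
  have h1 : C.alpha.ker.map C.toStab = (permB m.hk).ker := by
    ext b
    constructor
    · rintro ⟨a, ha, rfl⟩
      exact congrArg Subtype.val ha
    · intro hb
      obtain ⟨a, rfl⟩ := C.toStab_surj b
      exact ⟨a, Subtype.ext hb, rfl⟩
  have h2 : Nat.card ↥(C.alpha.ker ⊓ C.toStab.ker) = Nat.card C.A := by
    rw [← Subgroup.card_map_of_injective (K := C.alpha.ker ⊓ C.toStab.ker) (Subgroup.subtype_injective _)]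
    congr 2
    ext a
    constructor
    · rintro ⟨b, ⟨-, hb⟩, rfl⟩
      exact ⟨C.toStab_eq_one.1 hb, b.2⟩
    · intro ha
      refine ⟨⟨a, ha.2⟩, ⟨?_, C.toStab_eq_one.2 ha.1⟩, rfl⟩
      exact (C.mem_R (a := ⟨a, ha.2⟩)).1 (C.A_le_R ha)
  rw [h1, (six_blocks m.hk).2, h2, C.card_A]
  norm_num

/-- Members of the kernel act as tabled maps. -/
theorem exists_word {a : ↥(Subgroup.centralizer (C.V : Set G))} (ha : (a : G) ∈ C.R) :
    ∃ w ∈ (dat m.k).kerW, (C.toStab a : SUV) = ev (kgen m.k) w := by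
  haveI : Fus.LargeFischerBlocks.IsClass m.k := ⟨m.hk⟩
  have h := C.mem_R_iff.1 ha
  obtain ⟨w, hw, e⟩ := Fus.LargeFischerBlocks.fixer_mem (C.toStab a) fun i => Fin.ext (by
    show Fus.LargeFischerBlocks.blk m.k ((C.toStab a : SUV) • Fus.LargeFischerBlocks.pick m.k i) = i.1
    have := permB_val m.hk (C.toStab a) i
    rw [h, Equiv.Perm.one_apply] at this
    exact this.symm)
  exact ⟨w, hw, e.symm⟩

/-- Commutators with the part in `Q` fall into the group of order eight. -/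
theorem comm_A {r x : G} (hr : r ∈ C.R) (hx : x ∈ C.A) : r * x * r⁻¹ * x⁻¹ ∈ C.V := by
  obtain ⟨a, -, rfl⟩ := id hr
  obtain ⟨w, hw, hwa⟩ := C.exists_word (a := a) hr
  obtain ⟨q, rfl⟩ := mem_QG.1 hx.1
  let ac : Subgroup.centralizer ({z} : Set G) := ⟨a.1, C.cV_le a.2⟩
  refine ⟨qconj ac q * q⁻¹, rfl, ?_⟩
  rw [m.rep_mul, ← m.act_rep, m.rep_inv, C.toStab_act, hwa]
  exact shift_line m.hk hw (C.perp_of_A hx)

/-- The second part. -/
theorem exists_split {r : G} (hr : r ∈ C.R) :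
    ∃ x ∈ C.A, ∃ e ∈ PG Q C.g ⊓ Subgroup.centralizer (C.V : Set G), r = x * e := by
  obtain ⟨a, -, rfl⟩ := id hr
  obtain ⟨w, hw, hwa⟩ := C.exists_word (a := a) hr
  obtain ⟨e, heE, hlin⟩ := C.lift_ker hw
  set ec : Subgroup.centralizer ({z} : Set G) := (e : Subgroup.centralizer ({z} : Set G)) with hec
  have heP : (ec : G) ∈ PG Q C.g := mem_Es.1 heE
  have hes : (ec : G) * gv C.s = gv C.s * ec := C.ext'.central _ heP
  have het : (ec : G) * gv C.t = gv C.t * ec := by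
    refine (C.ext'.conj_cases C.t_mem_PG heP).resolve_right fun ⟨_, h⟩ => ?_
    have h1 : m.act ec (m.rep C.t) = m.rep (C.t * C.s) := by
      rw [m.act_rep]; exact congrArg m.rep (Subtype.ext (Subtype.ext h))
    rw [m.lin_act e, hlin, ← hwa, m.rep_mul, C.rep_t, smul_scalar, (mem_stab.1 (C.toStab a).2).2,
      C.rep_s, left_eq_add] at h1
    exact rep2_ne h1
  have hecV : (ec : G) ∈ Subgroup.centralizer (C.V : Set G) :=
    C.mem_cV.2 ⟨Subgroup.mem_centralizer_singleton_iff.1 ec.2, hes, het⟩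
  let e' : ↥(Subgroup.centralizer (C.V : Set G)) := ⟨(ec : G), hecV⟩
  have hst : C.toStab (a * e'⁻¹) = 1 := by
    rw [map_mul, map_inv, mul_inv_eq_one]
    exact Subtype.ext (hwa.trans hlin.symm)
  refine ⟨(a : G) * (ec : G)⁻¹, ⟨C.toStab_eq_one.1 hst, (a * e'⁻¹).2⟩, ec, ⟨heP, hecV⟩, ?_⟩
  show (a : G) = _
  group

/-- What commutes with the whole kernel lies in the group of order eight. -/
theorem mem_V_of_central {c : G} (hc : c ∈ C.R) (h : ∀ r ∈ C.R, c * r = r * c) : c ∈ C.V := by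
  obtain ⟨a, -, rfl⟩ := id hc
  obtain ⟨w, hw, hwa⟩ := C.exists_word (a := a) hc
  let ac : Subgroup.centralizer ({z} : Set G) := ⟨a.1, C.cV_le a.2⟩
  have hfix : ∀ v, Perp m.k v → ev (kgen m.k) w • v = v := fun v hv => by
    obtain ⟨q, rfl, hq⟩ := C.exists_A hv
    rw [← hwa, ← C.toStab_act]
    exact act_fix (h _ (C.A_le_R hq))
  have hQ : ac ∈ Q := (m.act_ker ac).1 fun v => by rw [C.toStab_act, hwa]; exact fix_faith m.hk hw hfix v
  have hherm : ∀ u, Perp m.k u → hermForm 6 K4 2 (m.rep ⟨ac, hQ⟩) u + hermForm 6 K4 2 (m.rep ⟨ac, hQ⟩) u ^ 2 = 0 := by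
    intro u hu
    obtain ⟨q, rfl, hq⟩ := C.exists_A hu
    exact (comm_iff (m := m)).1 (h _ (C.A_le_R hq))
  have hzero : ∀ u, Perp m.k u → hermForm 6 K4 2 (m.rep ⟨ac, hQ⟩) u = 0 := fun u hu => by
    have h1 := hherm u hu
    have h2 := hherm (ω • u) (by
      rw [Perp, herm_smul, show hermForm 6 K4 2 u (rep m.k 2) = 0 from hu, mul_zero])
    rw [herm_smul_two, one_add_omega.2.2.2.1] at h2
    exact trace_zero_two _ h1 h2
  exact ⟨⟨ac, hQ⟩, rfl, perp_rad m.hk hzero⟩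

end Cfg

end Cfsg.Agent.Spor.LargeFischer
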