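import Cfsg.Agent.Lib.Spor.LargeFischer.EightNorm
import Cfsg.Agent.Lib.Grp.Frattini
import Cfsg.Agent.S4231

/-!
The normaliser of the group of order eight: a special group of order `2¹⁵` by `L₃(2) × A₆`.
-/

set_option autoImplicit false
set_option maxRecDepth 100000
set_option linter.style.haveILetI false
set_option linter.unusedSectionVars false

open Cfsg Cfsg.Agent.Classical Cfsg.Agent.Spor.Cos Matrix
open Cfsg.Agent.Spor.USixTwo (K4 vecOf)
open Cfsg.Agent.Fus.LargeFischerScalar (ω k4_facts k4_cases)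
open scoped commutatorElement

namespace Cfsg.Agent.Spor.LargeFischer

theorem zmod2_zero : ∀ a : ZMod 2, a ≠ 1 → a = 0 := by decide

theorem swap_det : (!![0, 0, 1; 0, 1, 0; 1, 0, 0] : Matrix (Fin 3) (Fin 3) (ZMod 2)).det = 1 := by decide +kernel

theorem card_A6 : Nat.card (alternatingGroup (Fin 6)) = 360 := by
  have := two_mul_nat_card_alternatingGroup (α := Fin 6)
  rw [Nat.card_perm, Nat.card_fin, show Nat.factorial 6 = 2 * 360 from rfl] at this
  omega

theorem A6_no_two {K : Subgroup (alternatingGroup (Fin 6))} (hn : K.Normal) (hp : IsPGroup 2 K) : K = ⊥ := by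
  haveI : IsSimpleGroup (alternatingGroup (Fin 6)) := alternatingGroup.isSimpleGroup (by simp)
  refine (IsSimpleGroup.eq_bot_or_eq_top_of_normal _ hn).resolve_right fun h => ?_
  rw [h] at hp
  haveI : Fact (Nat.Prime 2) := ⟨Nat.prime_two⟩
  obtain ⟨j, hj⟩ := IsPGroup.iff_card.1 hp
  rw [Subgroup.card_top, card_A6] at hj
  exact absurd (Nat.prime_three.dvd_of_dvd_pow (hj ▸ ⟨120, rfl⟩ : 3 ∣ 2 ^ j)) (by norm_num)

/-- The special linear group has no normal 2-subgroup. -/
theorem SL_no_two {K : Subgroup (Matrix.SpecialLinearGroup (Fin 3) (ZMod 2))} (hn : K.Normal) (hp : IsPGroup 2 K) :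
    K = ⊥ := by
  classical
  haveI : Fact (Nat.Prime 2) := ⟨Nat.prime_two⟩
  letI : MulAction K (Fin 3 → ZMod 2) :=
    { smul := fun a v => (a.1 : Matrix (Fin 3) (Fin 3) (ZMod 2)) *ᵥ v
      one_smul := fun v => Matrix.one_mulVec v
      mul_smul := fun a b v => by
        show ((a * b).1 : Matrix (Fin 3) (Fin 3) (ZMod 2)) *ᵥ v = _ *ᵥ (_ *ᵥ v)
        rw [Subgroup.coe_mul, Matrix.SpecialLinearGroup.coe_mul, ← Matrix.mulVec_mulVec] }
  obtain ⟨v, hv, hv0⟩ := hp.exists_fixed_point_of_prime_dvd_card_of_fixed_point (Fin 3 → ZMod 2)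
    (by rw [Nat.card_fun, Nat.card_zmod, Nat.card_fin]; norm_num)
    (a := 0) fun a => Matrix.mulVec_zero _
  let F : Submodule (ZMod 2) (Fin 3 → ZMod 2) :=
    { carrier := {u | ∀ a ∈ K, (a : Matrix (Fin 3) (Fin 3) (ZMod 2)) *ᵥ u = u}
      zero_mem' := fun a _ => Matrix.mulVec_zero _
      add_mem' := fun {u w} hu hw a ha => by rw [Matrix.mulVec_add, hu a ha, hw a ha]
      smul_mem' := fun c u hu a ha => by rw [Matrix.mulVec_smul, hu a ha] }
  have hvF : v ∈ F := fun a ha => hv ⟨a, ha⟩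
  have hinv : ∀ T : Matrix.SpecialLinearGroup (Fin 3) (ZMod 2), ∀ u ∈ F,
      (T : Matrix (Fin 3) (Fin 3) (ZMod 2)) *ᵥ u ∈ F := fun T u hu a ha => by
    have h1 := hu _ (hn.conj_mem a ha T⁻¹)
    rw [inv_inv, Matrix.SpecialLinearGroup.coe_mul, Matrix.SpecialLinearGroup.coe_mul] at h1
    have h2 := congrArg ((T : Matrix (Fin 3) (Fin 3) (ZMod 2)) *ᵥ ·) h1
    simp only [Matrix.mulVec_mulVec, ← Matrix.mul_assoc] at h2
    rw [← Matrix.SpecialLinearGroup.coe_mul T T⁻¹, mul_inv_cancel, Matrix.SpecialLinearGroup.coe_one,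
      Matrix.one_mul] at h2
    rw [Matrix.mulVec_mulVec]
    exact h2
  obtain ⟨j, hj⟩ : ∃ j, v j = 1 := by
    by_contra hcon
    push Not at hcon
    exact hv0 (funext fun i => (zmod2_zero _ (hcon i)).symm)
  have hoff : ∀ i, i ≠ j → Pi.single i (1 : ZMod 2) ∈ F := fun i hij => by
    have := hinv (Matrix.SpecialLinearGroup.transvection hij 1) v hvF
    rw [Matrix.SpecialLinearGroup.transvection_coe, Matrix.add_mulVec, Matrix.one_mulVec, Matrix.single_mulVec_eq,
      hj, one_mul] at this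
    have h1 := F.sub_mem this hvF
    rw [add_sub_cancel_left] at h1
    simpa [Pi.single_apply, ← Pi.single_smul] using h1
  have hall : ∀ i, Pi.single i (1 : ZMod 2) ∈ F := fun i => by
    rcases eq_or_ne i j with rfl | h
    swap
    · exact hoff i h
    have hsum : v - ∑ k ∈ Finset.univ.erase i, v k • Pi.single k (1 : ZMod 2) = Pi.single i 1 := by
      funext a
      rcases eq_or_ne a i with rfl | ha
      · simp [Finset.sum_apply, Pi.single_apply, hj]
      · simp [Finset.sum_apply, Pi.single_apply, ha]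
    rw [← hsum]
    exact F.sub_mem hvF (F.sum_mem fun k hk => F.smul_mem _ (hoff k (Finset.ne_of_mem_erase hk)))
  refine (Subgroup.eq_bot_iff_forall _).2 fun a ha => Subtype.ext (Matrix.ext_of_mulVec_single fun i => ?_)
  rw [Matrix.SpecialLinearGroup.coe_one, Matrix.one_mulVec]
  exact hall i a ha

variable {G : Type*} [Group G] [Finite G] {z : G} {Q : Subgroup (Subgroup.centralizer ({z} : Set G))}
  [hQn : Q.Normal] {m : Model z Q}

namespace Cfg

variable (C : Cfg m)

theorem cV_conj {n : G} (hn : n ∈ C.N) {c : G} (hc : c ∈ Subgroup.centralizer (C.V : Set G)) :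
    n * c * n⁻¹ ∈ Subgroup.centralizer (C.V : Set G) := by
  refine Subgroup.mem_centralizer_iff.2 fun x hx => ?_
  have h1 : n⁻¹ * x * n⁻¹⁻¹ ∈ C.V := C.conj_mem (inv_mem hn) hx
  have h2 := Subgroup.mem_centralizer_iff.1 hc _ h1
  rw [inv_inv] at h2
  calc x * (n * c * n⁻¹) = n * (n⁻¹ * x * n * c) * n⁻¹ := by group
    _ = n * (c * (n⁻¹ * x * n)) * n⁻¹ := by rw [h2]
    _ = _ := by group

theorem cV_le_N : Subgroup.centralizer (C.V : Set G) ≤ C.N := fun c hc => by
  have h : ∀ x ∈ C.V, c * x * c⁻¹ ∈ C.V := fun x hx => by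
    rw [← Subgroup.mem_centralizer_iff.1 hc x hx, mul_inv_cancel_right]; exact hx
  exact C.mem_N (h _ C.z_mem_V) (h _ C.s_mem_V) (h _ C.t_mem_V)

/-- Conjugation on the centraliser. -/
noncomputable def cAut : C.N →* MulAut ↥(Subgroup.centralizer (C.V : Set G)) where
  toFun n :=
    { toFun := fun c => ⟨(n : G) * c * (n : G)⁻¹, C.cV_conj n.2 c.2⟩
      invFun := fun c => ⟨(n : G)⁻¹ * c * (n : G), by simpa using C.cV_conj (inv_mem n.2) c.2⟩
      left_inv := fun c => Subtype.ext (by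
        show (n : G)⁻¹ * ((n : G) * c * (n : G)⁻¹) * n = c
        group)
      right_inv := fun c => Subtype.ext (by
        show (n : G) * ((n : G)⁻¹ * c * n) * (n : G)⁻¹ = c
        group)
      map_mul' := fun c d => Subtype.ext (by
        show (n : G) * (c * d) * (n : G)⁻¹ = (n * c * (n : G)⁻¹) * (n * d * (n : G)⁻¹)
        group) }
  map_one' := MulEquiv.ext fun c => Subtype.ext (by
    show ((1 : C.N) : G) * c * ((1 : C.N) : G)⁻¹ = c
    simp)
  map_mul' n p := MulEquiv.ext fun c => Subtype.ext (by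
    show ((n * p : C.N) : G) * c * ((n * p : C.N) : G)⁻¹ = (n : G) * ((p : G) * c * (p : G)⁻¹) * (n : G)⁻¹
    rw [Subgroup.coe_mul]; group)

theorem alpha_cAut_ker (n : C.N) : C.alpha.ker ≤ (C.alpha.comp (C.cAut n).toMonoidHom).ker := by
  haveI : Fact (Nat.Prime 2) := ⟨Nat.prime_two⟩
  set K := C.alpha.ker.map (C.cAut n).toMonoidHom with hK
  have hn : K.Normal := Subgroup.Normal.map inferInstance _ (C.cAut n).surjective
  have hp : IsPGroup 2 K := by
    refine IsPGroup.map (IsPGroup.of_card (n := 15) ?_) _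
    rw [← C.card_R, R, Subgroup.card_map_of_injective (Subgroup.subtype_injective _)]
  have h := A6_no_two (Subgroup.Normal.map hn _ C.alpha_surj) (hp.map C.alpha)
  intro c hc
  exact (Subgroup.eq_bot_iff_forall _).1 h _ ⟨_, ⟨c, hc, rfl⟩, rfl⟩

theorem R_conj {n r : G} (hn : n ∈ C.N) (hr : r ∈ C.R) : n * r * n⁻¹ ∈ C.R := by
  obtain ⟨c, hc, rfl⟩ := id hr
  exact (C.mem_R (a := C.cAut ⟨n, hn⟩ c)).2 (C.alpha_cAut_ker ⟨n, hn⟩ hc)

/-- The induced endomorphism of the alternating group. -/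
noncomputable def endo (n : C.N) : alternatingGroup (Fin 6) →* alternatingGroup (Fin 6) :=
  C.alpha.liftOfSurjective C.alpha_surj ⟨C.alpha.comp (C.cAut n).toMonoidHom, C.alpha_cAut_ker n⟩

theorem endo_alpha (n : C.N) (c : ↥(Subgroup.centralizer (C.V : Set G))) :
    C.endo n (C.alpha c) = C.alpha (C.cAut n c) :=
  by unfold endo; exact MonoidHom.liftOfRightInverse_comp_apply _ _ _ _ c

theorem endo_mul (n p : C.N) (a : alternatingGroup (Fin 6)) : C.endo (n * p) a = C.endo n (C.endo p a) := by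
  obtain ⟨c, rfl⟩ := C.alpha_surj a
  rw [C.endo_alpha, C.endo_alpha, C.endo_alpha, map_mul]; rfl

theorem endo_one (a : alternatingGroup (Fin 6)) : C.endo 1 a = a := by
  obtain ⟨c, rfl⟩ := C.alpha_surj a
  rw [C.endo_alpha, map_one]; rfl

/-- The induced automorphism. -/
noncomputable def psi : C.N →* MulAut (alternatingGroup (Fin 6)) where
  toFun n :=
    { toFun := C.endo n
      invFun := C.endo n⁻¹
      left_inv := fun a => by rw [← C.endo_mul, inv_mul_cancel, C.endo_one]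
      right_inv := fun a => by rw [← C.endo_mul, mul_inv_cancel, C.endo_one]
      map_mul' := map_mul _ }
  map_one' := MulEquiv.ext fun a => C.endo_one a
  map_mul' n p := MulEquiv.ext fun a => C.endo_mul n p a

theorem psi_cV (c : ↥(Subgroup.centralizer (C.V : Set G))) :
    C.psi ⟨c.1, C.cV_le_N c.2⟩ = MulAut.conj (C.alpha c) := by
  refine MulEquiv.ext fun a => ?_
  obtain ⟨d, rfl⟩ := C.alpha_surj a
  show C.endo _ _ = _
  rw [C.endo_alpha, MulAut.conj_apply, ← map_inv, ← map_mul, ← map_mul]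
  rfl

theorem conj_inj : Function.Injective (MulAut.conj : alternatingGroup (Fin 6) →* MulAut (alternatingGroup (Fin 6))) := by
  intro a b h
  have hmem : b⁻¹ * a ∈ Subgroup.center (alternatingGroup (Fin 6)) := Subgroup.mem_center_iff.2 fun x => by
    have e := DFunLike.congr_fun h x
    simp only [MulAut.conj_apply] at e
    calc x * (b⁻¹ * a) = b⁻¹ * (b * x * b⁻¹) * a := by group
      _ = b⁻¹ * (a * x * a⁻¹) * a := by rw [e]
      _ = _ := by group
  rw [alternatingGroup.center_eq_bot (by simp), Subgroup.mem_bot, inv_mul_eq_one] at hmem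
  exact hmem.symm

theorem psi_inner (n : C.N) : C.psi n ∈ (MulAut.conj : alternatingGroup (Fin 6) →* _).range := by
  set I := (MulAut.conj : alternatingGroup (Fin 6) →* MulAut (alternatingGroup (Fin 6))).range with hI
  haveI hIn : I.Normal := ⟨by
    rintro _ ⟨a, rfl⟩ θ
    exact ⟨θ a, MulEquiv.ext fun x => by simp [MulAut.conj_apply]⟩⟩
  have hcard : Nat.card (MulAut (alternatingGroup (Fin 6)) ⧸ I) ∣ 4 := by
    refine Nat.dvd_of_mul_dvd_mul_left (k := 360) (by norm_num) ?_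
    have h1 := I.card_mul_index
    rw [hI, ← Nat.card_congr (MonoidHom.ofInjective conj_inj).toEquiv, card_A6] at h1
    rw [show Nat.card (MulAut (alternatingGroup (Fin 6)) ⧸ I) = I.index from rfl, hI, h1]
    exact S4231.card_aut_six
  have hcomm : ∀ a b : MulAut (alternatingGroup (Fin 6)) ⧸ I, a * b = b * a := by
    haveI : Fact (Nat.Prime 2) := ⟨Nat.prime_two⟩
    obtain ⟨j, hj, e⟩ := (Nat.dvd_prime_pow Nat.prime_two).1 (show _ ∣ 2 ^ 2 from hcard)
    intro a b
    rcases Nat.lt_or_ge j 2 with h | h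
    · haveI : IsCyclic (MulAut (alternatingGroup (Fin 6)) ⧸ I) := by
        interval_cases j
        · haveI := (Nat.card_eq_one_iff_unique.1 (by rw [e, pow_zero])).1
          exact isCyclic_of_subsingleton
        · exact isCyclic_of_prime_card (p := 2) (by rw [e, pow_one])
      letI := IsCyclic.commGroup (α := MulAut (alternatingGroup (Fin 6)) ⧸ I)
      exact mul_comm a b
    · obtain rfl : j = 2 := le_antisymm hj h
      exact IsPGroup.commutative_of_card_eq_prime_sq (p := 2) e a b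
  let f := (QuotientGroup.mk' I).comp C.psi
  have hker : C.rho.ker ≤ f.ker := fun p hp => by
    have hc := C.rho_eq_one.1 hp
    show QuotientGroup.mk' I (C.psi p) = 1
    rw [show p = (⟨(⟨p.1, hc⟩ : ↥(Subgroup.centralizer (C.V : Set G))).1, C.cV_le_N hc⟩ : C.N) from Subtype.ext rfl,
      C.psi_cV]
    exact (QuotientGroup.eq_one_iff _).2 ⟨_, rfl⟩
  let g := C.rho.liftOfSurjective C.rho_surj ⟨f, hker⟩
  have hg : g.comp C.rho = f := MonoidHom.liftOfRightInverse_comp _ _ _ _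
  have htriv : g = 1 := by
    have hle : commutator (Matrix.SpecialLinearGroup (Fin 3) (ZMod 2)) ≤ g.ker :=
      Subgroup.commutator_le.2 fun a _ b _ => by
        rw [MonoidHom.mem_ker, map_commutatorElement, commutatorElement_eq_one_iff_mul_comm]
        exact hcomm _ _
    rw [SL_commutator_eq_top_of_three_le (by simp)] at hle
    exact MonoidHom.ext fun a => hle (Subgroup.mem_top a)
  have : f n = 1 := by rw [← hg, htriv]; rfl
  exact (QuotientGroup.eq_one_iff _).1 this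

/-- The second projection. -/
noncomputable def beta : C.N →* alternatingGroup (Fin 6) :=
  (MonoidHom.ofInjective conj_inj).symm.toMonoidHom.comp (C.psi.codRestrict _ C.psi_inner)

theorem beta_cV (c : ↥(Subgroup.centralizer (C.V : Set G))) : C.beta ⟨c.1, C.cV_le_N c.2⟩ = C.alpha c := by
  refine (MonoidHom.ofInjective conj_inj).injective ?_
  show (MonoidHom.ofInjective conj_inj) ((MonoidHom.ofInjective conj_inj).symm _) = _
  rw [MulEquiv.apply_symm_apply]
  exact Subtype.ext (C.psi_cV c)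

/-- Both projections. -/
noncomputable def both : C.N →* Matrix.SpecialLinearGroup (Fin 3) (ZMod 2) × alternatingGroup (Fin 6) :=
  C.rho.prod C.beta

theorem both_surj : Function.Surjective C.both := by
  rintro ⟨a, b⟩
  obtain ⟨n, rfl⟩ := C.rho_surj a
  obtain ⟨c, hc⟩ := C.alpha_surj ((C.beta n)⁻¹ * b)
  refine ⟨n * ⟨c.1, C.cV_le_N c.2⟩, Prod.ext ?_ ?_⟩
  · show C.rho (n * _) = _
    rw [map_mul, (C.rho_eq_one (n := ⟨c.1, C.cV_le_N c.2⟩)).2 c.2, mul_one]
  · show C.beta (n * _) = _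
    rw [map_mul, C.beta_cV, hc, mul_inv_cancel_left]

theorem both_ker : C.both.ker = C.R.subgroupOf C.N := by
  ext n
  rw [Subgroup.mem_subgroupOf, MonoidHom.mem_ker]
  constructor
  · intro h
    have hc := C.rho_eq_one.1 (congrArg Prod.fst h)
    refine (C.mem_R (a := ⟨n.1, hc⟩)).2 ?_
    rw [← C.beta_cV]
    exact congrArg Prod.snd h
  · intro h
    have hc := C.R_le h
    refine Prod.ext (C.rho_eq_one.2 hc) ?_
    show C.beta n = 1
    have := C.beta_cV ⟨n.1, hc⟩
    rw [(C.mem_R (a := ⟨n.1, hc⟩)).1 h] at this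
    exact this

theorem core_eq : C.R = (Cfsg.pCore 2 ↥C.N).map C.N.subtype := by
  haveI : Fact (Nat.Prime 2) := ⟨Nat.prime_two⟩
  have hle : C.R ≤ C.N := C.R_le.trans C.cV_le_N
  apply le_antisymm
  · have hn : (C.R.subgroupOf C.N).Normal := C.both_ker ▸ inferInstance
    have hp : IsPGroup 2 (C.R.subgroupOf C.N) :=
      (IsPGroup.of_card (n := 15) C.card_R).of_equiv (Subgroup.subgroupOfEquivOfLe hle).symm
    intro r hr
    exact ⟨⟨r, hle hr⟩, Transfer.le_pCore hn hp hr, rfl⟩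
  · rintro _ ⟨n, hn, rfl⟩
    have hP := Transfer.pCore_normal' 2 ↥C.N
    have hPp := Transfer.pCore_isPGroup 2 ↥C.N
    have h := A6_no_two (Subgroup.Normal.map hP _ fun b => by
      obtain ⟨c, hc⟩ := C.both_surj (1, b)
      exact ⟨c, congrArg Prod.snd hc⟩) (hPp.map C.beta)
    have h1 := SL_no_two (Subgroup.Normal.map hP _ C.rho_surj) (hPp.map C.rho)
    have hk : n ∈ C.both.ker := Prod.ext ((Subgroup.eq_bot_iff_forall _).1 h1 _ ⟨n, hn, rfl⟩)
      ((Subgroup.eq_bot_iff_forall _).1 h _ ⟨n, hn, rfl⟩)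
    rw [C.both_ker] at hk
    exact hk

theorem V_le_A : C.V ≤ C.A := fun _ hx => ⟨C.V_le_QG hx, C.V_le_cV hx⟩

theorem fix_V {a x : G} (ha : a ∈ C.R) (hx : x ∈ C.V) : a * x = x * a :=
  (Subgroup.mem_centralizer_iff.1 (C.R_le ha) x hx).symm

theorem exists_swap : ∃ n ∈ C.N, n * z * n⁻¹ = gv C.s := by
  obtain ⟨n, hn⟩ := C.rho_surj ⟨!![0, 1, 0; 1, 0, 0; 0, 0, 1], by decide +kernel⟩
  refine ⟨n.1, n.2, ?_⟩
  have hM : C.Mx n = !![0, 1, 0; 1, 0, 0; 0, 0, 1] := congrArg Subtype.val hn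
  have h := C.co_L n (Pi.single 0 1)
  rw [C.co_single.1, ← C.Mx_apply, hM] at h
  refine h.symm.trans (Eq.trans (congrArg C.co ?_) C.co_single.2.1)
  funext i; fin_cases i <;> simp

/-- All commutators are in the group of order eight. -/
theorem comm_R {a b : G} (ha : a ∈ C.R) (hb : b ∈ C.R) : a * b * a⁻¹ * b⁻¹ ∈ C.V := by
  obtain ⟨n, hn, hnz⟩ := C.exists_swap
  obtain ⟨x, hx, e, ⟨he, heV⟩, rfl⟩ := C.exists_split hb
  obtain ⟨q, hq, hqe⟩ := he
  have hq' : n⁻¹ * e * n ∈ QG Q := by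
    rw [← hqe]
    exact m.ext.conj_congr (a := C.g) (c := n) (by rw [hnz, C.hs]) hq
  have heA : n⁻¹ * e * n ∈ C.A := ⟨hq', by simpa using C.cV_conj (inv_mem hn) heV⟩
  have ha' : n⁻¹ * a * n ∈ C.R := by simpa using C.R_conj (inv_mem hn) ha
  have h2 : a * e * a⁻¹ * e⁻¹ ∈ C.V := by
    have := C.conj_mem hn (C.comm_A ha' heA)
    rw [show n * (n⁻¹ * a * n * (n⁻¹ * e * n) * (n⁻¹ * a * n)⁻¹ * (n⁻¹ * e * n)⁻¹) * n⁻¹ =
      a * e * a⁻¹ * e⁻¹ by group] at this
    exact this
  have h3 : x * (a * e * a⁻¹ * e⁻¹) * x⁻¹ = a * e * a⁻¹ * e⁻¹ :=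
    mul_inv_eq_iff_eq_mul.2 (C.fix_V (C.A_le_R hx) h2)
  rw [show a * (x * e) * a⁻¹ * (x * e)⁻¹ = (a * x * a⁻¹ * x⁻¹) * (x * (a * e * a⁻¹ * e⁻¹) * x⁻¹) by group, h3]
  exact mul_mem (C.comm_A ha hx) h2

theorem sq_R {a : G} (ha : a ∈ C.R) : a * a ∈ C.V := by
  obtain ⟨x, hx, e, ⟨he, heV⟩, rfl⟩ := C.exists_split ha
  have hx2 : x * x ∈ C.V := by
    rcases m.ext.sq x hx.1 with h | h <;> rw [h]
    exacts [one_mem _, C.z_mem_V]
  have he2 : e * e ∈ C.V := by
    rcases C.ext'.sq e he with h | h <;> rw [h]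
    exacts [one_mem _, C.s_mem_V]
  have heR : e ∈ C.R := by
    rw [show e = x⁻¹ * (x * e) by group]
    exact mul_mem (inv_mem (C.A_le_R hx)) ha
  have hc := C.comm_R heR (C.A_le_R hx)
  rw [show x * e * (x * e) = x * (e * x * e⁻¹ * x⁻¹) * x⁻¹ * ((x * x) * (e * e)) by group]
  refine mul_mem ?_ (mul_mem hx2 he2)
  rw [mul_inv_eq_iff_eq_mul.2 (C.fix_V (C.A_le_R hx) hc)]
  exact hc

theorem z_comm : ∃ a ∈ C.A, ∃ b ∈ C.A, a * b * a⁻¹ * b⁻¹ = z := by
  by_contra hcon
  push Not at hcon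
  have hcomm : ∀ a ∈ C.A, ∀ b ∈ C.A, a * b = b * a := fun a ha b hb => by
    rcases m.ext.comm a ha.1 b hb.1 with e | e
    · exact commutatorElement_eq_one_iff_mul_comm.1 e
    · exact absurd e (hcon a ha b hb)
  have hle : C.A ≤ C.V := fun x hx => by
    obtain ⟨q, rfl⟩ := mem_QG.1 hx.1
    refine ⟨q, rfl, perp_rad m.hk fun u hu => ?_⟩
    have key : ∀ u, Perp m.k u → hermForm 6 K4 2 (m.rep q) u + hermForm 6 K4 2 (m.rep q) u ^ 2 = 0 := fun u hu => by
      obtain ⟨p, rfl, hp⟩ := C.exists_A hu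
      exact (comm_iff (m := m)).1 (hcomm _ hx _ hp)
    have h1 := key u hu
    have h2 := key (ω • u) (by rw [Perp, herm_smul, show hermForm 6 K4 2 u (rep m.k 2) = 0 from hu, mul_zero])
    rw [herm_smul_two, one_add_omega.2.2.2.1] at h2
    exact trace_zero_two _ h1 h2
  have := Subgroup.card_le_of_le hle
  rw [C.card_A, C.card_V] at this
  norm_num at this

theorem center_R : (Subgroup.center ↥C.R).map C.R.subtype = C.V := by
  apply le_antisymm
  · rintro _ ⟨c, hc, rfl⟩
    exact C.mem_V_of_central c.2 fun r hr => (congrArg Subtype.val (Subgroup.mem_center_iff.1 hc ⟨r, hr⟩)).symm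
  · intro x hx
    exact ⟨⟨x, C.A_le_R (C.V_le_A hx)⟩, Subgroup.mem_center_iff.2 fun r => Subtype.ext (C.fix_V r.2 hx), rfl⟩

theorem special_R : Cfsg.IsSpecial 2 ↥C.R := by
  haveI : Fact (Nat.Prime 2) := ⟨Nat.prime_two⟩
  have hp : IsPGroup 2 ↥C.R := IsPGroup.of_card C.card_R
  have hV : ∀ c : ↥C.R, (c : G) ∈ C.V → c ∈ Subgroup.center ↥C.R := fun c hc =>
    Subgroup.mem_center_iff.2 fun r => Subtype.ext (C.fix_V r.2 hc)
  have hcle : commutator ↥C.R ≤ Subgroup.center ↥C.R := Subgroup.commutator_le.2 fun a _ b _ => hV _ (by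
    rw [commutatorElement_def]; exact C.comm_R a.2 b.2)
  have hge : Subgroup.center ↥C.R ≤ commutator ↥C.R := by
    obtain ⟨a, ha, b, hb, hab⟩ := C.z_comm
    let D : Subgroup G := (commutator ↥C.R).map C.R.subtype
    have hD : ∀ n ∈ C.N, ∀ x ∈ D, n * x * n⁻¹ ∈ D := by
      intro n hn x hx
      have hle : D ≤ D.comap (MulAut.conj n).toMonoidHom := by
        rw [Subgroup.map_le_iff_le_comap]
        refine Subgroup.commutator_le.2 fun p _ r _ => ?_
        refine ⟨⁅(⟨n * p * n⁻¹, C.R_conj hn p.2⟩ : C.R), (⟨n * r * n⁻¹, C.R_conj hn r.2⟩ : C.R)⁆,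
          Subgroup.commutator_mem_commutator (Subgroup.mem_top _) (Subgroup.mem_top _), ?_⟩
        simp only [commutatorElement_def, Subgroup.coe_subtype, Subgroup.coe_mul, Subgroup.coe_inv,
          MulEquiv.coe_toMonoidHom, MulAut.conj_apply]
        group
      exact hle hx
    have hz : z ∈ D := ⟨⁅(⟨a, C.A_le_R ha⟩ : C.R), (⟨b, C.A_le_R hb⟩ : C.R)⁆,
      Subgroup.commutator_mem_commutator (Subgroup.mem_top _) (Subgroup.mem_top _), by
        simp only [commutatorElement_def, Subgroup.coe_subtype, Subgroup.coe_mul, Subgroup.coe_inv]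
        exact hab⟩
    obtain ⟨n, hn, hns⟩ := C.exists_swap
    have hs : gv C.s ∈ D := hns ▸ hD n hn z hz
    obtain ⟨p, hp'⟩ := C.rho_surj ⟨!![0, 0, 1; 0, 1, 0; 1, 0, 0], swap_det⟩
    have ht : gv C.t ∈ D := by
      have hM : C.Mx p = !![0, 0, 1; 0, 1, 0; 1, 0, 0] := congrArg Subtype.val hp'
      have : (p : G) * z * (p : G)⁻¹ = gv C.t := by
        have h := C.co_L p (Pi.single 0 1)
        rw [C.co_single.1, ← C.Mx_apply, hM] at h
        refine h.symm.trans (Eq.trans (congrArg C.co ?_) C.co_single.2.2)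
        funext i; fin_cases i <;> simp
      exact this ▸ hD p.1 p.2 z hz
    intro c hc
    have hcV : (c : G) ∈ C.V := C.center_R ▸ ⟨c, hc, rfl⟩
    obtain ⟨d, hd, hdc⟩ := C.V_le hz hs ht hcV
    rwa [← Subtype.ext (a1 := d) (a2 := c) hdc]
  refine ⟨hp, le_antisymm ?_ (hge.trans (Grp.pGroup_commutator_le_frattini hp)), le_antisymm hcle hge⟩
  exact Grp.frattini_le_of_elementary Nat.prime_two hcle fun x => hV _ (by
    rw [pow_two]; exact C.sq_R x.2)

include C in
/-- The whole structure. -/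
theorem eight_local : ∃ V : Subgroup G, Cfsg.IsElementaryAbelian 2 V ∧ Nat.card V = 8 ∧ z ∈ V ∧
    ∃ R : Subgroup G, R = (Cfsg.pCore 2 ↥(Subgroup.normalizer (V : Set G))).map (Subgroup.normalizer (V : Set G)).subtype ∧
      Cfsg.IsSpecial 2 ↥R ∧ Nat.card R = 2 ^ 15 ∧ (Subgroup.center ↥R).map R.subtype = V ∧
      ∃ _ : (R.subgroupOf (Subgroup.normalizer (V : Set G))).Normal,
        Nonempty (↥(Subgroup.normalizer (V : Set G)) ⧸ R.subgroupOf (Subgroup.normalizer (V : Set G)) ≃*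
          Matrix.SpecialLinearGroup (Fin 3) (ZMod 2) × ↥(alternatingGroup (Fin 6))) := by
  have hn : (C.R.subgroupOf C.N).Normal := C.both_ker ▸ inferInstance
  exact ⟨C.V, C.elementary_V, C.card_V, C.z_mem_V, C.R, C.core_eq, C.special_R, C.card_R, C.center_R, hn,
    ⟨(QuotientGroup.quotientMulEquivOfEq C.both_ker.symm).trans
      (QuotientGroup.quotientKerEquivOfSurjective C.both C.both_surj)⟩⟩

end Cfg

end Cfsg.Agent.Spor.LargeFischer
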