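import Cfsg.Agent.Lib.Spor.LargeFischer.EightGroup
import Cfsg.Agent.Lib.Classical.SLGroup

/-!
The normaliser of the group of order eight induces all of the special linear group on it.
-/

set_option autoImplicit false
set_option maxRecDepth 100000
set_option linter.style.haveILetI false
set_option linter.unusedSectionVars false

open Cfsg Cfsg.Agent.Classical Cfsg.Agent.Spor.Cos Matrix
open Cfsg.Agent.Spor.USixTwo (K4 vecOf)
open Cfsg.Agent.Fus.LargeFischerScalar (ω k4_facts k4_cases)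

namespace Cfsg.Agent.Spor.LargeFischer

variable {G : Type*} [Group G] [Finite G] {z : G} {Q : Subgroup (Subgroup.centralizer ({z} : Set G))}
  [hQn : Q.Normal] {m : Model z Q}

/-- Coordinates in a group of order eight. -/
abbrev U3 : Type := Fin 3 → ZMod 2

theorem pow_val_two {a : G} (h : a * a = 1) : ∀ x y : ZMod 2, a ^ (x + y).val = a ^ x.val * a ^ y.val := by
  intro x y
  have h' : ∀ x y : ZMod 2, (x.val + y.val = (x + y).val) ∨ (x.val + y.val = (x + y).val + 2) := by decide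
  rw [← pow_add]
  rcases h' x y with e | e <;> rw [e]
  rw [pow_add, pow_two, h, mul_one]

theorem det_one : ∀ a b : ZMod 2, a * b = 1 → a = 1 := by decide

namespace Cfg

variable (C : Cfg m)

theorem s_sq : gv C.s * gv C.s = 1 := C.sq_V C.s_mem_V
theorem t_sq : gv C.t * gv C.t = 1 := C.sq_V C.t_mem_V

/-- The element with given coordinates. -/
def co (u : U3) : G := z ^ (u 0).val * gv C.s ^ (u 1).val * gv C.t ^ (u 2).val

theorem co_mem (u : U3) : C.co u ∈ C.V :=
  mul_mem (mul_mem (pow_mem C.z_mem_V _) (pow_mem C.s_mem_V _)) (pow_mem C.t_mem_V _)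

theorem co_add (u v : U3) : C.co (u + v) = C.co u * C.co v := by
  have h1 : Commute (gv C.s ^ (u 1).val) (z ^ (v 0).val) := (Commute.pow_pow (C.comm_V C.s_mem_V C.z_mem_V) _ _)
  have h2 : Commute (gv C.t ^ (u 2).val) (z ^ (v 0).val * gv C.s ^ (v 1).val) :=
    (Commute.pow_pow (C.comm_V C.t_mem_V C.z_mem_V) _ _).mul_right
      (Commute.pow_pow (C.comm_V C.t_mem_V C.s_mem_V) _ _)
  simp only [co, Pi.add_apply, pow_val_two m.ext.zz, pow_val_two C.s_sq, pow_val_two C.t_sq]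
  set a := z ^ (u 0).val
  set b := z ^ (v 0).val
  set c := gv C.s ^ (u 1).val
  set d := gv C.s ^ (v 1).val
  set e := gv C.t ^ (u 2).val
  set f := gv C.t ^ (v 2).val
  calc a * b * (c * d) * (e * f) = a * (b * c) * d * e * f := by group
    _ = a * (c * b) * d * e * f := by rw [h1.eq]
    _ = a * c * ((b * d) * e) * f := by group
    _ = a * c * (e * (b * d)) * f := by rw [h2.eq]
    _ = _ := by group

theorem co_zero : C.co 0 = 1 := by simp [co]

theorem co_single : C.co (Pi.single 0 1) = z ∧ C.co (Pi.single 1 1) = gv C.s ∧ C.co (Pi.single 2 1) = gv C.t := by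
  refine ⟨?_, ?_, ?_⟩ <;> simp [co, Pi.single_apply, ZMod.val_one]

theorem co_inj : Function.Injective C.co := by
  have hker : ∀ u, C.co u = 1 → u = 0 := by
    intro u hu
    have hz : gv C.s ^ (u 1).val * gv C.t ^ (u 2).val = z ^ (u 0).val := by
      calc gv C.s ^ (u 1).val * gv C.t ^ (u 2).val = (z ^ (u 0).val)⁻¹ * C.co u := by rw [co]; group
        _ = z ^ (u 0).val := by rw [hu, mul_one, ← inv_pow, inv_eq_of_mul_eq_one_right m.ext.zz]
    have hcases : ∀ a : ZMod 2, a = 0 ∨ a = 1 := by decide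
    have hzc : z ^ (u 0).val = 1 ∨ z ^ (u 0).val = z := by
      rcases hcases (u 0) with e | e <;> rw [e] <;> simp [ZMod.val_one]
    have hrep : ∀ q : Q, gv q = z ^ (u 0).val → m.rep q = 0 := fun q hq => (m.rep_zero q).2 (by
      rcases hzc with e | e <;> [left; right] <;> exact hq.trans e)
    have h12 : u 1 = 0 ∧ u 2 = 0 := by
      rcases hcases (u 1) with e1 | e1 <;> rcases hcases (u 2) with e2 | e2
      · exact ⟨e1, e2⟩
      · exfalso
        rw [e1, e2, ZMod.val_zero, ZMod.val_one, pow_zero, pow_one, one_mul] at hz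
        exact C.rep_t_ne (hrep C.t hz)
      · exfalso
        rw [e1, e2, ZMod.val_zero, ZMod.val_one, pow_zero, pow_one, mul_one] at hz
        exact rep2_ne (by rw [← C.rep_s]; exact hrep C.s hz)
      · exfalso
        rw [e1, e2, ZMod.val_one, pow_one, pow_one] at hz
        have := hrep (C.s * C.t) hz
        rw [m.rep_mul, C.rep_s, C.rep_t] at this
        have e' : (1 + ω) • rep m.k 2 = 0 := by rwa [add_smul, one_smul]
        rw [one_add_omega.1] at e'
        rcases smul_eq_zero.1 e' with e'' | e''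
        exacts [one_add_omega.2.2.1 e'', rep2_ne e'']
    have h0 : u 0 = 0 := by
      rcases hcases (u 0) with e | e
      · exact e
      · rw [h12.1, h12.2, e] at hz
        simp [ZMod.val_one] at hz
        exact absurd hz.symm m.ext.ne
    funext i
    fin_cases i
    exacts [h0, h12.1, h12.2]
  intro u v h
  have hsum : C.co (u + v) = 1 := by rw [C.co_add, h, C.sq_V (C.co_mem v)]
  have := hker _ hsum
  funext i
  have hi : u i + v i = 0 := congrFun this i
  revert hi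
  generalize u i = a
  generalize v i = b
  revert a b; decide

theorem co_surj {x : G} (hx : x ∈ C.V) : ∃ u, C.co u = x := by
  let K : Subgroup G :=
    { carrier := Set.range C.co
      one_mem' := ⟨0, C.co_zero⟩
      mul_mem' := fun ⟨u, hu⟩ ⟨v, hv⟩ => ⟨u + v, by rw [C.co_add, hu, hv]⟩
      inv_mem' := fun {y} ⟨u, hu⟩ => ⟨u, by rw [← hu, inv_eq_of_mul_eq_one_right (C.sq_V (C.co_mem u))]⟩ }
  exact C.V_le (K := K) ⟨_, C.co_single.1⟩ ⟨_, C.co_single.2.1⟩ ⟨_, C.co_single.2.2⟩ hx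

theorem card_V : Nat.card C.V = 8 := by
  rw [← Nat.card_congr (Equiv.ofBijective (fun u : U3 => (⟨C.co u, C.co_mem u⟩ : C.V))
    ⟨fun u v h => C.co_inj (congrArg Subtype.val h), fun ⟨x, hx⟩ => by
      obtain ⟨u, rfl⟩ := C.co_surj hx; exact ⟨u, rfl⟩⟩), Nat.card_fun, Nat.card_zmod, Nat.card_fin]
  norm_num

/-- The normaliser. -/
abbrev N : Subgroup G := Subgroup.normalizer (C.V : Set G)

theorem conj_mem {n : G} (hn : n ∈ C.N) {x : G} (hx : x ∈ C.V) : n * x * n⁻¹ ∈ C.V :=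
  (Subgroup.mem_normalizer_iff.1 hn x).1 hx

/-- The induced map. -/
noncomputable def L (n : C.N) (u : U3) : U3 := (C.co_surj (C.conj_mem n.2 (C.co_mem u))).choose

theorem co_L (n : C.N) (u : U3) : C.co (C.L n u) = (n : G) * C.co u * (n : G)⁻¹ :=
  (C.co_surj (C.conj_mem n.2 (C.co_mem u))).choose_spec

theorem L_add (n : C.N) (u v : U3) : C.L n (u + v) = C.L n u + C.L n v :=
  C.co_inj (by rw [C.co_L, C.co_add, C.co_add, C.co_L, C.co_L]; group)

theorem L_mul (n p : C.N) (u : U3) : C.L (n * p) u = C.L n (C.L p u) :=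
  C.co_inj (by rw [C.co_L, C.co_L, C.co_L, Subgroup.coe_mul]; group)

theorem L_one (u : U3) : C.L 1 u = u := C.co_inj (by rw [C.co_L]; simp)

/-- Its matrix. -/
noncomputable def Mx (n : C.N) : Matrix (Fin 3) (Fin 3) (ZMod 2) :=
  LinearMap.toMatrix' ((AddMonoidHom.mk' (C.L n) (C.L_add n)).toZModLinearMap 2)

theorem Mx_apply (n : C.N) (u : U3) : C.Mx n *ᵥ u = C.L n u := by
  rw [Mx, LinearMap.toMatrix'_mulVec]; rfl

theorem Mx_mul (n p : C.N) : C.Mx (n * p) = C.Mx n * C.Mx p :=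
  Matrix.ext_iff_mulVec.2 fun u => by rw [← Matrix.mulVec_mulVec, C.Mx_apply, C.Mx_apply, C.Mx_apply, C.L_mul]

theorem Mx_one : C.Mx 1 = 1 :=
  Matrix.ext_iff_mulVec.2 fun u => by rw [C.Mx_apply, C.L_one, Matrix.one_mulVec]

theorem Mx_det (n : C.N) : (C.Mx n).det = 1 :=
  det_one _ (C.Mx n⁻¹).det (by rw [← Matrix.det_mul, ← C.Mx_mul, mul_inv_cancel, C.Mx_one, Matrix.det_one])

/-- The representation. -/
noncomputable def rho : C.N →* Matrix.SpecialLinearGroup (Fin 3) (ZMod 2) :=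
  MonoidHom.mk' (fun n => ⟨C.Mx n, C.Mx_det n⟩) fun n p => Subtype.ext (C.Mx_mul n p)

theorem rho_eq_one {n : C.N} : C.rho n = 1 ↔ (n : G) ∈ Subgroup.centralizer (C.V : Set G) := by
  constructor
  · intro h
    refine Subgroup.mem_centralizer_iff.2 fun x hx => ?_
    obtain ⟨u, rfl⟩ := C.co_surj hx
    have e : C.Mx n = 1 := congrArg Subtype.val h
    have h2 := C.Mx_apply n u
    rw [e, Matrix.one_mulVec] at h2
    exact (mul_inv_eq_iff_eq_mul.1 ((C.co_L n u).symm.trans (congrArg C.co h2.symm))).symm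
  · intro h
    refine Subtype.ext (Matrix.ext_iff_mulVec.2 fun u => ?_)
    show C.Mx n *ᵥ u = (1 : Matrix (Fin 3) (Fin 3) (ZMod 2)) *ᵥ u
    rw [C.Mx_apply, Matrix.one_mulVec]
    refine C.co_inj ?_
    rw [C.co_L, ← Subgroup.mem_centralizer_iff.1 h _ (C.co_mem u), mul_inv_cancel_right]

theorem mem_N {n : G} (hz : n * z * n⁻¹ ∈ C.V) (hs : n * gv C.s * n⁻¹ ∈ C.V) (ht : n * gv C.t * n⁻¹ ∈ C.V) :
    n ∈ C.N :=
  mem_normalizer_of_subset (C.V : Set G) fun x hx => C.V_le (K := C.V.comap (MulAut.conj n).toMonoidHom) hz hs ht hx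
where
  mem_normalizer_of_subset (S : Set G) {g : G} (h : ∀ x ∈ S, g * x * g⁻¹ ∈ S) :
      g ∈ Subgroup.normalizer S := by
    have hinj : Function.Injective (fun x => g * x * g⁻¹) := fun a b e => mul_left_cancel (mul_right_cancel e)
    refine Subgroup.mem_set_normalizer_iff.2 fun x => ⟨h x, fun hx => ?_⟩
    have e : (fun x => g * x * g⁻¹) '' S = S :=
      Set.eq_of_subset_of_ncard_le (by rintro _ ⟨y, hy, rfl⟩; exact h y hy)
        (le_of_eq (Set.ncard_image_of_injective S hinj).symm) (Set.toFinite S)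
    rw [← e] at hx
    obtain ⟨y, hy, hxy⟩ := hx
    rwa [← hinj hxy]

/-- The basis vectors. -/
def bas : Fin 3 → G := ![z, gv C.s, gv C.t]

theorem co_bas (i : Fin 3) : C.co (Pi.single i 1) = C.bas i := by
  fin_cases i
  exacts [C.co_single.1, C.co_single.2.1, C.co_single.2.2]

theorem bas_mem (i : Fin 3) : C.bas i ∈ C.V := C.co_bas i ▸ C.co_mem _

/-- An element moving one basis element by another gives a transvection. -/
theorem transv_mem {y : G} {i j : Fin 3} (hij : i ≠ j)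
    (h : ∀ k, y * C.bas k * y⁻¹ = if k = j then C.bas j * C.bas i else C.bas k) :
    Matrix.SpecialLinearGroup.transvection hij (1 : ZMod 2) ∈ C.rho.range := by
  have hmem : ∀ k, y * C.bas k * y⁻¹ ∈ C.V := fun k => by
    rw [h]; split
    exacts [mul_mem (C.bas_mem _) (C.bas_mem _), C.bas_mem _]
  refine ⟨⟨y, C.mem_N (hmem 0) (hmem 1) (hmem 2)⟩, Subtype.ext (Matrix.ext_of_mulVec_single fun k => ?_)⟩
  show C.Mx _ *ᵥ _ = _
  rw [C.Mx_apply, Matrix.SpecialLinearGroup.transvection_coe, Matrix.add_mulVec, Matrix.one_mulVec]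
  refine C.co_inj ?_
  rw [C.co_L, C.co_add, C.co_bas, h]
  by_cases hk : k = j
  · subst hk
    rw [if_pos rfl, Matrix.single_mulVec_eq, Pi.single_eq_same, mul_one, one_smul, C.co_bas]
  · rw [if_neg hk, Matrix.single_mulVec_eq, Pi.single_eq_of_ne (Ne.symm hk), mul_zero, zero_smul, C.co_zero, mul_one]

theorem distinct : z ≠ gv C.s ∧ z ≠ gv C.t ∧ gv C.s ≠ gv C.t ∧ gv C.t ≠ 1 ∧ gv C.s ≠ 1 ∧
    z ≠ gv C.t * gv C.s ∧ gv C.s ≠ gv C.t * z ∧ gv C.t ≠ gv C.s * z ∧ gv C.t ≠ z * gv C.s ∧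
    z ≠ gv C.s * gv C.t ∧ gv C.s ≠ z * gv C.t := by
  obtain ⟨e0, e1, e2⟩ := C.co_single
  have n0 : ∀ (u v : U3) {a b : G}, u ≠ v → C.co u = a → C.co v = b → a ≠ b :=
    fun u v a b h ha hb e => h (C.co_inj (ha.trans (e.trans hb.symm)))
  have p : ∀ (i j : Fin 3) {a b : G}, C.co (Pi.single i 1) = a → C.co (Pi.single j 1) = b →
      C.co (Pi.single i 1 + Pi.single j 1) = a * b := fun i j a b ha hb => by rw [C.co_add, ha, hb]
  exact ⟨n0 _ _ (by decide) e0 e1, n0 _ _ (by decide) e0 e2, n0 _ _ (by decide) e1 e2,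
    n0 _ _ (by decide) e2 C.co_zero, n0 _ _ (by decide) e1 C.co_zero,
    n0 _ _ (by decide) e0 (p 2 1 e2 e1), n0 _ _ (by decide) e1 (p 2 0 e2 e0),
    n0 _ _ (by decide) e2 (p 1 0 e1 e0), n0 _ _ (by decide) e2 (p 0 1 e0 e1),
    n0 _ _ (by decide) e0 (p 1 2 e1 e2), n0 _ _ (by decide) e1 (p 0 2 e0 e2)⟩

theorem exists_move {P : Subgroup G} {c b x : G} (hE : ExtraPair.Ext c P) (hb : b ∈ P) (hx : x ∈ P)
    (h : x ≠ 1 ∧ x ≠ c ∧ x ≠ b ∧ x ≠ b * c) :
    ∃ y ∈ P, y * c * y⁻¹ = c ∧ y * b * y⁻¹ = b ∧ y * x * y⁻¹ = x * c := by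
  by_contra hcon
  push Not at hcon
  rcases hE.centralized_by_hyperplane hb hx fun y hy hyb => by
      by_contra hne
      exact hcon y hy (mul_inv_eq_iff_eq_mul.2 (hE.central y hy)) (mul_inv_eq_iff_eq_mul.2 hyb)
        ((hE.conj_cases hx hy).resolve_left hne).2 with e | e | e | e
  exacts [h.1 e, h.2.1 e, h.2.2.1 e, h.2.2.2 e]

theorem four_transv :
    Matrix.SpecialLinearGroup.transvection (show (0 : Fin 3) ≠ 1 by decide) (1 : ZMod 2) ∈ C.rho.range ∧
    Matrix.SpecialLinearGroup.transvection (show (0 : Fin 3) ≠ 2 by decide) (1 : ZMod 2) ∈ C.rho.range ∧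
    Matrix.SpecialLinearGroup.transvection (show (1 : Fin 3) ≠ 2 by decide) (1 : ZMod 2) ∈ C.rho.range ∧
    Matrix.SpecialLinearGroup.transvection (show (1 : Fin 3) ≠ 0 by decide) (1 : ZMod 2) ∈ C.rho.range := by
  obtain ⟨d1, d2, d3, d4, d5, d6, d7, d8, d9, d10, d11⟩ := C.distinct
  refine ⟨?_, ?_, ?_, ?_⟩
  · obtain ⟨y, -, hc, hb, hx⟩ := exists_move m.ext C.t_mem C.s_mem ⟨d5, d1.symm, d3, d7⟩
    refine C.transv_mem (y := y) _ fun k => ?_
    fin_cases k <;> simp [bas, hc, hb, hx]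
  · obtain ⟨y, -, hc, hb, hx⟩ := exists_move m.ext C.s_mem C.t_mem ⟨d4, d2.symm, d3.symm, d8⟩
    refine C.transv_mem (y := y) _ fun k => ?_
    fin_cases k <;> simp [bas, hc, hb, hx]
  · obtain ⟨y, -, hc, hb, hx⟩ := exists_move C.ext' C.z_mem_PG' C.t_mem_PG ⟨d4, d3.symm, d2.symm, d9⟩
    refine C.transv_mem (y := y) _ fun k => ?_
    fin_cases k <;> simp [bas, hc, hb, hx]
  · obtain ⟨y, -, hc, hb, hx⟩ := exists_move C.ext' C.t_mem_PG C.z_mem_PG' ⟨m.ext.ne, d1, d2, d6⟩
    refine C.transv_mem (y := y) _ fun k => ?_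
    fin_cases k <;> simp [bas, hc, hb, hx]

/-- The matrix of the scalar. -/
def scMat (e : ZMod 2) : Matrix (Fin 3) (Fin 3) (ZMod 2) := !![1, 0, e; 0, 0, 1; 0, 1, 1]

theorem scalar_mem : ∃ e : ZMod 2, ∃ p : C.N, C.Mx p = scMat e := by
  set nc : Subgroup.centralizer ({z} : Set G) := (C.n : Subgroup.centralizer ({z} : Set G)) with hnc
  have hz : (nc : G) * z * (nc : G)⁻¹ = z :=
    mul_inv_eq_iff_eq_mul.2 (Subgroup.mem_centralizer_singleton_iff.1 nc.2)
  have hs : (nc : G) * gv C.s * (nc : G)⁻¹ = gv C.t := rfl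
  have hrep : m.rep (qconj nc C.t) = m.rep (C.s * C.t) := by
    rw [← m.act_rep, C.n_act, m.rep_mul, C.rep_s, C.rep_t, smul_smul, ← one_add_omega.1, add_smul, one_smul]
  obtain ⟨e, ht⟩ : ∃ e : ZMod 2, (nc : G) * gv C.t * (nc : G)⁻¹ = C.co ![e, 1, 1] := by
    have h0 : C.co ![0, 1, 1] = gv C.s * gv C.t := by simp [co, ZMod.val_one]
    have h1 : C.co ![1, 1, 1] = z * (gv C.s * gv C.t) := by simp [co, ZMod.val_one, mul_assoc]
    rcases m.rep_eq hrep with e | e
    · exact ⟨0, by rw [h0]; exact e.symm⟩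
    · refine ⟨1, ?_⟩
      rw [h1]
      have e' : gv C.s * gv C.t = (nc : G) * gv C.t * (nc : G)⁻¹ * z := e
      have hy : (nc : G) * gv C.t * (nc : G)⁻¹ ∈ QG Q := mem_QG.2 ⟨qconj nc C.t, rfl⟩
      calc (nc : G) * gv C.t * (nc : G)⁻¹ = (nc : G) * gv C.t * (nc : G)⁻¹ * z * z := by
            rw [mul_assoc _ z z, m.ext.zz, mul_one]
        _ = z * ((nc : G) * gv C.t * (nc : G)⁻¹ * z) := by rw [← mul_assoc z, ← m.ext.central _ hy]
        _ = _ := by rw [← e']
  refine ⟨e, ⟨(nc : G), C.mem_N (by rw [hz]; exact C.z_mem_V) (by rw [hs]; exact C.t_mem_V)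
    (by rw [ht]; exact C.co_mem _)⟩, Matrix.ext_of_mulVec_single fun k => ?_⟩
  rw [C.Mx_apply, Matrix.mulVec_single_one]
  refine C.co_inj ?_
  rw [C.co_L, C.co_bas]
  fin_cases k
  · show (nc : G) * z * (nc : G)⁻¹ = _
    refine hz.trans (C.co_single.1.symm.trans ?_)
    congr 1; funext i; fin_cases i <;> simp [scMat, Pi.single_apply]
  · show (nc : G) * gv C.s * (nc : G)⁻¹ = _
    rw [hs, ← C.co_single.2.2]
    congr 1; funext i; fin_cases i <;> simp [scMat, Pi.single_apply]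
  · show (nc : G) * gv C.t * (nc : G)⁻¹ = _
    rw [ht]
    congr 1; funext i; fin_cases i <;> simp [scMat]

theorem word_facts (e : ZMod 2) :
    let T := fun (i j : Fin 3) => Matrix.transvection i j (1 : ZMod 2)
    (e = 0 → T 1 2 * scMat e = T 2 1 ∧ scMat e * T 1 0 * scMat e * scMat e = T 2 0) ∧
    (e = 1 → T 1 2 * T 0 1 * scMat e = T 2 1 ∧ scMat e * T 1 2 * T 1 0 * scMat e * scMat e = T 2 0) := by
  revert e; decide +kernel

theorem rho_surj : Function.Surjective C.rho := by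
  obtain ⟨hA, hB, hC, hD⟩ := C.four_transv
  obtain ⟨e, p, hp⟩ := C.scalar_mem
  have hN : C.rho p ∈ C.rho.range := ⟨p, rfl⟩
  have hNv : (C.rho p : Matrix (Fin 3) (Fin 3) (ZMod 2)) = scMat e := hp
  obtain ⟨w0, w1⟩ := word_facts e
  have h21 : Matrix.SpecialLinearGroup.transvection (show (2 : Fin 3) ≠ 1 by decide) (1 : ZMod 2) ∈ C.rho.range := by
    rcases (by decide : ∀ a : ZMod 2, a = 0 ∨ a = 1) e with he | he
    · convert mul_mem hC hN using 1
      refine Subtype.ext ?_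
      simp only [Matrix.SpecialLinearGroup.coe_mul, hNv]
      exact (w0 he).1.symm
    · convert mul_mem (mul_mem hC hA) hN using 1
      refine Subtype.ext ?_
      simp only [Matrix.SpecialLinearGroup.coe_mul, hNv]
      exact (w1 he).1.symm
  have h20 : Matrix.SpecialLinearGroup.transvection (show (2 : Fin 3) ≠ 0 by decide) (1 : ZMod 2) ∈ C.rho.range := by
    rcases (by decide : ∀ a : ZMod 2, a = 0 ∨ a = 1) e with he | he
    · convert mul_mem (mul_mem (mul_mem hN hD) hN) hN using 1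
      refine Subtype.ext ?_
      simp only [Matrix.SpecialLinearGroup.coe_mul, hNv]
      exact (w0 he).2.symm
    · convert mul_mem (mul_mem (mul_mem (mul_mem hN hC) hD) hN) hN using 1
      refine Subtype.ext ?_
      simp only [Matrix.SpecialLinearGroup.coe_mul, hNv]
      exact (w1 he).2.symm
  rw [← MonoidHom.range_eq_top, eq_top_iff, ← SL_closure_transvections, Subgroup.closure_le]
  rintro _ ⟨⟨i, j, hij, c⟩, rfl⟩
  rcases (by decide : ∀ a : ZMod 2, a = 0 ∨ a = 1) c with rfl | rfl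
  · show Matrix.SpecialLinearGroup.transvection hij (0 : ZMod 2) ∈ C.rho.range
    rw [Matrix.SpecialLinearGroup.transvection_coeff_zero]; exact one_mem _
  · show Matrix.SpecialLinearGroup.transvection hij (1 : ZMod 2) ∈ C.rho.range
    fin_cases i <;> fin_cases j
    all_goals first | exact absurd rfl hij | exact hA | exact hB | exact hC | exact hD | exact h20 | exact h21

end Cfg

end Cfsg.Agent.Spor.LargeFischer
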