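import Cfsg.Agent.Lib.Spor.LargeFischer.EightChecks
import Cfsg.Agent.Lib.Spor.LargeFischer.Cover
import Cfsg.Agent.Lib.Fus.LargeFischerScalar

/-!
The vectors orthogonal to the first one of the long orbit and their moves under the sixteen maps fixing the blocks.
-/

set_option autoImplicit false
set_option maxRecDepth 100000
set_option linter.style.haveILetI false

open Cfsg Cfsg.Agent.Classical Cfsg.Agent.Spor.Cos Matrix
open Cfsg.Agent.Spor.USixTwo (K4 vecOf)
open Cfsg.Agent.Spor.U62U43 (cover62)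
open Cfsg.Agent.Fus.LargeFischerScalar (ω k4_facts k4_cases)

namespace Cfsg.Agent.Spor.LargeFischer

variable {k : ℕ}

/-- Orthogonal to the first vector of the long orbit. -/
def Perp (k : ℕ) (v : Fin 6 → K4) : Prop := hermForm 6 K4 2 v (rep k 2) = 0

/-- On its line. -/
def OnLine (k : ℕ) (v : Fin 6 → K4) : Prop := ∃ a : K4, v = a • rep k 2

theorem of_zero_iff : ∀ n < 4, (K4.of n = 0 ↔ n = 0) := by decide +kernel

theorem hermC_lt' (a b : ℕ) : hermC a b < 4 := by
  rw [hermC]
  refine List.foldlRecOn (motive := fun s => s < 4) _ _ (by norm_num) fun s hs i _ => ?_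
  exact Nat.xor_lt_two_pow (n := 2) hs (hermC_term _ (Nat.mod_lt _ (by norm_num)) _ (Nat.mod_lt _ (by norm_num))).2

theorem herm_code_zero (a b : ℕ) : hermForm 6 K4 2 (vecOf a) (vecOf b) = 0 ↔ hermC a b = 0 := by
  rw [hermC_sound, of_zero_iff _ (hermC_lt' a b)]

theorem rep_code (k : ℕ) : rep k 2 = vecOf (dat k).v2 := rfl

theorem line_code (hk : k < 3) {c : ℕ} (h : (dat k).line2.contains c = true) : OnLine k (vecOf c) := by
  have hv : (dat k).v2 < 4096 := rd_lt _ _
  obtain ⟨e1, l1⟩ := om_code hk hv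
  obtain ⟨e2, -⟩ := om_code hk l1
  simp only [Dat.line2, List.contains_iff_mem, List.mem_cons, List.not_mem_nil, or_false] at h
  rcases h with rfl | rfl | rfl | rfl
  · exact ⟨0, by rw [vecOf_zero, zero_smul]⟩
  · exact ⟨1, by rw [one_smul, rep_code]⟩
  · exact ⟨ω, e1.symm⟩
  · exact ⟨ω * ω, by rw [← smul_smul, rep_code, ← e2, ← e1]⟩

theorem perpB_mem {c : ℕ} (hk : k < 3) (hc : c ∈ perpB) : c < 4096 ∧ Perp k (vecOf c) := by
  obtain ⟨-, -, -, -, h⟩ := eight_small k hk
  refine ⟨?_, ?_⟩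
  · revert c; decide
  · rw [Perp, rep_code, herm_code_zero]
    exact Nat.eq_of_beq_eq_true (List.all_eq_true.1 h c hc)

theorem vecOf_perpC (c : ℕ) : vecOf (perpC c) ∈
    AddSubgroup.closure {v : Fin 6 → K4 | ∃ b ∈ perpB, v = vecOf b} := by
  rw [perpC]
  refine List.foldlRecOn (motive := fun s => vecOf s ∈ AddSubgroup.closure {v : Fin 6 → K4 | ∃ b ∈ perpB, v = vecOf b})
    _ _ (by rw [vecOf_zero]; exact zero_mem _) fun s hs j hj => ?_
  rw [vecOf_xor]
  refine add_mem hs ?_
  rcases Nat.mod_two_eq_zero_or_one (c / 2 ^ (j + 2)) with e | e <;> rw [e]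
  · rw [zero_mul, vecOf_zero]; exact zero_mem _
  · rw [one_mul]
    refine AddSubgroup.subset_closure ⟨_, ?_, rfl⟩
    rw [List.getD_eq_getElem _ _ (show j < perpB.length from List.mem_range.1 hj)]
    exact List.getElem_mem _

theorem neg_self6' (v : Fin 6 → K4) : v + v = 0 := funext fun i => by
  show v i + v i = 0
  generalize v i = a
  revert a; decide +kernel

/-- A property stable under sums holds for orthogonal vectors once it holds on the basis. -/
theorem perp_induction (hk : k < 3) {P : (Fin 6 → K4) → Prop} (h0 : P 0) (hadd : ∀ u v, P u → P v → P (u + v))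
    (hB : ∀ b ∈ perpB, P (vecOf b)) {v : Fin 6 → K4} (hv : Perp k v) : P v := by
  have hc := eight_perp k hk (enc6 v) (enc6_lt v)
  simp only [Dat.chkPerp, Bool.and_eq_true, Bool.or_eq_true, Bool.not_eq_true'] at hc
  rw [Perp, rep_code, ← vecOf_enc6 v, herm_code_zero] at hv
  have he : perpC (enc6 v) = enc6 v := by
    refine Nat.eq_of_beq_eq_true (hc.1.resolve_left ?_)
    rw [hv]; decide
  rw [← vecOf_enc6 v, ← he]
  refine AddSubgroup.closure_induction (p := fun x _ => P x) ?_ h0 (fun a b _ _ ha hb => hadd a b ha hb)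
    (fun a _ ha => ?_) (vecOf_perpC _)
  · rintro _ ⟨b, hb, rfl⟩; exact hB b hb
  · rwa [neg_eq_of_add_eq_zero_left (neg_self6' a)]

theorem kerW_word (hk : k < 3) {w : List ℕ} (hw : w ∈ (dat k).kerW) :
    (∀ s ∈ w, s < 4) ∧ ev (kgen k) w ∈ stab k (rep k 2) := by
  obtain ⟨-, -, -, -, -, -, -, -, h⟩ := facts hk
  simp only [Dat.chkS2, Bool.and_eq_true] at h
  rw [rep_code]
  exact fixW hk (rd_lt _ _) h.1.1.1.1.1.1.1.2 hw

/-- The maps move orthogonal vectors along the line. -/
theorem shift_line (hk : k < 3) {w : List ℕ} (hw : w ∈ (dat k).kerW) {v : Fin 6 → K4} (hv : Perp k v) :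
    OnLine k (ev (kgen k) w • v + v) := by
  refine perp_induction hk (P := fun v => OnLine k (ev (kgen k) w • v + v)) ?_ ?_ ?_ hv
  · refine ⟨0, ?_⟩
    have : ev (kgen k) w • (0 : Fin 6 → K4) = 0 := Matrix.mulVec_zero _
    rw [this, add_zero, zero_smul]
  · rintro u v ⟨a, ha⟩ ⟨b, hb⟩
    refine ⟨a + b, ?_⟩
    rw [smul_add', add_smul, ← ha, ← hb]; abel
  · intro b hb
    obtain ⟨hlt, -⟩ := perpB_mem hk hb
    obtain ⟨e, -⟩ := word_act hk w (kerW_word hk hw).1 b hlt
    have h := List.all_eq_true.1 (List.all_eq_true.1 (eight_small k hk).1 w hw) b hb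
    rw [e, ← vecOf_xor]
    exact line_code hk h

/-- One of them moves one by the scalar multiple. -/
theorem shift_hit (hk : k < 3) : ∃ w ∈ (dat k).kerW, ∃ v, Perp k v ∧
    ev (kgen k) w • v + v = ω • rep k 2 := by
  obtain ⟨c, hc, h⟩ := List.any_eq_true.1 (eight_small k hk).2.1
  have hlen : 1 < (dat k).kerW.length := by interval_cases k <;> decide +kernel
  have hw : (dat k).kerW.getD 1 [] ∈ (dat k).kerW := by
    rw [List.getD_eq_getElem _ _ hlen]; exact List.getElem_mem _
  obtain ⟨hlt, hp⟩ := perpB_mem hk hc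
  obtain ⟨e, -⟩ := word_act hk _ (kerW_word hk hw).1 c hlt
  refine ⟨_, hw, vecOf c, hp, ?_⟩
  rw [e, ← vecOf_xor, Nat.eq_of_beq_eq_true h, rep_code]
  exact (om_code hk (rd_lt _ _)).1.symm

/-- A map fixing the orthogonal vectors fixes all. -/
theorem fix_faith (hk : k < 3) {w : List ℕ} (hw : w ∈ (dat k).kerW)
    (h : ∀ v, Perp k v → ev (kgen k) w • v = v) : ∀ v : Fin 6 → K4, ev (kgen k) w • v = v := by
  have hc := List.all_eq_true.1 (eight_small k hk).2.2.1 w hw
  simp only [Bool.or_eq_true, List.any_eq_true, List.all_eq_true, Bool.not_eq_true', List.mem_range] at hc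
  have hbit : ∀ i < 12, (dat k).wC w (2 ^ i) = 2 ^ i := by
    rcases hc with ⟨b, hb, hne⟩ | hall
    · exfalso
      obtain ⟨hlt, hp⟩ := perpB_mem hk hb
      obtain ⟨e, hl⟩ := word_act hk w (kerW_word hk hw).1 b hlt
      have := vecOf_inj hl hlt (e.symm.trans (h _ hp))
      rw [this] at hne
      simp at hne
    · exact fun i hi => Nat.eq_of_beq_eq_true (hall i hi)
  intro v
  have hadd : ∀ a b : Fin 6 → K4, ev (kgen k) w • (a + b) + (a + b) =
      (ev (kgen k) w • a + a) + (ev (kgen k) w • b + b) := fun a b => by rw [smul_add']; abel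
  let f := AddMonoidHom.mk' (fun v => ev (kgen k) w • v + v) hadd
  have hb : ∀ i < 12, f (vecOf (2 ^ i)) = vecOf ((List.replicate 12 0).getD i 0) := fun i hi => by
    have h2 : 2 ^ i < 4096 := Nat.pow_lt_pow_right (by norm_num : 1 < 2) hi
    show ev (kgen k) w • vecOf (2 ^ i) + _ = _
    rw [(word_act hk w (kerW_word hk hw).1 _ h2).1, hbit i hi, neg_self6',
      List.getD_eq_getElem _ _ (by simpa using hi), List.getElem_replicate, vecOf_zero]
  have hz : app (List.replicate 12 0) (enc6 v) = 0 := by simp [app, List.replicate]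
  have h0 := app_sound f (List.length_replicate ..) hb (enc6_lt v)
  rw [vecOf_enc6, hz, vecOf_zero] at h0
  have h0' : ev (kgen k) w • v + v = 0 := h0
  calc ev (kgen k) w • v = ev (kgen k) w • v + (v + v) := by rw [neg_self6', add_zero]
    _ = v := by rw [← add_assoc, h0', zero_add]

/-- Only the line is orthogonal to all orthogonal vectors. -/
theorem perp_rad (hk : k < 3) {v : Fin 6 → K4} (h : ∀ u, Perp k u → hermForm 6 K4 2 v u = 0) : OnLine k v := by
  have hc := eight_perp k hk (enc6 v) (enc6_lt v)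
  simp only [Dat.chkPerp, Bool.and_eq_true, Bool.or_eq_true, List.any_eq_true, Bool.not_eq_true'] at hc
  rcases hc.2 with e | ⟨b, hb, hne⟩
  · rw [← vecOf_enc6 v]; exact line_code hk e
  · exfalso
    have := h _ (perpB_mem hk hb).2
    rw [← vecOf_enc6 v, herm_code_zero] at this
    rw [this] at hne
    simp at hne

end Cfsg.Agent.Spor.LargeFischer
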