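import Cfsg.Agent.Lib.Spor.LargeFischer.EightPerp
import Cfsg.Agent.Lib.Spor.LargeFischer.LargeOrbit
import Cfsg.Agent.Lib.Fus.LargeFischerBlocks

/-!
A second centre over the first vector of the long orbit and a third one over its scalar multiple: the third lies in the
extraspecial group of the second, and some element of that group moves it.
-/

set_option autoImplicit false
set_option maxRecDepth 100000
set_option linter.style.haveILetI false
set_option linter.unusedSectionVars false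

open Cfsg Cfsg.Agent.Classical Cfsg.Agent.Spor.Cos Matrix
open Cfsg.Agent.Spor.USixTwo (K4 vecOf)
open Cfsg.Agent.Spor.U62U43 (cover62)
open Cfsg.Agent.Fus.LargeFischerScalar (ω k4_facts k4_cases herm_bit exists_om lin_of_mem)

namespace Cfsg.Agent.Spor.LargeFischer

variable {G : Type*} [Group G] [Finite G] {z : G} {Q : Subgroup (Subgroup.centralizer ({z} : Set G))}
  [hQn : Q.Normal]

theorem trace_zero_two : ∀ a : K4, a + a ^ 2 = 0 → ω * ω * a + (ω * ω * a) ^ 2 = 0 → a = 0 := by decide +kernel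

theorem one_add_omega : (1 : K4) + ω = ω * ω ∧ ω + 1 = ω * ω ∧ ω * ω ≠ 0 ∧ ω ^ 2 = ω * ω ∧ ω ≠ 1 ∧ ω ≠ 0 := by
  decide +kernel

theorem herm_smul_two (a : K4) (u w : Fin 6 → K4) :
    hermForm 6 K4 2 u (a • w) = a ^ 2 * hermForm 6 K4 2 u w := by
  rw [herm_swap (a • w) u, herm_smul, mul_pow, ← herm_swap]

/-- A subgroup is cut in half by the centraliser of an element moved inside it to one other. -/
theorem card_cut (B : Subgroup G) (b : G) (hB : ∀ y ∈ B, y * b * y⁻¹ = b ∨ y * b * y⁻¹ = b * z)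
    (hz : ∀ y ∈ B, y * z = z * y) (hzz : z * z = 1)
    (hy : ∃ y ∈ B, y * b ≠ b * y) :
    Nat.card B = 2 * Nat.card ↥(B ⊓ Subgroup.centralizer ({b} : Set G)) := by
  obtain ⟨y₀, hy₀, hne⟩ := hy
  have hmv : ∀ y ∈ B, y * b ≠ b * y → y * b * y⁻¹ = b * z := fun y hy hne =>
    (hB y hy).resolve_left fun e => hne (mul_inv_eq_iff_eq_mul.1 e)
  have hidx : ((Subgroup.centralizer ({b} : Set G)).subgroupOf B).index = 2 := by
    refine Subgroup.index_eq_two_iff.2 ⟨⟨y₀, hy₀⟩, fun y => ?_⟩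
    simp only [Subgroup.mem_subgroupOf, Subgroup.coe_mul, Subgroup.mem_centralizer_singleton_iff]
    by_cases h : (y : G) * b = b * y
    · refine Or.inr ⟨h, fun e => hne ?_⟩
      have : (y : G) * (y₀ * b) = y * (b * y₀) := by rw [← mul_assoc, e, ← mul_assoc, ← mul_assoc, h]
      exact mul_left_cancel this
    · refine Or.inl ⟨?_, h⟩
      refine mul_inv_eq_iff_eq_mul.1 ?_
      calc (y : G) * y₀ * b * ((y : G) * y₀)⁻¹ = y * (y₀ * b * y₀⁻¹) * (y : G)⁻¹ := by group
        _ = (y * b * (y : G)⁻¹) * (y * z * (y : G)⁻¹) := by rw [hmv _ hy₀ hne]; group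
        _ = b * z * z := by rw [hmv _ y.2 h, hz _ y.2, mul_inv_cancel_right]
        _ = b := by rw [mul_assoc, hzz, mul_one]
  rw [← ((Subgroup.centralizer ({b} : Set G)).subgroupOf B).card_mul_index, hidx,
    ← Subgroup.inf_subgroupOf_left, Nat.card_congr (Subgroup.subgroupOfEquivOfLe inf_le_left).toEquiv, mul_comm]

/-- The second centre over the first vector of the long orbit, with an element inducing the scalar. -/
structure Cfg (m : Model z Q) where
  /-- a conjugating element -/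
  g : G
  /-- the second centre -/
  s : Q
  hs : gv s = g * z * g⁻¹
  hne : g * z * g⁻¹ ≠ z
  rep_s : m.rep s = rep m.k 2
  /-- the scalar -/
  n : m.M
  n_act : ∀ v, m.act n v = ω • v

variable {m : Model z Q}

theorem exists_cfg (m : Model z Q) (hF : IsOfLargeFischerTypeAt z Q) : Nonempty (Cfg m) := by
  obtain ⟨⟨-, -, -, -, g₀, ⟨hq, hqQ⟩, hne₀⟩, -⟩ := hF
  have hk := m.hk
  set s₀ : Q := ⟨⟨g₀ * z * g₀⁻¹, hq⟩, hqQ⟩ with hs₀
  have l0 := lab_of_conj m (s := s₀) (g := g₀) rfl hne₀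
  obtain ⟨x2, hx2⟩ := m.rep_surj (rep m.k 2)
  have lx : m.lab x2 = 2 := by rw [Model.lab, hx2, (rep_first m.k hk).2]
  obtain ⟨c, hc⟩ := m.conj_of_lab (Or.inr lx) (l0.trans lx.symm)
  obtain ⟨n, -, hn⟩ := exists_om m
  have hs : gv x2 = ((c : G) * g₀) * z * ((c : G) * g₀)⁻¹ := by
    rw [show gv x2 = (c : G) * (g₀ * z * g₀⁻¹) * (c : G)⁻¹ from (congrArg Subtype.val hc).symm]; group
  exact ⟨⟨(c : G) * g₀, x2, hs, fun e => (m.of_lab (Or.inr lx)).2.2 (hs.trans e), hx2, n, hn⟩⟩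

namespace Cfg

variable (C : Cfg m)

/-- The third centre. -/
def t : Q := qconj (C.n : Subgroup.centralizer ({z} : Set G)) C.s

/-- A conjugating element for it. -/
def gt : G := ((C.n : Subgroup.centralizer ({z} : Set G)) : G) * C.g

theorem gv_t : gv C.t = C.gt * z * C.gt⁻¹ := by
  show ((C.n : Subgroup.centralizer ({z} : Set G)) : G) * gv C.s * ((C.n : Subgroup.centralizer ({z} : Set G)) : G)⁻¹ = _
  rw [C.hs, gt]; group

theorem rep_t : m.rep C.t = ω • rep m.k 2 := by rw [t, ← m.act_rep, C.n_act, C.rep_s]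

theorem hx : C.g * z * C.g⁻¹ ∈ QG Q := C.hs ▸ mem_QG.2 ⟨C.s, rfl⟩

theorem s_mem : gv C.s ∈ QG Q := mem_QG.2 ⟨C.s, rfl⟩

theorem t_mem : gv C.t ∈ QG Q := mem_QG.2 ⟨C.t, rfl⟩

theorem ext' : ExtraPair.Ext (gv C.s) (PG Q C.g) := C.hs ▸ m.ext.map_conj C.g

theorem rep2_ne : rep m.k 2 ≠ 0 := by
  intro e
  rcases lab_facts m.hk (rep m.k 2) with ⟨h, -⟩ | ⟨-, h, -⟩
  · rw [(rep_first m.k m.hk).2] at h; omega
  · exact h e

theorem rep2_herm : hermForm 6 K4 2 (rep m.k 2) (rep m.k 2) = 0 := by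
  rcases lab_facts m.hk (rep m.k 2) with ⟨h, -⟩ | ⟨-, -, h⟩
  · rw [(rep_first m.k m.hk).2] at h; omega
  · exact h

theorem herm_line (a b : K4) : hermForm 6 K4 2 (a • rep m.k 2) (b • rep m.k 2) = 0 := by
  rw [herm_smul, herm_smul_two, rep2_herm, mul_zero, mul_zero]

theorem bit_facts : ∀ a b c : K4, (a = 0 ∨ a = 1) → (b = 0 ∨ b = 1) → (c = 0 ∨ c = 1) →
    (c = a + b → ∀ d, c = a + b + (d + d ^ 2) → d + d ^ 2 = 0) ∧
    (c ≠ a + b → ∀ d, c = a + b + (d + d ^ 2) → d + d ^ 2 ≠ 0) := by decide +kernel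

theorem sq_gv (x : Q) : gv x * gv x = if hermForm 6 K4 2 (m.rep x) (m.rep x) = 0 then 1 else z := by
  split
  · next h => exact congrArg (fun q : Q => gv q) ((m.herm_zero x).1 h)
  · next h =>
    exact (m.ext.sq _ (mem_QG.2 ⟨x, rfl⟩)).resolve_left fun e =>
      h ((m.herm_zero x).2 (Subtype.ext (Subtype.ext e)))

/-- Elements of `Q` commute according to the form. -/
theorem comm_iff {x y : Q} : gv x * gv y = gv y * gv x ↔
    hermForm 6 K4 2 (m.rep x) (m.rep y) + hermForm 6 K4 2 (m.rep x) (m.rep y) ^ 2 = 0 := by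
  have hn : hermForm 6 K4 2 (m.rep (x * y)) (m.rep (x * y)) = hermForm 6 K4 2 (m.rep x) (m.rep x) +
      hermForm 6 K4 2 (m.rep y) (m.rep y) +
      (hermForm 6 K4 2 (m.rep x) (m.rep y) + hermForm 6 K4 2 (m.rep x) (m.rep y) ^ 2) := by
    rw [m.rep_mul, herm_add]
  obtain ⟨F1, F2⟩ := bit_facts (hermForm 6 K4 2 (m.rep x) (m.rep x)) (hermForm 6 K4 2 (m.rep y) (m.rep y))
    (hermForm 6 K4 2 (m.rep (x * y)) (m.rep (x * y))) (herm_bit _) (herm_bit _) (herm_bit _)
  have key : gv (x * y) * gv (x * y) = gv x * (gv y * gv x * (gv y)⁻¹) * (gv y * gv y) := by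
    show gv x * gv y * (gv x * gv y) = _
    group
  have hz1 : z ≠ 1 := m.ext.ne
  have h10 : (1 : K4) ≠ 0 := one_ne_zero
  have h11 : (1 : K4) + 1 = 0 := by decide +kernel
  constructor
  · intro h
    refine F1 ?_ _ hn
    rw [show gv y * gv x * (gv y)⁻¹ = gv x from mul_inv_eq_iff_eq_mul.2 h.symm, sq_gv, sq_gv, sq_gv] at key
    rcases herm_bit (m.rep x) with e1 | e1 <;> rcases herm_bit (m.rep y) with e2 | e2 <;>
      rcases herm_bit (m.rep (x * y)) with e3 | e3 <;> rw [e1, e2, e3] at key ⊢ <;>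
      simp [h10, h11, m.ext.zz, hz1, hz1.symm] at key ⊢
  · intro h
    by_contra hne
    refine F2 ?_ _ hn h
    rw [((m.ext.conj_cases (mem_QG.2 ⟨x, rfl⟩) (mem_QG.2 ⟨y, rfl⟩)).resolve_left fun e => hne e.symm).2,
      ← mul_assoc (gv x) (gv x) z, sq_gv, sq_gv, sq_gv] at key
    rcases herm_bit (m.rep x) with e1 | e1 <;> rcases herm_bit (m.rep y) with e2 | e2 <;>
      rcases herm_bit (m.rep (x * y)) with e3 | e3 <;> rw [e1, e2, e3] at key ⊢ <;>
      simp [h10, h11, m.ext.zz, hz1, hz1.symm] at key ⊢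

theorem perp_of_comm {x : Q} (h1 : gv x * gv C.s = gv C.s * gv x) (h2 : gv x * gv C.t = gv C.t * gv x) :
    Perp m.k (m.rep x) := by
  have e1 := (comm_iff (m := m)).1 h1
  have e2 := (comm_iff (m := m)).1 h2
  rw [C.rep_s] at e1
  rw [C.rep_t, herm_smul_two, one_add_omega.2.2.2.1] at e2
  exact trace_zero_two _ e1 e2

theorem comm_of_perp {x : Q} (h : Perp m.k (m.rep x)) :
    gv x * gv C.s = gv C.s * gv x ∧ gv x * gv C.t = gv C.t * gv x := by
  refine ⟨(comm_iff (m := m)).2 ?_,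
    (comm_iff (m := m)).2 ?_⟩
  · rw [C.rep_s, show hermForm 6 K4 2 (m.rep x) (rep m.k 2) = 0 from h]; simp
  · rw [C.rep_t, herm_smul_two, show hermForm 6 K4 2 (m.rep x) (rep m.k 2) = 0 from h]; simp

theorem rep_not_central {q : Q} (h : m.rep q ≠ 0) : gv q ≠ 1 ∧ gv q ≠ z :=
  ⟨fun e => h ((m.rep_zero q).2 (Or.inl e)), fun e => h ((m.rep_zero q).2 (Or.inr e))⟩

theorem rep_t_ne : m.rep C.t ≠ 0 := fun e => by
  rw [C.rep_t] at e
  rcases smul_eq_zero.1 e with e | e
  exacts [one_add_omega.2.2.2.2.2 e, rep2_ne e]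

/-- The linear image of the second group inside the stabiliser contains the sixteen maps. -/
theorem lift_ker {w : List ℕ} (hw : w ∈ (dat m.k).kerW) :
    ∃ e : m.M, (e : Subgroup.centralizer ({z} : Set G)) ∈ Es Q C.g ∧ m.lin e = ev (kgen m.k) w := by
  have lx : m.lab C.s = 2 := by rw [Model.lab, C.rep_s, (rep_first m.k m.hk).2]
  obtain ⟨hle, hp, hn⟩ := image_facts m C.hs (Or.inr lx)
  rw [C.rep_s] at hle hn
  set A := (Es Q C.g ⊓ m.M).subgroupOf m.M with hA
  have hcA : Nat.card A = Nat.card ↥(Es Q C.g ⊓ m.M) :=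
    Nat.card_congr (Subgroup.subgroupOfEquivOfLe inf_le_right).toEquiv
  have hker : Nat.card ↥(A ⊓ m.lin.ker) ≤ 2 ^ 7 := by
    refine le_trans ?_ ((card_Es_inf (Q := Q) (g := C.g)).trans_le (card_inter_le m C.hx C.hne))
    refine Nat.card_le_card_of_injective
      (fun a => (⟨(a.1 : Subgroup.centralizer ({z} : Set G)), a.2.1.1, (m.lin_eq_one a.1).1 a.2.2⟩ :
        ↥(Es Q C.g ⊓ Q))) fun a b e => Subtype.ext (Subtype.ext (congrArg (fun t : ↥(Es Q C.g ⊓ Q) => (t : Subgroup.centralizer ({z} : Set G))) e))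
  have h11 := card_Es_M m C.hx C.hne
  rw [← hcA, Leech.card_eq_ker_mul_map m.lin A] at h11
  have h16 : 16 ≤ Nat.card (A.map m.lin) := by
    have := h11.trans (Nat.mul_le_mul_right _ hker)
    norm_num at this ⊢
    omega
  obtain ⟨e, he, heq⟩ := Fus.LargeFischerBlocks.kerSet_le m.hk hle hp hn h16 w hw
  exact ⟨e, he.1, heq⟩

theorem z_mem_PG' : z ∈ PG Q C.g := LargeFischer.z_mem_PG m C.hx

theorem t_mem_PG : gv C.t ∈ PG Q C.g := by
  obtain ⟨w, hw, v, hv, heq⟩ := shift_hit m.hk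
  obtain ⟨e, heE, hlin⟩ := C.lift_ker hw
  obtain ⟨x, rfl⟩ := m.rep_surj v
  let ec : Subgroup.centralizer ({z} : Set G) := e
  let q : Q := x * qconj ec x⁻¹
  have hq : gv q = gv x * (ec : G) * (gv x)⁻¹ * (ec : G)⁻¹ := by
    show gv x * ((ec : G) * (gv x)⁻¹ * (ec : G)⁻¹) = _
    group
  have hrep : m.rep q = m.rep C.t := by
    show m.rep (x * qconj ec x⁻¹) = _
    rw [m.rep_mul, ← m.act_rep, m.rep_inv, m.lin_act, hlin, C.rep_t, add_comm]
    exact heq
  have hmem : gv q ∈ PG Q C.g := by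
    rw [hq]
    exact mul_mem (C.ext'.norm _ (C.comm_of_perp hv).1 _ (mem_Es.1 heE)) (inv_mem (mem_Es.1 heE))
  rcases m.rep_eq hrep with e' | e'
  · rw [e']; exact hmem
  · rw [e']; exact mul_mem hmem C.z_mem_PG'

include C in
/-- An element of the second group fixing the centre moves the third one; it is outside the linear half. -/
theorem exists_outer : ∃ e : Subgroup.centralizer ({z} : Set G), e ∉ m.M ∧
    m.act e (rep m.k 2) = rep m.k 2 ∧ m.act e (ω • rep m.k 2) = ω • rep m.k 2 + rep m.k 2 := by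
  obtain ⟨e, heP, hez, hne⟩ : ∃ e ∈ PG Q C.g, e * z = z * e ∧ e * gv C.t ≠ gv C.t * e := by
    by_contra hcon
    push Not at hcon
    have hst : m.rep C.t ≠ m.rep C.s := by
      rw [C.rep_t, C.rep_s]
      intro e
      have e' : (ω + 1) • rep m.k 2 = 0 := by rw [add_smul, one_smul, e, neg_self6]
      rw [one_add_omega.2.1] at e'
      rcases smul_eq_zero.1 e' with e'' | e''
      exacts [one_add_omega.2.2.1 e'', rep2_ne e'']
    rcases C.ext'.centralized_by_hyperplane C.z_mem_PG' C.t_mem_PG hcon with e | e | e | e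
    · exact (rep_not_central C.rep_t_ne).1 e
    · exact hst (congrArg m.rep (Subtype.ext (Subtype.ext e)))
    · exact (rep_not_central C.rep_t_ne).2 e
    · refine hst ?_
      have e' : gv (C.t * C.s⁻¹) = z := by
        show gv C.t * (gv C.s)⁻¹ = z
        rw [e]; group
      have := (m.rep_zero _).2 (Or.inr e')
      rw [m.rep_mul, m.rep_inv] at this
      calc m.rep C.t = m.rep C.t + (m.rep C.s + m.rep C.s) := by rw [neg_self6, add_zero]
        _ = m.rep C.s := by rw [← add_assoc, this, zero_add]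
  have hec : e ∈ Subgroup.centralizer ({z} : Set G) := Subgroup.mem_centralizer_singleton_iff.2 hez
  let ec : Subgroup.centralizer ({z} : Set G) := ⟨e, hec⟩
  have h1 : m.act ec (rep m.k 2) = rep m.k 2 := by
    rw [← C.rep_s, m.act_rep]
    refine congrArg m.rep (Subtype.ext (Subtype.ext ?_))
    show e * gv C.s * e⁻¹ = gv C.s
    rw [mul_inv_eq_iff_eq_mul]
    exact C.ext'.central _ heP
  have h2 : m.act ec (ω • rep m.k 2) = ω • rep m.k 2 + rep m.k 2 := by
    rw [← C.rep_t, m.act_rep, ← C.rep_s, ← m.rep_mul]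
    refine congrArg m.rep (Subtype.ext (Subtype.ext ?_))
    exact ((C.ext'.conj_cases C.t_mem_PG heP).resolve_left hne).2
  refine ⟨ec, fun hM => ?_, h1, h2⟩
  rw [lin_of_mem m hM, h1, left_eq_add] at h2
  exact rep2_ne h2

include C in
/-- An element fixing both multiples is linear. -/
theorem mem_M_of_fix {a : Subgroup.centralizer ({z} : Set G)} (h1 : m.act a (rep m.k 2) = rep m.k 2)
    (h2 : m.act a (ω • rep m.k 2) = ω • rep m.k 2) : a ∈ m.M := by
  by_contra ha
  obtain ⟨e, he, e1, e2⟩ := C.exists_outer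
  have hae : a * e ∈ m.M := (Subgroup.mul_mem_iff_of_index_two m.M_index).2 (iff_of_false ha he)
  have h := lin_of_mem m hae (rep m.k 2)
  rw [m.act_mul, m.act_mul, e1, e2, m.act_add, h1, h2, add_eq_left] at h
  exact rep2_ne h

end Cfg

end Cfsg.Agent.Spor.LargeFischer
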