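import Cfsg.Agent.Lib.Spor.U62U43.Main
import Cfsg.Agent.Lib.Spor.LargeFischer.Data

/-!
The preimage of the subgroup of order 81 in a group with a kernel of order three over `PSU₄(3)`: it is elementary
abelian, with coordinates in which two normalising elements act by known matrices, the first one linearly.
-/

set_option autoImplicit false
set_option maxRecDepth 100000

open Cfsg Cfsg.Agent.Spor.Cos Cfsg.Agent.Spor.Cos.Triple Cfsg.Agent.Spor.U62U43

namespace Cfsg.Agent.Spor.LargeFischer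

/-- A matrix over the field with three elements from a list. -/
def matOf (l : List ℕ) : Fin 4 → Fin 4 → ZMod 3 :=
  fun i j => ((l.getD (4 * i.1 + j.1) 0 : ℕ) : ZMod 3)

/-- A product of powers. -/
def W {L : Type*} [Monoid L] (e : Fin 4 → L) (u : Fin 4 → ZMod 3) : L :=
  e 0 ^ (u 0).val * e 1 ^ (u 1).val * e 2 ^ (u 2).val * e 3 ^ (u 3).val

/-- The word of a product of powers of the basis. -/
def wW (u : Fin 4 → ZMod 3) : List ℕ :=
  (List.replicate (u 0).val (eW.getD 0 [])).flatten ++ (List.replicate (u 1).val (eW.getD 1 [])).flatten ++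
    (List.replicate (u 2).val (eW.getD 2 [])).flatten ++ (List.replicate (u 3).val (eW.getD 3 [])).flatten

/-- The basis. -/
noncomputable def E43 (i : Fin 4) : G43 := ev UFourThree.gT (eW.getD i.1 [])

/-- The first normalising element. -/
noncomputable def N43a : G43 := ev UFourThree.gT nW1

/-- The second normalising element. -/
noncomputable def N43b : G43 := ev UFourThree.gT nW2

theorem word_facts : (∀ i : Fin 4, sameW A43 F43 (powF (eW.getD i.1 []) 3) [] = true) ∧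
    (∀ i j : Fin 4, sameW A43 F43 (eW.getD i.1 [] ++ eW.getD j.1 []) (eW.getD j.1 [] ++ eW.getD i.1 []) = true) ∧
    (∀ j : Fin 4, sameW A43 F43 (nW1 ++ eW.getD j.1 []) (wW (fun i => matOf mA1 i j) ++ nW1) = true) ∧
    (∀ j : Fin 4, sameW A43 F43 (nW2 ++ eW.getD j.1 []) (wW (fun i => matOf mA2 i j) ++ nW2) = true) ∧
    agree A43 F43 (eW.getD 0 []) [] = false := by decide +kernel

theorem ev_wW (u : Fin 4 → ZMod 3) : ev UFourThree.gT (wW u) = W E43 u := by
  simp only [wW, W, ev_append, ev_power]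
  rfl

theorem facts_E43 : (∀ i, E43 i ^ 3 = 1) ∧ (∀ i j, Commute (E43 i) (E43 j)) ∧
    (∀ j, N43a * E43 j = W E43 (fun i => matOf mA1 i j) * N43a) ∧
    (∀ j, N43b * E43 j = W E43 (fun i => matOf mA2 i j) * N43b) ∧ E43 0 ≠ 1 := by
  obtain ⟨h1, h2, h3, h4, h5⟩ := word_facts
  refine ⟨fun i => ?_, fun i j => ?_, fun j => ?_, fun j => ?_, fun he => ?_⟩
  · have e := eq43 (h1 i)
    simp only [powF, ev_power] at e
    exact e
  · have e := eq43 (h2 i j)
    simp only [ev_append] at e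
    exact e
  · have e := eq43 (h3 j)
    simp only [ev_append, ev_wW] at e
    exact e
  · have e := eq43 (h4 j)
    simp only [ev_append, ev_wW] at e
    exact e
  · have hl : ∀ x ∈ eW.getD 0 [], x < A43.n := by decide
    rw [agree_of_eq UFourThree.homA frame43_lt (w := []) hl (by simp) he] at h5
    exact Bool.noConfusion h5

/-- An alternating matrix. -/
def altOf (x₀ x₁ x₂ x₃ x₄ x₅ : ZMod 3) : Fin 4 → Fin 4 → ZMod 3 :=
  ![![0, x₀, x₁, x₂], ![-x₀, 0, x₃, x₄], ![-x₁, -x₃, 0, x₅], ![-x₂, -x₄, -x₅, 0]]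

/-- A matrix is invariant. -/
def invB (l : List ℕ) (B : (Fin 4 → Fin 4 → ZMod 3)) : Bool :=
  decide (∀ i j, ∑ k, matOf l k i * (∑ r, matOf l r j * B k r) = B i j)

theorem alt_none : ∀ x₀ x₁ x₂ x₃ x₄ x₅ : ZMod 3,
    invB mA1 (altOf x₀ x₁ x₂ x₃ x₄ x₅) = true → invB mA2 (altOf x₀ x₁ x₂ x₃ x₄ x₅) = true →
    x₀ = 0 ∧ x₁ = 0 ∧ x₂ = 0 ∧ x₃ = 0 ∧ x₄ = 0 ∧ x₅ = 0 := by decide +kernel

theorem cube_none : ∀ g₀ g₁ g₂ g₃ : ZMod 3,
    (∀ j, ∑ i, matOf mA1 i j * ![g₀, g₁, g₂, g₃] i = ![g₀, g₁, g₂, g₃] j) →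
    g₀ = 0 ∧ g₁ = 0 ∧ g₂ = 0 ∧ g₃ = 0 := by decide +kernel

theorem shift_solve : ∀ f₀ f₁ f₂ f₃ : ZMod 3, ∃ a₀ a₁ a₂ a₃ : ZMod 3,
    ∀ j, ![f₀, f₁, f₂, f₃] j + ![a₀, a₁, a₂, a₃] j = ∑ i, matOf mA1 i j * ![a₀, a₁, a₂, a₃] i := by decide +kernel

section Central

variable {L : Type*} [Group L] {c : L}

/-- A power of the central element. -/
def zp (c : L) (t : ZMod 3) : L := c ^ t.val

theorem zp_zero (c : L) : zp c 0 = 1 := pow_zero c

theorem zp_one (c : L) : zp c 1 = c := pow_one c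

theorem pow_val_add {x : L} (hx : x ^ 3 = 1) (s t : ZMod 3) : x ^ (s + t).val = x ^ s.val * x ^ t.val := by
  rw [ZMod.val_add, ← pow_add, ← pow_eq_pow_mod _ hx]

theorem zp_add (h3 : c ^ 3 = 1) (s t : ZMod 3) : zp c (s + t) = zp c s * zp c t := pow_val_add h3 s t

theorem zp_nat_mul (h3 : c ^ 3 = 1) (t : ZMod 3) (n : ℕ) : zp c t ^ n = zp c ((n : ZMod 3) * t) := by
  induction n with
  | zero => simp [zp_zero]
  | succ n ih => rw [pow_succ, ih, Nat.cast_succ, add_one_mul, zp_add h3]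

theorem zp_inj (h3 : c ^ 3 = 1) (hc : c ≠ 1) {s t : ZMod 3} (h : zp c s = zp c t) : s = t := by
  haveI : Fact (Nat.Prime 3) := ⟨Nat.prime_three⟩
  have ho := orderOf_eq_prime h3 hc
  exact ZMod.val_injective 3 (pow_injOn_Iio_orderOf (Set.mem_Iio.2 (ho.symm ▸ ZMod.val_lt s))
    (Set.mem_Iio.2 (ho.symm ▸ ZMod.val_lt t)) h)

theorem zp_comm (hz : ∀ x, c * x = x * c) (t : ZMod 3) (x : L) : zp c t * x = x * zp c t :=
  ((show Commute c x from hz x).pow_left _).eq

/-- The commutator of two elements is a power of the central element. -/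
def Cm (c x y : L) (t : ZMod 3) : Prop := x * y = zp c t * (y * x)

theorem Cm.mul_left (h3 : c ^ 3 = 1) (hz : ∀ x, c * x = x * c) {x y w : L} {s t : ZMod 3} (h : Cm c x w s)
    (h' : Cm c y w t) : Cm c (x * y) w (s + t) := by
  show x * y * w = zp c (s + t) * (w * (x * y))
  calc x * y * w = x * (y * w) := mul_assoc _ _ _
    _ = x * zp c t * (w * y) := by rw [h', mul_assoc]
    _ = zp c t * (x * w) * y := by rw [← zp_comm hz t x]; group
    _ = zp c t * zp c s * (w * (x * y)) := by rw [h]; group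
    _ = _ := by rw [← zp_add h3, add_comm]

theorem Cm.one_left (x : L) : Cm c 1 x 0 := by show _ = _; rw [zp_zero, one_mul, one_mul, mul_one]

theorem Cm.pow_left (h3 : c ^ 3 = 1) (hz : ∀ x, c * x = x * c) {x w : L} {s : ZMod 3} (h : Cm c x w s) :
    ∀ n : ℕ, Cm c (x ^ n) w ((n : ZMod 3) * s)
  | 0 => by rw [pow_zero, Nat.cast_zero, zero_mul]; exact Cm.one_left w
  | n + 1 => by rw [pow_succ, Nat.cast_succ, add_one_mul]; exact (Cm.pow_left h3 hz h n).mul_left h3 hz h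

theorem Cm.flip (h3 : c ^ 3 = 1) {x y : L} {t : ZMod 3} (h : Cm c x y t) : Cm c y x (-t) := by
  show _ = _
  rw [h, ← mul_assoc, ← zp_add h3, neg_add_cancel, zp_zero, one_mul]

theorem Cm.unique (h3 : c ^ 3 = 1) (hc : c ≠ 1) {x y : L} {s t : ZMod 3} (h : Cm c x y s) (h' : Cm c x y t) :
    s = t :=
  zp_inj h3 hc (mul_right_cancel (h.symm.trans h'))

theorem Cm.central_left (h3 : c ^ 3 = 1) (hz : ∀ x, c * x = x * c) {x y : L} {t : ZMod 3} (h : Cm c x y t)
    (a : ZMod 3) : Cm c (x * zp c a) y t := by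
  have h0 : Cm c (zp c a) y 0 := by show _ = _; rw [zp_zero, one_mul, zp_comm hz]
  simpa using h.mul_left h3 hz h0

theorem Cm.conj (hz : ∀ x, c * x = x * c) {x y : L} {t : ZMod 3} (h : Cm c x y t) (n : L) :
    Cm c (n * x * n⁻¹) (n * y * n⁻¹) t := by
  show _ = _
  calc n * x * n⁻¹ * (n * y * n⁻¹) = n * (x * y) * n⁻¹ := by group
    _ = n * zp c t * (y * x) * n⁻¹ := by rw [h]; group
    _ = _ := by rw [← zp_comm hz t n]; group

theorem Cm.W_left (h3 : c ^ 3 = 1) (hz : ∀ x, c * x = x * c) {e : Fin 4 → L} {w : L} {s : Fin 4 → ZMod 3}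
    (h : ∀ i, Cm c (e i) w (s i)) (u : Fin 4 → ZMod 3) : Cm c (W e u) w (∑ i, u i * s i) := by
  have hp : ∀ i, Cm c (e i ^ (u i).val) w (u i * s i) := fun i => by
    simpa [ZMod.natCast_zmod_val] using (h i).pow_left h3 hz (u i).val
  rw [Fin.sum_univ_four]
  exact (((hp 0).mul_left h3 hz (hp 1)).mul_left h3 hz (hp 2)).mul_left h3 hz (hp 3)

theorem Cm.W_right (h3 : c ^ 3 = 1) (hz : ∀ x, c * x = x * c) {e : Fin 4 → L} {w : L} {s : Fin 4 → ZMod 3}
    (h : ∀ i, Cm c w (e i) (s i)) (u : Fin 4 → ZMod 3) : Cm c w (W e u) (∑ i, u i * s i) := by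
  simpa [Finset.sum_neg_distrib] using (Cm.W_left h3 hz (fun i => (h i).flip h3) u).flip h3

/-- Multiplying the basis by central elements. -/
theorem W_mul_zp (h3 : c ^ 3 = 1) (hz : ∀ x, c * x = x * c) (e : Fin 4 → L) (a u : Fin 4 → ZMod 3) :
    W (fun i => e i * zp c (a i)) u = W e u * zp c (∑ i, u i * a i) := by
  have hp : ∀ i, (e i * zp c (a i)) ^ (u i).val = e i ^ (u i).val * zp c (u i * a i) := fun i => by
    rw [(show Commute (e i) (zp c (a i)) from (zp_comm hz _ _).symm).mul_pow, zp_nat_mul h3,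
      ZMod.natCast_zmod_val]
  simp only [W, hp, Fin.sum_univ_four]
  have sw : ∀ (x y : L) (s : ZMod 3) (z : L), x * zp c s * (y * z) = x * y * (zp c s * z) := fun x y s z =>
    (show Commute (zp c s) y from zp_comm hz s y).mul_mul_mul_comm x z
  rw [sw, ← zp_add h3, sw, ← zp_add h3, sw, ← zp_add h3]

theorem W_add {e : Fin 4 → L} (hcomm : ∀ i j, Commute (e i) (e j)) (hcube : ∀ i, e i ^ 3 = 1)
    (u v : Fin 4 → ZMod 3) : W e (u + v) = W e u * W e v := by
  have cp : ∀ (i j : Fin 4) (a b : ℕ), Commute (e i ^ a) (e j ^ b) := fun i j a b => (hcomm i j).pow_pow a b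
  simp only [W, Pi.add_apply, pow_val_add (hcube _)]
  calc _ = e 0 ^ (u 0).val * (e 0 ^ (v 0).val * e 1 ^ (u 1).val) * e 1 ^ (v 1).val * e 2 ^ (u 2).val *
      e 2 ^ (v 2).val * e 3 ^ (u 3).val * e 3 ^ (v 3).val := by simp only [mul_assoc]
    _ = e 0 ^ (u 0).val * e 1 ^ (u 1).val * ((e 0 ^ (v 0).val * e 1 ^ (v 1).val) * e 2 ^ (u 2).val) *
      e 2 ^ (v 2).val * e 3 ^ (u 3).val * e 3 ^ (v 3).val := by
        rw [(cp 0 1 _ _).eq]; simp only [mul_assoc]
    _ = e 0 ^ (u 0).val * e 1 ^ (u 1).val * e 2 ^ (u 2).val *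
      ((e 0 ^ (v 0).val * e 1 ^ (v 1).val * e 2 ^ (v 2).val) * e 3 ^ (u 3).val) * e 3 ^ (v 3).val := by
        rw [(((cp 0 2 (v 0).val (u 2).val)).mul_left (cp 1 2 (v 1).val (u 2).val)).eq]; simp only [mul_assoc]
    _ = _ := by
        rw [((((cp 0 3 (v 0).val (u 3).val)).mul_left (cp 1 3 (v 1).val (u 3).val)).mul_left
          (cp 2 3 (v 2).val (u 3).val)).eq]
        simp only [mul_assoc]

theorem W_map {M : Type*} [Group M] (f : L →* M) (e : Fin 4 → L) (u : Fin 4 → ZMod 3) :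
    f (W e u) = W (fun i => f (e i)) u := by simp [W]

theorem W_cube {e : Fin 4 → L} (h3 : c ^ 3 = 1) (hcomm : ∀ i j, Commute (e i) (e j)) {g : Fin 4 → ZMod 3}
    (hg : ∀ i, e i ^ 3 = zp c (g i)) (u : Fin 4 → ZMod 3) : W e u ^ 3 = zp c (∑ i, u i * g i) := by
  have cp : ∀ (i j : Fin 4) (a b : ℕ), Commute (e i ^ a) (e j ^ b) := fun i j a b => (hcomm i j).pow_pow a b
  have hp : ∀ i, (e i ^ (u i).val) ^ 3 = zp c (u i * g i) := fun i => by
    rw [← pow_mul, mul_comm, pow_mul, hg, zp_nat_mul h3, ZMod.natCast_zmod_val]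
  rw [W, (((cp 0 3 _ _).mul_left (cp 1 3 _ _)).mul_left (cp 2 3 _ _)).mul_pow,
    ((cp 0 2 _ _).mul_left (cp 1 2 _ _)).mul_pow, (cp 0 1 _ _).mul_pow, hp, hp, hp, hp, Fin.sum_univ_four,
    zp_add h3, zp_add h3, zp_add h3]

end Central

/-- Coordinates on the preimage. -/
structure IsFrame {L : Type*} [Group L] (π : L →* G43) (c n₁ n₂ : L) (e : Fin 4 → L) (f : Fin 4 → ZMod 3) :
    Prop where
  c_ker : π c = 1
  c_ne : c ≠ 1
  c_cube : c ^ 3 = 1
  central : ∀ x, c * x = x * c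
  ker : ∀ x, π x = 1 → ∃ t, x = zp c t
  cube : ∀ i, e i ^ 3 = 1
  comm : ∀ i j, Commute (e i) (e j)
  image : ∀ i, π (e i) = E43 i
  conj₁ : ∀ j, n₁ * e j * n₁⁻¹ = W e (fun i => matOf mA1 i j)
  conj₂ : ∀ j, n₂ * e j * n₂⁻¹ = W e (fun i => matOf mA2 i j) * zp c (f j)

/-- A kernel of order three over `PSU₄(3)` is central. -/
theorem central_of_ker {L : Type*} [Group L] {π : L →* G43} (hπ : Function.Surjective π) {c : L}
    (hc : π c = 1) (hker : ∀ x, π x = 1 → ∃ t, x = zp c t) (h3 : c ^ 3 = 1) (x : L) : c * x = x * c := by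
  have hconj : ∀ y : L, ∃ t, y * c * y⁻¹ = zp c t := fun y => hker _ (by simp [hc])
  have hsq : ∀ y : L, Commute (y * y) c := fun y => by
    obtain ⟨t, ht⟩ := hconj y
    have h2 : y * y * c * (y * y)⁻¹ = zp c (t * t) := by
      calc y * y * c * (y * y)⁻¹ = y * (y * c * y⁻¹) * y⁻¹ := by group
        _ = y * c ^ t.val * y⁻¹ := by rw [ht, zp]
        _ = (y * c * y⁻¹) ^ t.val := conj_pow.symm
        _ = _ := by rw [ht, zp_nat_mul h3, ZMod.natCast_zmod_val]
    rcases (show ∀ s : ZMod 3, s = 0 ∨ s * s = 1 by decide) t with rfl | h1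
    · rw [zp_zero, conj_eq_one_iff] at ht
      rw [ht]; exact Commute.one_right _
    · rw [h1, zp_one, mul_inv_eq_iff_eq_mul] at h2
      exact h2
  let Z : Subgroup L := Subgroup.centralizer {c}
  have hZc : ∀ y ∈ Z, c * y = y * c := fun y hy => Subgroup.mem_centralizer_singleton_iff.1 hy |>.symm
  have hmem : ∀ g : G43, ∀ h : G43, h * h = g → g ∈ Z.map π := fun g h e => by
    obtain ⟨y, rfl⟩ := hπ h
    exact ⟨y * y, Subgroup.mem_centralizer_singleton_iff.2 (hsq y).eq, by rw [map_mul, e]⟩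
  have htop : Z.map π = ⊤ := by
    rw [eq_top_iff, ← closure_SY, Subgroup.closure_le]
    rintro g (rfl | rfl)
    · exact hmem _ (S43 ^ 4) (by rw [← pow_add, show 4 + 4 = 7 + 1 from rfl, pow_add, facts43.1, one_mul, pow_one])
    · exact hmem _ (Y43 ^ 2) (by rw [← pow_add, show 2 + 2 = 3 + 1 from rfl, pow_add, facts43.2.2.2.2.1, one_mul, pow_one])
  obtain ⟨y, hy, hxy⟩ := htop ▸ Subgroup.mem_top (π x)
  obtain ⟨t, ht⟩ := hker (y⁻¹ * x) (by rw [map_mul, map_inv, hxy, inv_mul_cancel])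
  rw [show x = y * zp c t by rw [← ht, mul_inv_cancel_left]]
  exact ((show Commute c y from hZc y hy).mul_right ((Commute.refl c).pow_right t.val)).eq

theorem exists_frame {L : Type*} [Group L] {π : L →* G43} (hπ : Function.Surjective π)
    (h3 : Nat.card π.ker = 3) : ∃ c n₁ n₂ e f, IsFrame π c n₁ n₂ e f := by
  haveI : Fact (Nat.Prime 3) := ⟨Nat.prime_three⟩
  haveI : Finite π.ker := Nat.finite_of_card_ne_zero (by omega)
  obtain ⟨⟨c, hck⟩, hgen⟩ := (isCyclic_of_prime_card h3).exists_generator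
  have hπc : π c = 1 := hck
  have hc1 : c ≠ 1 := by
    rintro rfl
    have hs : Subsingleton π.ker := ⟨fun a b => by
      obtain ⟨i, hi⟩ := hgen a
      obtain ⟨j, hj⟩ := hgen b
      have e1 : (⟨1, hck⟩ : π.ker) = 1 := rfl
      rw [← hi, ← hj]
      simp [e1]⟩
    rw [Nat.card_eq_one_iff_unique.2 ⟨hs, ⟨1⟩⟩] at h3
    omega
  have hc3 : c ^ 3 = 1 := by
    have := pow_card_eq_one' (G := π.ker) (x := ⟨c, hck⟩)
    rw [h3] at this
    exact congrArg Subtype.val this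
  have hker : ∀ x, π x = 1 → ∃ t, x = zp c t := fun x hx => by
    obtain ⟨i, hi⟩ := hgen ⟨x, hx⟩
    refine ⟨(i : ZMod 3), ?_⟩
    have h := congrArg Subtype.val hi
    simp only [SubgroupClass.coe_zpow] at h
    rw [← h, zp, ← zpow_natCast, ZMod.val_intCast, ← zpow_eq_zpow_emod' _ hc3]
  have hz := central_of_ker hπ hπc hker hc3
  obtain ⟨hE3, hEc, hN1, hN2, -⟩ := facts_E43
  choose e he using fun i => hπ (E43 i)
  obtain ⟨n₁, hn₁⟩ := hπ N43a
  obtain ⟨n₂, hn₂⟩ := hπ N43b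
  have hmod : ∀ x y, π x = π y → ∃ t, x = y * zp c t := fun x y h => by
    obtain ⟨t, ht⟩ := hker (y⁻¹ * x) (by rw [map_mul, map_inv, h, inv_mul_cancel])
    exact ⟨t, by rw [← ht, mul_inv_cancel_left]⟩
  have hπzp : ∀ t, π (zp c t) = 1 := fun t => by rw [zp, map_pow, hπc, one_pow]
  have hconj : ∀ (n : L) (A : (Fin 4 → Fin 4 → ZMod 3)),
      (∀ j, π n * E43 j = W E43 (fun i => A i j) * π n) →
      ∀ j, ∃ t, n * e j * n⁻¹ = W e (fun i => A i j) * zp c t := fun n A h j => by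
    refine hmod _ _ ?_
    rw [map_mul, map_mul, map_inv, he, h j, mul_inv_cancel_right, W_map]
    simp only [he]
  have c1 := hconj n₁ (matOf mA1) (by rw [hn₁]; exact hN1)
  have c2 := hconj n₂ (matOf mA2) (by rw [hn₂]; exact hN2)
  choose f₁ hf₁ using c1
  choose f₂ hf₂ using c2
  -- the commutators
  have hb : ∀ i j, ∃ t, Cm c (e i) (e j) t := fun i j => by
    obtain ⟨t, ht⟩ := hmod (e i * e j) (e j * e i) (by rw [map_mul, map_mul, he, he, (hEc i j).eq])
    exact ⟨t, ht.trans (zp_comm hz t _).symm⟩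
  choose b hb using hb
  have hinv : ∀ (n : L) (A : (Fin 4 → Fin 4 → ZMod 3)) (f : Fin 4 → ZMod 3),
      (∀ j, n * e j * n⁻¹ = W e (fun i => A i j) * zp c (f j)) →
      ∀ i j, ∑ k, A k i * (∑ l, A l j * b k l) = b i j := fun n A f h i j => by
    have hW : ∀ i j, Cm c (W e fun k => A k i) (W e fun k => A k j) (∑ k, A k i * (∑ l, A l j * b k l)) :=
      fun i j => Cm.W_left hc3 hz (fun k => Cm.W_right hc3 hz (hb k) fun l => A l j) fun k => A k i
    have h1 := (((hW i j).central_left hc3 hz (f i)).flip hc3).central_left hc3 hz (f j)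
    have h2 := h1.flip hc3
    rw [neg_neg, ← h i, ← h j] at h2
    exact h2.unique hc3 hc1 ((hb i j).conj hz n)
  have hanti : ∀ i j, b j i = -b i j := fun i j => (hb j i).unique hc3 hc1 ((hb i j).flip hc3)
  have hd : ∀ i, b i i = 0 := fun i => (hb i i).unique hc3 hc1 (by show _ = _; rw [zp_zero, one_mul])
  have halt : ∀ i j, altOf (b 0 1) (b 0 2) (b 0 3) (b 1 2) (b 1 3) (b 2 3) i j = b i j := by
    intro i j
    fin_cases i <;> fin_cases j <;> simp [altOf, hd, hanti 0 1, hanti 0 2, hanti 0 3, hanti 1 2, hanti 1 3, hanti 2 3]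
  obtain ⟨b01, b02, b03, b12, b13, b23⟩ := alt_none (b 0 1) (b 0 2) (b 0 3) (b 1 2) (b 1 3) (b 2 3)
    (decide_eq_true fun i j => by simp only [halt]; exact hinv n₁ _ f₁ hf₁ i j)
    (decide_eq_true fun i j => by simp only [halt]; exact hinv n₂ _ f₂ hf₂ i j)
  have hb0 : ∀ i j, b i j = 0 := fun i j => by
    rw [← halt, b01, b02, b03, b12, b13, b23]
    fin_cases i <;> fin_cases j <;> rfl
  have hcomm : ∀ i j, Commute (e i) (e j) := fun i j => by
    have := hb i j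
    rw [hb0] at this
    exact this.trans (by rw [zp_zero, one_mul])
  -- the cubes
  have hg : ∀ i, ∃ t, e i ^ 3 = zp c t := fun i => hker _ (by rw [map_pow, he, hE3])
  choose g hg using hg
  have hginv : ∀ j, ∑ i, matOf mA1 i j * g i = g j := fun j => by
    refine zp_inj hc3 hc1 ?_
    rw [← W_cube hc3 hcomm hg]
    have h := congrArg (· ^ 3) (hf₁ j)
    simp only [conj_pow, hg j, (show Commute (W e fun i => matOf mA1 i j) (zp c (f₁ j)) from (zp_comm hz _ _).symm).mul_pow,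
      zp_nat_mul hc3, show ((3 : ℕ) : ZMod 3) = 0 from rfl, zero_mul, zp_zero, mul_one] at h
    rw [← zp_comm hz (g j) n₁, mul_inv_cancel_right] at h
    exact h.symm
  have hg4 : ![g 0, g 1, g 2, g 3] = g := by funext i; fin_cases i <;> rfl
  obtain ⟨g0, g1, g2, g3⟩ := cube_none (g 0) (g 1) (g 2) (g 3) (by rw [hg4]; exact hginv)
  -- the shift
  obtain ⟨a₀, a₁, a₂, a₃, ha⟩ := shift_solve (f₁ 0) (f₁ 1) (f₁ 2) (f₁ 3)
  set a := ![a₀, a₁, a₂, a₃]
  have hf4 : ![f₁ 0, f₁ 1, f₁ 2, f₁ 3] = f₁ := by funext i; fin_cases i <;> rfl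
  rw [hf4] at ha
  have hshift : ∀ (n : L) (A : (Fin 4 → Fin 4 → ZMod 3)) (f : Fin 4 → ZMod 3),
      (∀ j, n * e j * n⁻¹ = W e (fun i => A i j) * zp c (f j)) → ∀ j, n * (e j * zp c (a j)) * n⁻¹ =
        W (fun i => e i * zp c (a i)) (fun i => A i j) * zp c (f j + a j - ∑ i, A i j * a i) := fun n A f h j => by
    rw [W_mul_zp hc3 hz, mul_assoc (W e _), ← zp_add hc3, add_sub_cancel, zp_add hc3, ← mul_assoc (W e _), ← h j,
      mul_assoc (n * e j), ← zp_comm hz (a j) n⁻¹]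
    group
  refine ⟨c, n₁, n₂, fun i => e i * zp c (a i), fun j => f₂ j + a j - ∑ i, matOf mA2 i j * a i,
    hπc, hc1, hc3, hz, hker, fun i => ?_, fun i j => ?_, fun i => ?_, fun j => ?_, fun j => hshift n₂ _ f₂ hf₂ j⟩
  · show (e i * zp c (a i)) ^ 3 = 1
    rw [(show Commute (e i) (zp c (a i)) from (zp_comm hz _ _).symm).mul_pow, zp_nat_mul hc3, hg i,
      show ((3 : ℕ) : ZMod 3) = 0 from rfl, zero_mul, zp_zero, mul_one]
    fin_cases i <;> simp [g0, g1, g2, g3, zp_zero]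
  · show Commute (e i * zp c (a i)) (e j * zp c (a j))
    have hzc : ∀ t x, Commute (zp c t) x := fun t x => zp_comm hz t x
    exact ((hcomm i j).mul_right (hzc _ _).symm).mul_left ((hzc _ _).mul_right (hzc _ _))
  · show π (e i * zp c (a i)) = E43 i
    rw [map_mul, hπzp, he, mul_one]
  · rw [hshift n₁ _ f₁ hf₁ j, ha j, sub_self, zp_zero, mul_one]

end Cfsg.Agent.Spor.LargeFischer
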