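import Cfsg.Agent.Lib.Spor.LargeFischer.ExtFacts

/-!
Two elements of order three in the stabiliser of the first vector of the long orbit with product of fourth power one
and a further relation: the vector is a sum of double commutators of vectors perpendicular to it.
-/

set_option autoImplicit false
set_option maxRecDepth 100000
set_option linter.style.haveILetI false
set_option maxHeartbeats 1000000

open Cfsg Cfsg.Agent.Classical Cfsg.Agent.Spor.Cos Matrix Equiv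
open Cfsg.Agent.Spor.USixTwo (K4 vecOf)
open Cfsg.Agent.Spor.U62U43 (cover62)

namespace Cfsg.Agent.Spor.LargeFischer

/-- The two classes of permutations of order three. -/
def rPer : ℕ → Perm (Fin 6)
  | 0 => swap 3 4 * swap 4 5
  | _ => swap 0 1 * swap 1 2 * (swap 3 4 * swap 4 5)

/-- The list of values of a permutation. -/
def lst (σ : Perm (Fin 6)) : List ℕ := List.ofFn fun i => (σ i).1

theorem perm_classes : ∀ σ : Perm (Fin 6), σ ^ 3 = 1 →
    σ = 1 ∨ ∃ τ : Perm (Fin 6), (τ * σ = rPer 0 * τ ∨ τ * σ = rPer 1 * τ) ∧ Perm.sign τ = 1 := by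
  decide +kernel

theorem rPer_lst : lst (rPer 0) = rPerm.getD 0 [] ∧ lst (rPer 1) = rPerm.getD 1 [] := by decide +kernel

theorem partners_zero : ∀ σ : Perm (Fin 6), σ ^ 3 = 1 →
    (rPer 0 * σ) ^ 4 ≠ 1 ∨ (rPer 0 * rPer 0 * σ) ^ 5 ≠ 1 ∨ lst σ ∈ bPerm 0 := by
  decide +kernel

theorem partners_one : ∀ σ : Perm (Fin 6), σ ^ 3 = 1 →
    (rPer 1 * σ) ^ 4 ≠ 1 ∨ (rPer 1 * rPer 1 * σ) ^ 5 ≠ 1 ∨ lst σ ∈ bPerm 1 := by
  decide +kernel

theorem perm_partners : ∀ r < 2, lst (rPer r) = rPerm.getD r [] ∧ ∀ σ : Perm (Fin 6), σ ^ 3 = 1 → (rPer r * σ) ^ 4 = 1 →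
    (rPer r * rPer r * σ) ^ 5 = 1 → lst σ ∈ bPerm r := fun r hr => by
  interval_cases r
  · exact ⟨rPer_lst.1, fun σ h h4 h5 => ((partners_zero σ h).resolve_left (not_not.2 h4)).resolve_left (not_not.2 h5)⟩
  · exact ⟨rPer_lst.2, fun σ h h4 h5 => ((partners_one σ h).resolve_left (not_not.2 h4)).resolve_left (not_not.2 h5)⟩

theorem bPerm_len : ∀ r < 2, (bPerm r).length = 18 := by decide

theorem lst_inj {σ τ : Perm (Fin 6)} (h : lst σ = lst τ) : σ = τ :=
  Equiv.ext fun i => Fin.ext (congrFun (List.ofFn_injective h) i)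

variable {k : ℕ}

theorem app_single : ∀ (l : List ℕ), l.length = 12 → ∀ b < 12, app l (2 ^ b) = l.getD b 0 := fun l hl b hb => by
  rcases l with _ | ⟨a0, _ | ⟨a1, _ | ⟨a2, _ | ⟨a3, _ | ⟨a4, _ | ⟨a5, _ | ⟨a6, _ | ⟨a7, _ | ⟨a8, _ | ⟨a9, _ | ⟨a10, _ | ⟨a11, _ | ⟨a12, _⟩⟩⟩⟩⟩⟩⟩⟩⟩⟩⟩⟩⟩ <;>
    simp at hl
  interval_cases b <;> simp [app]

/-- A word with tabled images. -/
theorem img_word (hk : k < 3) {w l : List ℕ} (h : Ext.chkImg (dat k) w l = true) :
    ev (kgen k) w ∈ stab k (LargeFischer.rep k 2) ∧ (∀ x ∈ l, x < 4096) ∧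
      (∀ c < 4096, ev (kgen k) w • vecOf c = vecOf (app l c)) ∧
      ∀ hm : ev (kgen k) w ∈ stab k (LargeFischer.rep k 2),
        lst (permB hk ⟨_, hm⟩) = Ext.permI (dat k) l := by
  simp only [Ext.chkImg, Bool.and_eq_true, List.all_eq_true, List.mem_range, Nat.beq_eq, Nat.blt_eq] at h
  obtain ⟨⟨⟨⟨hw, hfix⟩, hl⟩, hlt⟩, hi⟩ := h
  have hact : ∀ c < 4096, ev (kgen k) w • vecOf c = vecOf (app l c) := fun c hc => ev_app hk hw hl hi hc
  refine ⟨?_, hlt, hact, fun hm => ?_⟩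
  · rw [rep_two, mem_stab]
    exact ⟨word_mem hk _, by rw [(word_act hk _ hw _ (v2_lt k)).1, hfix]⟩
  · refine List.ext_getElem (by simp [lst, Ext.permI]) fun i h1 h2 => ?_
    have hi6 : i < 6 := by simpa [lst] using h1
    simp only [lst, Ext.permI, List.getElem_ofFn, List.getElem_map, List.getElem_range, permB_val]
    obtain ⟨hrep, -, -, -⟩ := blk_facts hk
    show blkV k (ev (kgen k) w • vecOf _) = _
    rw [hact _ (hrep i hi6).1, blkV, enc6_vecOf (app_lt hlt _)]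

theorem pairs_facts (hk : k < 3) : ∀ r < 2, Ext.chkImg (dat k) ((ext k).rW.getD r []) ((ext k).rImg.getD r []) = true ∧
    Ext.permI (dat k) ((ext k).rImg.getD r []) = rPerm.getD r [] ∧
    ∀ i < 18, Ext.chkImg (dat k) (((ext k).bW.getD r []).getD i []) (((ext k).bImg.getD r []).getD i []) = true ∧
      Ext.permI (dat k) (((ext k).bImg.getD r []).getD i []) = (bPerm r).getD i [] := by
  have h := (xfacts hk).2.2.2.2.2.1
  simp only [Ext.chkPairs, Bool.and_eq_true, List.all_eq_true, List.mem_range, beq_iff_eq] at h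
  exact fun r hr => ⟨(h r hr).1.1, (h r hr).1.2, fun i hi => (h r hr).2 i hi⟩

theorem coset_of_perm (hk : k < 3) {w l : List ℕ} (h : Ext.chkImg (dat k) w l = true) {σ : Perm (Fin 6)}
    (hl : Ext.permI (dat k) l = lst σ) (x : stab k (LargeFischer.rep k 2)) (hx : permB hk x = σ) :
    ∃ j < 16, ∀ c < 4096, x.1 • vecOf c = vecOf (app l ((ext k).kap j c)) := by
  obtain ⟨hm, -, hact, hperm⟩ := img_word hk h
  have hp : permB hk (⟨_, hm⟩⁻¹ * x) = 1 := by
    rw [map_mul, map_inv, hx, lst_inj ((hperm hm).trans hl), inv_mul_cancel]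
  obtain ⟨j, hj, e⟩ := exists_kel hk _ hp
  refine ⟨j, hj, fun c hc => ?_⟩
  have e' : x.1 = ev (kgen k) w * kel k j := by
    rw [← e, Subgroup.coe_mul, Subgroup.coe_inv, mul_inv_cancel_left]
  rw [e', mul_smul, kel_act hk hj hc, hact _ (kap_lt hk hj c)]

/-- Twice the difference from the identity. -/
def sq2 (x : SUV) (u : Fin 6 → K4) : Fin 6 → K4 := x • (x • u + u) + (x • u + u)

theorem sq2_code {x : SUV} {f : ℕ → ℕ} (hf : ∀ c < 4096, x • vecOf c = vecOf (f c)) (hlt : ∀ c, f c < 4096) {t : ℕ}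
    (ht : t < 4096) : sq2 x (vecOf t) = vecOf (Ext.sqd f t) := by
  have h1 : f t ^^^ t < 4096 := Nat.xor_lt_two_pow (n := 12) (hlt t) ht
  rw [sq2, Ext.sqd, hf t ht, ← vecOf_xor, hf _ h1, ← vecOf_xor]

theorem sq2_conj (t x : SUV) (u : Fin 6 → K4) : sq2 (t * x * t⁻¹) (t • u) = t • sq2 x u := by
  simp only [sq2, mul_smul, inv_smul_smul, ← smul_add']

/-- The main fact. -/
theorem sum_double (hk : k < 3) (A B : stab k (LargeFischer.rep k 2)) (hsq : ∀ j < 16, kel k j * kel k j = 1)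
    (hA : A ^ 3 = 1) (hA1 : A ≠ 1) (hB : B ^ 3 = 1) (h4 : (A * B) ^ 4 = 1) (h5 : (A * A * B) ^ 5 = 1) :
    ∃ u w, T6 u (LargeFischer.rep k 2) = 0 ∧ T6 w (LargeFischer.rep k 2) = 0 ∧
      sq2 A.1 u + sq2 B.1 w = LargeFischer.rep k 2 := by
  have hσ : permB hk A ^ 3 = 1 := by rw [← map_pow, hA, map_one]
  rcases perm_classes _ hσ with h1 | ⟨τ, hτ, hsign⟩
  · exfalso
    obtain ⟨j, hj, e⟩ := exists_kel hk A h1
    refine hA1 (Subtype.ext ?_)
    have h3 : kel k j * (kel k j * kel k j) = 1 := by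
      rw [← e]
      have := congrArg Subtype.val hA
      rwa [Subgroup.coe_pow, pow_three] at this
    rw [hsq j hj, mul_one] at h3
    rw [e, h3]; rfl
  obtain ⟨r, hr, hrτ⟩ : ∃ r < 2, τ * permB hk A = rPer r * τ := by
    rcases hτ with h | h
    exacts [⟨0, by norm_num, h⟩, ⟨1, by norm_num, h⟩]
  obtain ⟨t, ht⟩ : τ ∈ (permB hk).range := by
    rw [(six_blocks hk).1, Perm.mem_alternatingGroup]; exact hsign
  obtain ⟨hrl, hpart⟩ := perm_partners r hr
  obtain ⟨hrw, hrp, hbw⟩ := pairs_facts hk r hr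
  have hpA : permB hk (t * A * t⁻¹) = rPer r := by
    rw [map_mul, map_mul, map_inv, ht, hrτ, mul_inv_cancel_right]
  obtain ⟨j, hj, hja⟩ := coset_of_perm hk hrw (hrp.trans hrl.symm) _ hpA
  have hpB : lst (permB hk (t * B * t⁻¹)) ∈ bPerm r := by
    refine hpart _ ?_ ?_ ?_
    · rw [← map_pow, conj_pow, hB, mul_one, mul_inv_cancel, map_one]
    · rw [← hpA, ← map_mul, ← map_pow, show t * A * t⁻¹ * (t * B * t⁻¹) = t * (A * B) * t⁻¹ by group, conj_pow, h4,
        mul_one, mul_inv_cancel, map_one]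
    · rw [← hpA, ← map_mul, ← map_mul, ← map_pow,
        show t * A * t⁻¹ * (t * A * t⁻¹) * (t * B * t⁻¹) = t * (A * A * B) * t⁻¹ by group, conj_pow, h5,
        mul_one, mul_inv_cancel, map_one]
  obtain ⟨i, hi, hie⟩ := List.getElem_of_mem hpB
  have hi18 : i < 18 := bPerm_len r hr ▸ hi
  obtain ⟨j', hj', hjb⟩ := coset_of_perm hk (hbw i hi18).1
    ((hbw i hi18).2.trans ((List.getD_eq_getElem _ _ hi).trans hie)) _ rfl
  have hw := (xfacts hk).2.2.2.2.2.2.1 (r * 4608 + j * 288 + i * 16 + j') (by omega)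
  simp only [Ext.chkWit, Bool.and_eq_true, Bool.not_eq_true', Nat.beq_eq] at hw
  rw [show (r * 4608 + j * 288 + i * 16 + j') / 4608 = r by omega,
    show (r * 4608 + j * 288 + i * 16 + j') / 288 % 16 = j by omega,
    show (r * 4608 + j * 288 + i * 16 + j') / 16 % 18 = i by omega,
    show (r * 4608 + j * 288 + i * 16 + j') % 16 = j' by omega] at hw
  set W := rd 24 (ext k).wit (r * 4608 + j * 288 + i * 16 + j')
  obtain ⟨⟨hu, hv⟩, he⟩ := hw
  have hu' : W % 4096 < 4096 := Nat.mod_lt _ (by norm_num)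
  have hv' : W / 4096 < 4096 := by
    have : W < 2 ^ 24 := Nat.mod_lt _ (by norm_num)
    omega
  have htv : t.1⁻¹ • LargeFischer.rep k 2 = LargeFischer.rep k 2 := (mem_stab.1 (t⁻¹).2).2
  have hperp : ∀ c, trC c (dat k).v2 = false → T6 (t.1⁻¹ • vecOf c) (LargeFischer.rep k 2) = 0 := fun c hc => by
    refine ((congrArg (T6 _) htv.symm).trans (T6_smul _ _ _)).trans ?_
    rw [rep_two]
    exact (T6_code_zero _ _).2 hc
  refine ⟨t.1⁻¹ • vecOf (W % 4096), t.1⁻¹ • vecOf (W / 4096), hperp _ hu, hperp _ hv, MulAction.injective t.1 ?_⟩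
  show t.1 • _ = t.1 • _
  rw [smul_add', ← sq2_conj, ← sq2_conj, smul_inv_smul, smul_inv_smul, (mem_stab.1 t.2).2]
  have hlA := (img_word hk hrw).2.1
  have hlB := (img_word hk (hbw i hi18).1).2.1
  rw [show t.1 * A.1 * t.1⁻¹ = (t * A * t⁻¹).1 from rfl, show t.1 * B.1 * t.1⁻¹ = (t * B * t⁻¹).1 from rfl,
    sq2_code (f := (ext k).cosR r j) hja (fun c => app_lt hlA _) hu',
    sq2_code (f := (ext k).cosB r i j') hjb (fun c => app_lt hlB _) hv', ← vecOf_xor, he, rep_two]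

end Cfsg.Agent.Spor.LargeFischer
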