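import Cfsg.Agent.Lib.Spor.LargeFischer.ScalarCent
import Cfsg.Agent.Lib.Spor.LargeFischer.PairCoset

/-!
The centraliser of the scalar element has no complement to the centre: with one, two elements of order three would
commute the conjugate group into a piece missing the centre, while seen from the conjugate they do not.
-/

set_option autoImplicit false
set_option maxRecDepth 100000
set_option linter.style.haveILetI false
set_option linter.unusedSectionVars false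
set_option maxHeartbeats 1000000

open Cfsg Cfsg.Agent.Classical Cfsg.Agent.Spor.Cos Matrix
open Cfsg.Agent.Spor.USixTwo (K4 vecOf)
open Cfsg.Agent.Spor.U62U43 (cover62)

namespace Cfsg.Agent.Spor.LargeFischer

variable {k : ℕ}

/-- A member of the chosen pair. -/
noncomputable def pel (k e : ℕ) : SUV := ev (kgen k) ((ext k).pW.getD e [])

theorem pImg_ne : ∀ k < 3, (ext k).pImg.getD 0 [] ≠ (List.range 12).map (2 ^ ·) := by decide +kernel

theorem pair_facts (hk : k < 3) :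
    (∀ e < 2, pel k e ∈ stab k (LargeFischer.rep k 2) ∧ ((ext k).pImg.getD e []).length = 12 ∧
      (∀ c < 4096, pel k e • vecOf c = vecOf ((ext k).pAp e c)) ∧ (∀ c, (ext k).pAp e c < 4096) ∧ pel k e ^ 3 = 1 ∧
      ∀ o < 16, ((ext k).pConj.getD e []).getD o 0 < 16 ∧
        pel k e * kel k o = kel k (((ext k).pConj.getD e []).getD o 0) * pel k e) ∧
    (pel k 0 * pel k 1) ^ 4 = 1 ∧ (pel k 0 * pel k 0 * pel k 1) ^ 5 = 1 ∧ pel k 0 ≠ 1 ∧
    ∀ ε < 2, ∀ j < 16, ((ext k).uj.getD ε []).getD j 0 < 4096 ∧ ∀ i < 6,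
      trC (((ext k).uj.getD ε []).getD j 0) ((ext k).kap j ((ext k).sb i)) =
        (!Nat.beq ((ext k).kap j ((ext k).sb i)) ((ext k).sb i) &&
          Nat.beq ((ε + betaC (dat k).v2 ((ext k).sb i)) % 2) 1) := by
  have h := (xfacts hk).2.2.2.2.2.2.2.1
  simp only [Ext.chkPair, Bool.and_eq_true, List.all_eq_true, List.mem_range, Nat.blt_eq, Nat.beq_eq,
    beq_iff_eq] at h
  obtain ⟨⟨hp, hrel⟩, huj⟩ := h
  have lt16 : ∀ {l : List ℕ} {o : ℕ}, l.getD o 16 < 16 → l.getD o 0 < 16 := fun {l o} h => by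
    rcases Nat.lt_or_ge o l.length with h' | h'
    · rw [List.getD_eq_getElem _ _ h'] at h ⊢; exact h
    · rw [List.getD_eq_default _ _ h'] at h; omega
  have hfun : ∀ e < 2, (∀ c < 4096, pel k e • vecOf c = vecOf ((ext k).pAp e c)) ∧ ∀ c, (ext k).pAp e c < 4096 :=
    fun e he => ⟨(img_word hk (hp e he).1.1).2.2.1, fun c => app_lt (img_word hk (hp e he).1.1).2.1 c⟩
  have hlen : ∀ e < 2, ((ext k).pImg.getD e []).length = 12 := fun e he => by
    have h' := (hp e he).1.1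
    simp only [Ext.chkImg, Bool.and_eq_true, Nat.beq_eq] at h'
    exact h'.1.1.2
  have hp2 : ∀ b < 12, 2 ^ b < 4096 := fun b hb => Nat.pow_lt_pow_right (by norm_num : 1 < 2) hb
  refine ⟨fun e he => ⟨(img_word hk (hp e he).1.1).1, hlen e he, (hfun e he).1, (hfun e he).2, ?_, fun o ho => ?_⟩,
    ?_, ?_, ?_, fun ε hε j hj => ?_⟩
  · refine ext_suv fun b hb => ?_
    rw [pow_three, mul_smul, mul_smul, (hfun e he).1 _ (hp2 b hb), (hfun e he).1 _ ((hfun e he).2 _),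
      (hfun e he).1 _ ((hfun e he).2 _), (hp e he).1.2 b hb, one_smul]
  · obtain ⟨h1, h2⟩ := (hp e he).2 o ho
    refine ⟨lt16 h1, ext_suv fun b hb => ?_⟩
    rw [mul_smul, mul_smul, kel_act hk ho (hp2 b hb), (hfun e he).1 _ (kap_lt hk ho _), (hfun e he).1 _ (hp2 b hb),
      kel_act hk (lt16 h1) ((hfun e he).2 _), h2 b hb]
  · refine ext_suv fun b hb => ?_
    have hstep : ∀ c < 4096, (pel k 0 * pel k 1) • vecOf c = vecOf ((ext k).pAp 0 ((ext k).pAp 1 c)) := fun c hc => by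
      rw [mul_smul, (hfun 1 (by norm_num)).1 _ hc, (hfun 0 (by norm_num)).1 _ ((hfun 1 (by norm_num)).2 _)]
    have hl := (hfun 0 (by norm_num)).2
    rw [show (4 : ℕ) = 1 + 1 + 1 + 1 from rfl, pow_succ, pow_succ, pow_succ, pow_one, mul_smul, mul_smul, mul_smul,
      hstep _ (hp2 b hb), hstep _ (hl _), hstep _ (hl _), hstep _ (hl _), one_smul]
    exact congrArg vecOf (hrel b hb).1
  · refine ext_suv fun b hb => ?_
    have hl := (hfun 0 (by norm_num)).2
    have hstep : ∀ c < 4096, (pel k 0 * pel k 0 * pel k 1) • vecOf c =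
        vecOf ((ext k).pAp 0 ((ext k).pAp 0 ((ext k).pAp 1 c))) := fun c hc => by
      rw [mul_smul, mul_smul, (hfun 1 (by norm_num)).1 _ hc, (hfun 0 (by norm_num)).1 _ ((hfun 1 (by norm_num)).2 _),
        (hfun 0 (by norm_num)).1 _ (hl _)]
    rw [show (5 : ℕ) = 1 + 1 + 1 + 1 + 1 from rfl, pow_succ, pow_succ, pow_succ, pow_succ, pow_one, mul_smul, mul_smul,
      mul_smul, mul_smul, hstep _ (hp2 b hb), hstep _ (hl _), hstep _ (hl _), hstep _ (hl _), hstep _ (hl _), one_smul]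
    exact congrArg vecOf (hrel b hb).2
  · intro h1
    refine pImg_ne k hk (List.ext_getElem ?_ fun b h2 h3 => ?_)
    · rw [hlen 0 (by norm_num)]; rfl
    · have hb : b < 12 := hlen 0 (by norm_num) ▸ h2
      have e := (hfun 0 (by norm_num)).1 _ (hp2 b hb)
      rw [h1, one_smul] at e
      have e' := vecOf_inj (hp2 b hb) ((hfun 0 (by norm_num)).2 _) e
      rw [Ext.pAp, app_single _ (hlen 0 (by norm_num)) b hb] at e'
      rw [← List.getD_eq_getElem _ 0 h2, ← e', List.getElem_map, List.getElem_range]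
  · obtain ⟨h1, h2⟩ := huj ε hε j hj
    refine ⟨?_, h2⟩
    rcases Nat.lt_or_ge j ((ext k).uj.getD ε []).length with h' | h'
    · rw [List.getD_eq_getElem _ _ h'] at h1 ⊢; exact h1
    · rw [List.getD_eq_default _ _ h'] at h1; omega

theorem sb_inSO (hk : k < 3) {i : ℕ} (hi : i < 6) : (ext k).inSO ((ext k).sb i) = true := by
  obtain ⟨hsl, -, -, -⟩ := (base_facts hk).2.1
  have := (xfacts hk).2.2.2.1.2 (2 ^ i) (by
    calc 2 ^ i < 2 ^ 6 := Nat.pow_lt_pow_right (by norm_num) hi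
      _ = 64 := rfl)
  rcases hl : (ext k).sob with _ | ⟨a0, _ | ⟨a1, _ | ⟨a2, _ | ⟨a3, _ | ⟨a4, _ | ⟨a5, _ | ⟨a6, _⟩⟩⟩⟩⟩⟩⟩ <;>
    simp [hl] at hsl
  rw [hl] at this
  simp only [Ext.sb, hl]
  interval_cases i <;> simpa [app] using this

variable {G : Type*} [Group G] [Finite G] {z : G} {Q : Subgroup (Subgroup.centralizer ({z} : Set G))}
  [hQn : Q.Normal] (m : Model z Q) {g : G} {s : Q} {x₀ : Subgroup.centralizer ({z} : Set G)}
  {K : Subgroup (Subgroup.centralizer ({z} : Set G))}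
  (hs : gv s = g * z * g⁻¹) (hne : g * z * g⁻¹ ≠ z) (hrep : m.rep s = LargeFischer.rep m.k 2)
  (hx : m.Scalar x₀) (hK : ∀ c ∈ K, c ∈ m.M ∧ c * x₀ = x₀ * c)
  (hKQ : ∀ c ∈ K, c ∈ Q → c = 1)

include m hs hne hrep

theorem kel_sq {j : ℕ} (hj : j < 16) : kel m.k j * kel m.k j = 1 := by
  obtain ⟨d, hd, e⟩ := (linear_part m hs hne hrep).2 j hj
  rw [← e, ← map_mul, m.lin_eq_one]
  rcases (m.ext.map_conj g).sq _ (mem_Es.1 hd) with e' | e'
  · rw [show ((d * d : m.M) : Subgroup.centralizer ({z} : Set G)) = 1 from Subtype.ext e']; exact one_mem _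
  · rw [show ((d * d : m.M) : Subgroup.centralizer ({z} : Set G)) = s from Subtype.ext (e'.trans hs.symm)]; exact s.2

include hx hK hKQ

omit hs hne hrep in
theorem K_ext {a b : Subgroup.centralizer ({z} : Set G)} (ha : a ∈ K) (hb : b ∈ K)
    (h : m.lin ⟨a, (hK a ha).1⟩ = m.lin ⟨b, (hK b hb).1⟩) : a = b := by
  refine inv_mul_eq_one.1 (hKQ _ (mul_mem (inv_mem ha) hb) ((m.lin_eq_one
    ((⟨a, (hK a ha).1⟩ : m.M)⁻¹ * ⟨b, (hK b hb).1⟩)).1 (by rw [map_mul, map_inv, h, inv_mul_cancel])))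

/-- The coordinates of a commutator are listed. -/
theorem comm_coords {e : ℕ} (he : e < 2) {a : Subgroup.centralizer ({z} : Set G)} (ha : a ∈ K)
    (hal : m.lin ⟨a, (hK a ha).1⟩ = pel m.k e)
    (hsec : ∀ j < 16, ∃ c, ∃ hc : c ∈ K, m.lin ⟨c, (hK c hc).1⟩ = kel m.k j)
    {d : Subgroup.centralizer ({z} : Set G)} (hd : d ∈ Es Q g) (hdM : d ∈ m.M) :
    ∃ (r : Q) (p : ℕ) (c : Subgroup.centralizer ({z} : Set G)) (hc : c ∈ K), p < 16 ∧
      m.lin ⟨c, (hK c hc).1⟩ = kel m.k p ∧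
      a * d * a⁻¹ * d⁻¹ = (r : Subgroup.centralizer ({z} : Set G)) * c ∧
      ((((ext m.k).comms.getD (Model.zc x₀ s).val []).getD e []).contains
        (enc6 (m.rep r) + 4096 * (Model.zc x₀ r).val + 8192 * p)) = true := by
  obtain ⟨hpf, -, -, -, huj⟩ := pair_facts m.hk
  obtain ⟨-, -, hpa, hpl, -, hpc⟩ := hpf e he
  obtain ⟨-, ⟨-, hsa, hs0, -⟩, -, -, hmul⟩ := base_facts m.hk
  obtain ⟨j, hj, hdj⟩ := (linear_part m hs hne hrep).1 ⟨d, hdM⟩ hd
  obtain ⟨kj, hkj, hkjl⟩ := hsec j hj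
  have hq : d * kj⁻¹ ∈ Q := (m.lin_eq_one ((⟨d, hdM⟩ : m.M) * (⟨kj, (hK _ hkj).1⟩ : m.M)⁻¹)).1 (by
    rw [map_mul, map_inv, hdj, hkjl, mul_inv_cancel])
  set q : Q := ⟨d * kj⁻¹, hq⟩ with hqd
  set u := enc6 (m.rep q) with hu
  have hactk : ∀ {c : Subgroup.centralizer ({z} : Set G)} (hc : c ∈ K) {x : SUV}
      (_ : m.lin ⟨c, (hK c hc).1⟩ = x) (w : Q), m.rep (qconj c w) = x • m.rep w := fun {c} hc {x} h w => by
    rw [← h, ← m.lin_act, m.act_rep]
  -- the conditions on the shadow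
  set ε := (Model.zc x₀ s).val with hε
  have hεlt : ε < 2 := ZMod.val_lt _
  have hzero : (ext m.k).inSO (u ^^^ ((ext m.k).uj.getD ε []).getD j 0) = true := by
    refine inSO_of_T6 fun i hi => ?_
    set u' := ((ext m.k).uj.getD ε []).getD j 0 with hu'
    have hT : ∀ l < 6, T6 (vecOf (u ^^^ u')) (vecOf ((ext m.k).kap j ((ext m.k).sb l))) = 0 := by
      intro l hl
      obtain ⟨w, hw⟩ := m.rep_surj (vecOf ((ext m.k).sb l))
      have hwP : gv w ∈ PG Q g := (inter_iff m hs hne hrep w).2 (by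
        rw [hw, enc6_vecOf (sb_lt m.hk l)]; exact sb_inSO m.hk hl)
      have hconj : qconj d w = qconj (q : Subgroup.centralizer ({z} : Set G)) (qconj kj w) := by
        rw [Model.qconj_qconj, hqd]; show qconj d w = qconj (d * kj⁻¹ * kj) w; rw [inv_mul_cancel_right]
      have hr : m.rep (qconj kj w) = vecOf ((ext m.k).kap j ((ext m.k).sb l)) := by
        rw [hactk hkj hkjl, hw, kel_act m.hk hj (sb_lt m.hk l)]
      have hTu : T6 (vecOf u) (vecOf ((ext m.k).kap j ((ext m.k).sb l))) =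
          if (ext m.k).kap j ((ext m.k).sb l) = (ext m.k).sb l then 0
          else Model.zc x₀ s + bet (LargeFischer.rep m.k 2) (vecOf ((ext m.k).sb l)) := by
        rcases moved m hs hne hrep hd hwP with h | h
        · rw [hconj, m.conj_Q] at h
          have h1 := congrArg m.rep h
          rw [m.rep_mul_zp, hr, hw] at h1
          have h2 := congrArg (Model.zc x₀) h
          rw [m.zc_mul_zp hx, m.zc_conj hx (hK _ hkj).2, hr, ← vecOf_enc6 (m.rep q)] at h2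
          rw [if_pos (vecOf_inj (kap_lt m.hk hj _) (sb_lt m.hk l) h1)]
          exact add_eq_left.1 h2
        · rw [hconj, m.conj_Q] at h
          have h1 := congrArg m.rep h
          rw [m.rep_mul_zp, hr, m.rep_mul, hw, hrep] at h1
          have h2 := congrArg (Model.zc x₀) h
          rw [m.zc_mul_zp hx, m.zc_conj hx (hK _ hkj).2, hr, ← vecOf_enc6 (m.rep q), m.zc_mul hx, hw, hrep] at h2
          rw [if_neg]
          · refine add_left_cancel (a := Model.zc x₀ w) (h2.trans ?_)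
            ring
          · intro e0
            rw [e0] at h1
            have h0 : LargeFischer.rep m.k 2 = 0 := add_eq_right.1 h1.symm
            rcases lab_facts m.hk (LargeFischer.rep m.k 2) with ⟨e', -⟩ | ⟨-, e', -⟩
            · rw [(rep_first _ m.hk).2] at e'; omega
            · exact e' h0
      rw [vecOf_xor, T6_add_left, hTu, T6_code u', (huj ε hεlt j hj).2 l hl, rep_two, bet_code]
      by_cases e0 : (ext m.k).kap j ((ext m.k).sb l) = (ext m.k).sb l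
      · rw [if_pos e0, e0, show Nat.beq ((ext m.k).sb l) ((ext m.k).sb l) = true from (by simp), zero_add]
        rfl
      · rw [if_neg e0, show Nat.beq ((ext m.k).kap j ((ext m.k).sb l)) ((ext m.k).sb l) = false from
          Bool.eq_false_iff.2 fun h => e0 (Nat.eq_of_beq_eq_true h), hε]
        generalize Model.zc x₀ s = a
        generalize betaC (dat m.k).v2 ((ext m.k).sb l) = b
        rw [← ZMod.natCast_mod b 2, Nat.add_mod a.val b 2]
        have hb : b % 2 < 2 := Nat.mod_lt _ (by norm_num)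
        generalize b % 2 = c at hb ⊢
        revert a
        interval_cases c <;> decide
    have h0 : (ext m.k).kap j ((ext m.k).sb 0) = (ext m.k).sb 0 := by
      rw [hs0]
      refine vecOf_inj (kap_lt m.hk hj _) (v2_lt _) ?_
      rw [← kel_act m.hk hj (v2_lt _), ← rep_two]
      exact (mem_stab.1 (kel_stab m.hk hj).1).2
    have hv := hT 0 (by norm_num)
    rw [h0, hs0] at hv
    rcases (inSO_iff m.hk (sb_lt m.hk i)).1 (sb_inSO m.hk hi) j hj with e0 | e0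
    · have := hT i hi; rwa [e0] at this
    · have := hT i hi
      rwa [e0, vecOf_xor ((ext m.k).sb i), T6_add_right, hv, add_zero] at this
  obtain ⟨t, ht, hte⟩ := inSO_enum m.hk (Nat.xor_lt_two_pow (n := 12) (enc6_lt _) (huj ε hεlt j hj).1) hzero
  have hut : u = ((ext m.k).uj.getD ε []).getD j 0 ^^^ app (ext m.k).sob t := by
    rw [hte, Nat.xor_comm u, ← Nat.xor_assoc, Nat.xor_self, Nat.zero_xor]
  -- the commutator
  obtain ⟨hj', hjc⟩ := hpc j hj
  have hp : (ext m.k).cm e j < 16 := by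
    have hlt := (hmul _ hj' j hj).1
    show ((ext m.k).mul.getD _ []).getD j 0 < 16
    rcases Nat.lt_or_ge j ((ext m.k).mul.getD (((ext m.k).pConj.getD e []).getD j 0) []).length with h | h
    · rw [List.getD_eq_getElem _ _ h] at hlt ⊢; exact hlt
    · rw [List.getD_eq_default _ _ h] at hlt; omega
  set p := (ext m.k).cm e j with hpd
  obtain ⟨kp, hkp, hkpl⟩ := hsec p hp
  obtain ⟨kj', hkj', hkjl'⟩ := hsec _ hj'
  have hprod : kel m.k p * kel m.k j = kel m.k (((ext m.k).pConj.getD e []).getD j 0) := by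
    rw [hpd, show kel m.k ((ext m.k).cm e j) = _ from (kel_mul m.hk hj' hj).symm, mul_assoc,
      kel_sq m hs hne hrep hj, mul_one]
  set cc := a * d * a⁻¹ * d⁻¹
  have hccM : cc ∈ m.M := mul_mem (mul_mem (mul_mem (hK a ha).1 hdM) (inv_mem (hK a ha).1)) (inv_mem hdM)
  have hrQ : cc * kp⁻¹ ∈ Q := (m.lin_eq_one ((⟨a, (hK a ha).1⟩ : m.M) * ⟨d, hdM⟩ * (⟨a, (hK a ha).1⟩ : m.M)⁻¹ *
      (⟨d, hdM⟩ : m.M)⁻¹ * (⟨kp, (hK _ hkp).1⟩ : m.M)⁻¹)).1 (by
    simp only [map_mul, map_inv, hal, hdj, hkpl]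
    rw [hjc, mul_inv_cancel_right, ← hprod, mul_inv_cancel_right, mul_inv_cancel])
  set r : Q := ⟨cc * kp⁻¹, hrQ⟩ with hrd
  refine ⟨r, p, kp, hkp, hp, hkpl, (inv_mul_cancel_right _ _).symm, ?_⟩
  have hkk : kp * kj = a * kj * a⁻¹ := by
    refine K_ext m hx hK hKQ (mul_mem hkp hkj) (mul_mem (mul_mem ha hkj) (inv_mem ha)) ?_
    calc m.lin ⟨kp * kj, _⟩ = m.lin (⟨kp, (hK _ hkp).1⟩ * ⟨kj, (hK _ hkj).1⟩) := rfl
      _ = pel m.k e * kel m.k j * (pel m.k e)⁻¹ := by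
        rw [map_mul, hkpl, hkjl, hprod, hjc, mul_inv_cancel_right]
      _ = m.lin (⟨a, (hK a ha).1⟩ * ⟨kj, (hK _ hkj).1⟩ * (⟨a, (hK a ha).1⟩ : m.M)⁻¹) := by
        rw [map_mul, map_mul, map_inv, hal, hkjl]
      _ = _ := rfl
  have heq : r * qconj kp q = qconj a q := Subtype.ext (by
    show cc * kp⁻¹ * (kp * (d * kj⁻¹) * kp⁻¹) = a * (d * kj⁻¹) * a⁻¹
    calc cc * kp⁻¹ * (kp * (d * kj⁻¹) * kp⁻¹) = a * d * a⁻¹ * (kp * kj)⁻¹ := by
          show a * d * a⁻¹ * d⁻¹ * kp⁻¹ * (kp * (d * kj⁻¹) * kp⁻¹) = _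
          group
      _ = a * d * a⁻¹ * (a * kj * a⁻¹)⁻¹ := by rw [hkk]
      _ = _ := by group)
  have hr1 : m.rep r + m.rep (qconj kp q) = m.rep (qconj a q) := by rw [← m.rep_mul, heq]
  have hr2 : Model.zc x₀ r = bet (m.rep r) (m.rep (qconj kp q)) := by
    have h := congrArg (Model.zc x₀) heq
    rw [m.zc_mul hx, m.zc_conj hx (hK _ hkp).2, m.zc_conj hx (hK _ ha).2] at h
    revert h
    generalize Model.zc x₀ r = A
    generalize Model.zc x₀ q = B
    generalize bet (m.rep r) (m.rep (qconj kp q)) = C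
    revert A B C; decide
  have hpq : m.rep (qconj kp q) = vecOf ((ext m.k).kap p u) := by
    rw [hactk hkp hkpl, ← kel_act m.hk hp (enc6_lt _), vecOf_enc6]
  have hrep_r : m.rep r = vecOf ((ext m.k).pAp e u ^^^ (ext m.k).kap p u) := by
    rw [vecOf_xor, ← hpq, ← hpa u (enc6_lt _), hu, vecOf_enc6, ← hactk ha hal, ← hr1, add_assoc, neg_self6, add_zero]
  have hrlt : (ext m.k).pAp e u ^^^ (ext m.k).kap p u < 4096 :=
    Nat.xor_lt_two_pow (n := 12) (hpl u) (kap_lt m.hk hp u)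
  have hcode : enc6 (m.rep r) + 4096 * (Model.zc x₀ r).val + 8192 * p = (ext m.k).commC e u j := by
    rw [hr2, hpq, hrep_r, bet_code, enc6_vecOf hrlt, ZMod.val_natCast, Nat.mod_eq_of_lt]
    · rfl
    · rw [betaC]; split_ifs <;> norm_num
  rw [hcode]
  have h := (xfacts m.hk).2.2.2.2.2.2.2.2.1 (ε * 1024 + j * 64 + t) (by omega)
  simp only [Ext.chkComm, List.all_eq_true, List.mem_range] at h
  have h' := h e he
  rw [show (ε * 1024 + j * 64 + t) / 1024 = ε by omega, show (ε * 1024 + j * 64 + t) / 64 % 16 = j by omega,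
    show (ε * 1024 + j * 64 + t) % 64 = t by omega, ← hut] at h'
  exact h'

omit hs hne hrep in
/-- No complement to the centre. -/
theorem no_complement (hF : ∃ g : G, g * z * g⁻¹ ∈ QG Q ∧ g * z * g⁻¹ ≠ z)
    (hsurj : ∀ a ∈ cover62 m.k, ∃ c, ∃ hc : c ∈ K, m.lin ⟨c, (hK c hc).1⟩ = a) : False := by
  obtain ⟨g, s, s', hs, hne, hrep, hs', hne', hrep'⟩ := exists_pair m hF
  obtain ⟨hpf, h4, h5, hA1, -⟩ := pair_facts m.hk
  have hsec : ∀ j < 16, ∃ c, ∃ hc : c ∈ K, m.lin ⟨c, (hK c hc).1⟩ = kel m.k j := fun j hj =>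
    hsurj _ (mem_stab.1 (kel_stab m.hk hj).1).1
  obtain ⟨a, ha, hal⟩ := hsurj (pel m.k 0) (mem_stab.1 (hpf 0 (by norm_num)).1).1
  obtain ⟨b, hb, hbl⟩ := hsurj (pel m.k 1) (mem_stab.1 (hpf 1 (by norm_num)).1).1
  have kone : ∀ {c : Subgroup.centralizer ({z} : Set G)} (hc : c ∈ K), m.lin ⟨c, (hK c hc).1⟩ = 1 → c = 1 :=
    fun hc h => hKQ _ hc ((m.lin_eq_one ⟨_, (hK _ hc).1⟩).1 h)
  have ha3 : a ^ 3 = 1 := kone (pow_mem ha 3) (by
    rw [show (⟨a ^ 3, _⟩ : m.M) = (⟨a, (hK a ha).1⟩ : m.M) ^ 3 from rfl, map_pow, hal]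
    exact (hpf 0 (by norm_num)).2.2.2.2.1)
  have hb3 : b ^ 3 = 1 := kone (pow_mem hb 3) (by
    rw [show (⟨b ^ 3, _⟩ : m.M) = (⟨b, (hK b hb).1⟩ : m.M) ^ 3 from rfl, map_pow, hbl]
    exact (hpf 1 (by norm_num)).2.2.2.2.1)
  have hab4 : (a * b) ^ 4 = 1 := kone (pow_mem (mul_mem ha hb) 4) (by
    rw [show (⟨(a * b) ^ 4, _⟩ : m.M) = ((⟨a, (hK a ha).1⟩ : m.M) * ⟨b, (hK b hb).1⟩) ^ 4 from rfl,
      map_pow, map_mul, hal, hbl]
    exact h4)
  have hab5 : (a * a * b) ^ 5 = 1 := kone (pow_mem (mul_mem (mul_mem ha ha) hb) 5) (by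
    rw [show (⟨(a * a * b) ^ 5, _⟩ : m.M) =
      ((⟨a, (hK a ha).1⟩ : m.M) * ⟨a, (hK a ha).1⟩ * ⟨b, (hK b hb).1⟩) ^ 5 from rfl, map_pow, map_mul, map_mul, hal, hbl]
    exact h5)
  -- the two elements commute with the second centre
  have hfix : ∀ {c : Subgroup.centralizer ({z} : Set G)} (hc : c ∈ K), m.lin ⟨c, (hK c hc).1⟩ ∈ stab m.k (LargeFischer.rep m.k 2) →
      (c : G) * (g * z * g⁻¹) = g * z * g⁻¹ * c := fun {c} hc h => by
    have e : qconj c s = s := by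
      refine m.coord_inj hx ?_ (m.zc_conj hx (hK c hc).2 s)
      rw [← m.act_rep, show m.act c (m.rep s) = m.lin ⟨c, (hK c hc).1⟩ • m.rep s from m.lin_act ⟨c, (hK c hc).1⟩ _, hrep]
      exact (mem_stab.1 h).2
    have e' : (c : G) * gv s * (c : G)⁻¹ = gv s := congrArg (fun w : Q => gv w) e
    rw [hs] at e'
    exact mul_inv_eq_iff_eq_mul.1 e'
  have hfa := hfix ha (by rw [hal]; exact (hpf 0 (by norm_num)).1)
  have hfb := hfix hb (by rw [hbl]; exact (hpf 1 (by norm_num)).1)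
  -- seen from the conjugate
  have htrans : ∀ {c : Subgroup.centralizer ({z} : Set G)}, (c : G) * (g * z * g⁻¹) = g * z * g⁻¹ * c → c ^ 3 = 1 →
      ∃ c' : m.M, ((c' : Subgroup.centralizer ({z} : Set G)) : G) = g⁻¹ * c * g ∧
        m.lin c' ∈ stab m.k (LargeFischer.rep m.k 2) := fun {c} hc h3 => by
    have hz : g⁻¹ * c * g * z = z * (g⁻¹ * c * g) := by
      calc g⁻¹ * c * g * z = g⁻¹ * ((c : G) * (g * z * g⁻¹)) * g := by group
        _ = g⁻¹ * (g * z * g⁻¹ * c) * g := by rw [hc]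
        _ = _ := by group
    set cH : Subgroup.centralizer ({z} : Set G) := ⟨g⁻¹ * c * g, Subgroup.mem_centralizer_singleton_iff.2 hz⟩ with hcH
    have h3' : cH ^ 3 = 1 := by
      refine Subtype.ext ?_
      show (g⁻¹ * (c : G) * g) ^ 3 = 1
      have h3G : (c : G) ^ 3 = 1 := congrArg Subtype.val h3
      rw [show g⁻¹ * (c : G) * g = g⁻¹ * c * g⁻¹⁻¹ by rw [inv_inv], conj_pow, h3G, mul_one, mul_inv_cancel]
    have hM : cH ∈ m.M := by
      rw [show cH = cH ^ 2 * cH ^ 2 by rw [← pow_add, show 2 + 2 = 3 + 1 from rfl, pow_add, h3', one_mul, pow_one], ← pow_two]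
      exact Subgroup.sq_mem_of_index_two m.M_index _
    refine ⟨⟨cH, hM⟩, rfl, mem_stab.2 ⟨m.lin_mem _, ?_⟩⟩
    rw [← m.lin_act, ← hrep', m.act_rep]
    congr 1
    refine Subtype.ext (Subtype.ext ?_)
    show g⁻¹ * (c : G) * g * gv s' * (g⁻¹ * (c : G) * g)⁻¹ = gv s'
    rw [hs', inv_inv]
    calc g⁻¹ * (c : G) * g * (g⁻¹ * z * g) * (g⁻¹ * c * g)⁻¹ = g⁻¹ * ((c : G) * z * (c : G)⁻¹) * g := by group
      _ = _ := by rw [Subgroup.mem_centralizer_singleton_iff.1 c.2, mul_inv_cancel_right]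
  obtain ⟨a', ha', hA'⟩ := htrans hfa ha3
  obtain ⟨b', hb', hB'⟩ := htrans hfb hb3
  set A : stab m.k (LargeFischer.rep m.k 2) := ⟨m.lin a', hA'⟩ with hAd
  set B : stab m.k (LargeFischer.rep m.k 2) := ⟨m.lin b', hB'⟩ with hBd
  have hpow : ∀ (x : m.M) (c : Subgroup.centralizer ({z} : Set G)) (n : ℕ),
      ((x : Subgroup.centralizer ({z} : Set G)) : G) = g⁻¹ * c * g → c ^ n = 1 → m.lin x ^ n = 1 := fun x c n h hn => by
    rw [← map_pow, show x ^ n = 1 from ?_, map_one]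
    refine Subtype.ext (Subtype.ext ?_)
    show ((x : Subgroup.centralizer ({z} : Set G)) : G) ^ n = 1
    have hG : (c : G) ^ n = 1 := congrArg Subtype.val hn
    rw [h, show g⁻¹ * (c : G) * g = g⁻¹ * c * g⁻¹⁻¹ by rw [inv_inv], conj_pow, hG, mul_one, mul_inv_cancel]
  have hA3 : A ^ 3 = 1 := Subtype.ext (hpow a' a 3 ha' ha3)
  have hB3 : B ^ 3 = 1 := Subtype.ext (hpow b' b 3 hb' hb3)
  have hAB4 : (A * B) ^ 4 = 1 := Subtype.ext (by
    show (m.lin a' * m.lin b') ^ 4 = 1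
    rw [← map_mul]
    refine hpow (a' * b') (a * b) 4 ?_ hab4
    simp only [Subgroup.coe_mul, ha', hb']; group)
  have hAB5 : (A * A * B) ^ 5 = 1 := Subtype.ext (by
    show (m.lin a' * m.lin a' * m.lin b') ^ 5 = 1
    rw [← map_mul, ← map_mul]
    refine hpow (a' * a' * b') (a * a * b) 5 ?_ hab5
    simp only [Subgroup.coe_mul, ha', hb']; group)
  have hAne : A ≠ 1 := fun h => by
    have hq : (a' : Subgroup.centralizer ({z} : Set G)) ∈ Q := (m.lin_eq_one a').1 (congrArg Subtype.val h)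
    have h13 : ((a' : Subgroup.centralizer ({z} : Set G)) : G) = 1 := by
      have hmem : ((a' : Subgroup.centralizer ({z} : Set G)) : G) ∈ QG Q := mem_QG.2 ⟨⟨_, hq⟩, rfl⟩
      have h1 : orderOf (⟨_, hmem⟩ : QG Q) ∣ 2 ^ 13 := m.card_QG ▸ orderOf_dvd_natCard _
      rw [Subgroup.orderOf_mk] at h1
      have h2 : orderOf ((a' : Subgroup.centralizer ({z} : Set G)) : G) ∣ 3 := orderOf_dvd_of_pow_eq_one (by
        have h3G : (a : G) ^ 3 = 1 := congrArg Subtype.val ha3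
        rw [ha', show g⁻¹ * (a : G) * g = g⁻¹ * a * g⁻¹⁻¹ by rw [inv_inv], conj_pow, h3G, mul_one, mul_inv_cancel])
      rw [← orderOf_eq_one_iff]
      exact Nat.eq_one_of_dvd_coprimes (by norm_num) h2 h1
    have : (a : G) = 1 := by rw [show (a : G) = g * (g⁻¹ * a * g) * g⁻¹ by group, ← ha', h13]; group
    refine hA1 (by rw [← hal, show (⟨a, (hK a ha).1⟩ : m.M) = 1 from Subtype.ext (Subtype.ext this), map_one])
  obtain ⟨u, w, hu, hw, huw⟩ :=
    sum_double m.hk A B (fun j hj => kel_sq m hs hne hrep hj) hA3 hAne hB3 hAB4 hAB5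
  -- one double commutator
  have hdouble : ∀ {c : Subgroup.centralizer ({z} : Set G)} (c' : m.M), c ∈ m.M →
      (c : G) * (g * z * g⁻¹) = g * z * g⁻¹ * c →
      ((c' : Subgroup.centralizer ({z} : Set G)) : G) = g⁻¹ * c * g → ∀ u, T6 u (LargeFischer.rep m.k 2) = 0 →
      ∃ (d : Subgroup.centralizer ({z} : Set G)) (X : Q), d ∈ Es Q g ∧ d ∈ m.M ∧ m.rep X = sq2 (m.lin c') u ∧
        g * gv X * g⁻¹ = (c : G) * d * (c : G)⁻¹ * (d : G)⁻¹ := by
    intro c c' hcM hc hc' u hu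
    obtain ⟨T, hT⟩ := m.rep_surj u
    have hcom : gv T * gv s' = gv s' * gv T := (m.comm_iff T s').2 (by rw [hT, hrep']; exact hu)
    have hz : g * gv T * g⁻¹ * z = z * (g * gv T * g⁻¹) := by
      rw [hs', inv_inv] at hcom
      calc g * gv T * g⁻¹ * z = g * (gv T * (g⁻¹ * z * g)) * g⁻¹ := by group
        _ = g * (g⁻¹ * z * g * gv T) * g⁻¹ := by rw [hcom]
        _ = _ := by group
    set D : Subgroup.centralizer ({z} : Set G) := ⟨g * gv T * g⁻¹, Subgroup.mem_centralizer_singleton_iff.2 hz⟩ with hD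
    have hDE : D ∈ Es Q g := mem_Es.2 ⟨gv T, mem_QG.2 ⟨T, rfl⟩, rfl⟩
    refine ⟨c * D * c⁻¹ * D⁻¹, qconj (c' : Subgroup.centralizer ({z} : Set G)) (qconj c' T * T⁻¹) *
      (qconj c' T * T⁻¹)⁻¹, mul_mem (mem_Es.2 ?_) (inv_mem hDE), ?_, ?_, ?_⟩
    · rw [Subgroup.coe_mul, Subgroup.coe_mul, Subgroup.coe_inv]
      exact (m.ext.map_conj g).norm _ hc _ (mem_Es.1 hDE)
    · rw [show c * D * c⁻¹ * D⁻¹ = c * (D * c⁻¹ * D⁻¹) by group]
      exact mul_mem hcM (m.M_normal.conj_mem _ (inv_mem hcM) _)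
    · rw [m.rep_mul, m.rep_inv, m.rep_conj, m.rep_mul, m.rep_inv, m.rep_conj, hT, m.lin_act, m.lin_act, sq2]
    · show g * ((c' : Subgroup.centralizer ({z} : Set G)) * ((c' : Subgroup.centralizer ({z} : Set G)) * gv T *
          ((c' : Subgroup.centralizer ({z} : Set G)) : G)⁻¹ * (gv T)⁻¹) *
          ((c' : Subgroup.centralizer ({z} : Set G)) : G)⁻¹ *
          (((c' : Subgroup.centralizer ({z} : Set G)) : G) * gv T *
          ((c' : Subgroup.centralizer ({z} : Set G)) : G)⁻¹ * (gv T)⁻¹)⁻¹) * g⁻¹ = _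
      simp only [hc', Subgroup.coe_mul, Subgroup.coe_inv, hD]
      group
  obtain ⟨d₁, X₁, hd₁, hd₁M, hX₁, hc₁⟩ := hdouble a' (hK a ha).1 hfa ha' u hu
  obtain ⟨d₂, X₂, hd₂, hd₂M, hX₂, hc₂⟩ := hdouble b' (hK b hb).1 hfb hb' w hw
  obtain ⟨r₁, p₁, k₁, hk₁, hp₁, hl₁, he₁, hm₁⟩ :=
    comm_coords m hs hne hrep hx hK hKQ (by norm_num : 0 < 2) ha hal hsec hd₁ hd₁M
  obtain ⟨r₂, p₂, k₂, hk₂, hp₂, hl₂, he₂, hm₂⟩ :=
    comm_coords m hs hne hrep hx hK hKQ (by norm_num : 1 < 2) hb hbl hsec hd₂ hd₂M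
  have hA_val : (A : SUV) = m.lin a' := rfl
  have hB_val : (B : SUV) = m.lin b' := rfl
  rw [hA_val, hB_val, ← hX₁, ← hX₂, ← m.rep_mul] at huw
  obtain ⟨t, ht⟩ := m.exists_zp (x := s') (y := X₁ * X₂) (hrep'.trans huw.symm)
  -- the product of the commutators is central or its twin
  set tgt : Q := m.zq * (if t = 0 then 1 else s) with htgt
  have hprod : ((r₁ : Subgroup.centralizer ({z} : Set G)) * k₁ * ((r₂ : Subgroup.centralizer ({z} : Set G)) * k₂)) = tgt := by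
    rw [← he₁, ← he₂]
    refine Subtype.ext ?_
    show (a : G) * d₁ * (a : G)⁻¹ * (d₁ : G)⁻¹ * ((b : G) * d₂ * (b : G)⁻¹ * (d₂ : G)⁻¹) = gv tgt
    have eX : gv X₁ * gv X₂ = gv s' * gv (m.zp t) := congrArg (fun w : Q => gv w) ht
    rw [← hc₁, ← hc₂, show g * gv X₁ * g⁻¹ * (g * gv X₂ * g⁻¹) = g * (gv X₁ * gv X₂) * g⁻¹ by group, eX, hs', inv_inv]
    rcases (show ∀ s : ZMod 2, s = 0 ∨ s = 1 by decide) t with rfl | rfl
    · rw [htgt, if_pos rfl, mul_one, m.zp_zero]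
      show g * (g⁻¹ * z * g * 1) * g⁻¹ = z
      group
    · rw [htgt, if_neg one_ne_zero, m.zp_one]
      show g * (g⁻¹ * z * g * z) * g⁻¹ = z * gv s
      rw [hs]; group
  have hkk : k₁ * k₂ = 1 := by
    refine hKQ _ (mul_mem hk₁ hk₂) ?_
    have e : k₁ * k₂ = (k₁ * r₂ * k₁⁻¹)⁻¹ * (r₁ : Subgroup.centralizer ({z} : Set G))⁻¹ *
        ((r₁ : Subgroup.centralizer ({z} : Set G)) * k₁ * ((r₂ : Subgroup.centralizer ({z} : Set G)) * k₂)) := by group
    rw [e, hprod]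
    exact mul_mem (mul_mem (inv_mem (hQn.conj_mem _ r₂.2 k₁)) (inv_mem r₁.2)) tgt.2
  have hR : r₁ * qconj k₁ r₂ = tgt := Subtype.ext (by
    show (r₁ : Subgroup.centralizer ({z} : Set G)) * (k₁ * r₂ * k₁⁻¹) = tgt
    rw [← hprod, show k₂ = k₁⁻¹ from (inv_eq_of_mul_eq_one_right hkk).symm]; group)
  -- the tables forbid it
  have hgood := (xfacts m.hk).2.2.2.2.2.2.2.2.2.1
  simp only [Ext.chkProd, List.all_eq_true, List.mem_range] at hgood
  have hε : (Model.zc x₀ s).val < 2 := ZMod.val_lt _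
  have h := hgood _ hε _ (List.contains_iff_mem.1 hm₁) _ (List.contains_iff_mem.1 hm₂)
  have hv₁ : (Model.zc x₀ r₁).val < 2 := ZMod.val_lt _
  have hv₂ : (Model.zc x₀ r₂).val < 2 := ZMod.val_lt _
  have hr₁ := enc6_lt (m.rep r₁)
  have hr₂ := enc6_lt (m.rep r₂)
  simp only [Ext.goodProd] at h
  rw [show (enc6 (m.rep r₁) + 4096 * (Model.zc x₀ r₁).val + 8192 * p₁) % 4096 = enc6 (m.rep r₁) by omega,
    show (enc6 (m.rep r₁) + 4096 * (Model.zc x₀ r₁).val + 8192 * p₁) / 4096 % 2 = (Model.zc x₀ r₁).val by omega,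
    show (enc6 (m.rep r₁) + 4096 * (Model.zc x₀ r₁).val + 8192 * p₁) / 8192 = p₁ by omega,
    show (enc6 (m.rep r₂) + 4096 * (Model.zc x₀ r₂).val + 8192 * p₂) % 4096 = enc6 (m.rep r₂) by omega,
    show (enc6 (m.rep r₂) + 4096 * (Model.zc x₀ r₂).val + 8192 * p₂) / 4096 % 2 = (Model.zc x₀ r₂).val by omega,
    show (enc6 (m.rep r₂) + 4096 * (Model.zc x₀ r₂).val + 8192 * p₂) / 8192 = p₂ by omega] at h
  have hq2 : m.rep (qconj k₁ r₂) = vecOf ((ext m.k).kap p₁ (enc6 (m.rep r₂))) := by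
    rw [← kel_act m.hk hp₁ hr₂, vecOf_enc6, ← hl₁, m.rep_conj, ← m.lin_act]
  set c := ((Model.zc x₀ r₁).val + (Model.zc x₀ r₂).val + betaC (enc6 (m.rep r₁)) ((ext m.k).kap p₁ (enc6 (m.rep r₂)))) % 2 with hc
  have hcz : Model.zc x₀ tgt = (c : ZMod 2) := by
    rw [← hR, m.zc_mul hx, m.zc_conj hx (hK _ hk₁).2, hc, ZMod.natCast_mod, Nat.cast_add, Nat.cast_add,
      ZMod.natCast_zmod_val, ZMod.natCast_zmod_val, hq2, ← bet_code, vecOf_enc6]
  have hrt : m.rep tgt = vecOf (enc6 (m.rep r₁) ^^^ (ext m.k).kap p₁ (enc6 (m.rep r₂))) := by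
    rw [← hR, m.rep_mul, hq2, vecOf_xor, vecOf_enc6]
  have hclt : c < 2 := Nat.mod_lt _ (by norm_num)
  have hxlt : enc6 (m.rep r₁) ^^^ (ext m.k).kap p₁ (enc6 (m.rep r₂)) < 4096 :=
    Nat.xor_lt_two_pow (n := 12) hr₁ (kap_lt m.hk hp₁ _)
  rcases Bool.or_eq_true_iff.1 h with h | h
  · generalize hR : enc6 (m.rep r₁) ^^^ (ext m.k).kap p₁ (enc6 (m.rep r₂)) = R at h hxlt hrt
    generalize hε' : (Model.zc x₀ s).val = ε at h
    clear_value c
    simp only [Bool.not_eq_true', Bool.or_eq_false_iff, Bool.and_eq_false_iff] at h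
    have hself : ∀ n : ℕ, Nat.beq n n = true := Nat.beq_refl
    rcases (show ∀ s : ZMod 2, s = 0 ∨ s = 1 by decide) t with rfl | rfl
    · rw [htgt, if_pos rfl, mul_one] at hcz hrt
      rw [← m.zp_one, m.zc_zp hx] at hcz
      rw [← m.zp_one, m.rep_zp, ← vecOf_zero] at hrt
      have hR0 : 0 = R := vecOf_inj (by norm_num) hxlt hrt
      have hc1 : c = 1 := by
        rcases Nat.lt_or_ge c 1 with h0 | h0
        · rw [Nat.lt_one_iff.1 h0, Nat.cast_zero] at hcz; exact absurd hcz one_ne_zero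
        · omega
      rcases h.1 with h' | h'
      · rw [← hR0, hself] at h'; exact Bool.noConfusion h'
      · rw [hc1, hself] at h'; exact Bool.noConfusion h'
    · rw [htgt, if_neg one_ne_zero] at hcz hrt
      rw [m.zc_mul hx, ← m.zp_one, m.zc_zp hx, m.rep_zp,
        show bet 0 (m.rep s) = 0 from by rw [bet, show hermForm 6 K4 2 (m.rep s) 0 = 0 from by simp [hermForm],
          mul_zero, trb_facts.1], add_zero] at hcz
      rw [m.rep_mul, ← m.zp_one, m.rep_zp, zero_add, hrep, rep_two] at hrt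
      have hR2 : (dat m.k).v2 = R := vecOf_inj (v2_lt _) hxlt hrt
      have hc2 : c = (ε + 1) % 2 := by
        have e : (((ε + 1) % 2 : ℕ) : ZMod 2) = (c : ZMod 2) := by
          rw [ZMod.natCast_mod, Nat.cast_add, Nat.cast_one, ← hε', ZMod.natCast_zmod_val, add_comm]
          exact hcz
        have e' := congrArg ZMod.val e
        rw [ZMod.val_natCast, ZMod.val_natCast, Nat.mod_mod, Nat.mod_eq_of_lt hclt] at e'
        exact e'.symm
      rcases h.2 with h' | h'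
      · rw [← hR2, hself] at h'; exact Bool.noConfusion h'
      · rw [hc2, hself] at h'; exact Bool.noConfusion h'
  · simp only [Bool.not_eq_true', List.all_eq_false, List.mem_range, Nat.beq_eq] at h
    obtain ⟨i, hi, hne'⟩ := h
    have hm' : ((ext m.k).mul.getD p₁ []).getD p₂ 0 < 16 := by
      have hlt := ((base_facts m.hk).2.2.2.2 p₁ hp₁ p₂ hp₂).1
      rcases Nat.lt_or_ge p₂ ((ext m.k).mul.getD p₁ []).length with h | h
      · rw [List.getD_eq_getElem _ _ h] at hlt ⊢; exact hlt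
      · rw [List.getD_eq_default _ _ h] at hlt; omega
    have h1 : kel m.k (((ext m.k).mul.getD p₁ []).getD p₂ 0) = 1 := by
      rw [← kel_mul m.hk hp₁ hp₂, ← hl₁, ← hl₂, ← map_mul,
        show (⟨k₁, (hK _ hk₁).1⟩ : m.M) * ⟨k₂, (hK _ hk₂).1⟩ = 1 from Subtype.ext hkk, map_one]
    have h2 : 2 ^ i < 4096 := Nat.pow_lt_pow_right (by norm_num : 1 < 2) hi
    have e := kel_act m.hk hm' h2
    rw [h1, one_smul] at e
    have e' := vecOf_inj h2 (kap_lt m.hk hm' _) e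
    rw [Ext.kap, app_single _ ((base_facts m.hk).1 _ hm').2.1 i hi] at e'
    exact absurd e'.symm (by simpa using hne')

end Cfsg.Agent.Spor.LargeFischer
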