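import Cfsg.Agent.Lib.Spor.LargeFischer.Data

/-!
Orbits of the two affine maps on the characters of the elementary abelian group of order 243: on the characters
trivial on the central element every orbit has at least seven lines, and on the others all but the origin lie in
orbits of at least six points, whatever the translation of the second map.
-/

set_option autoImplicit false
set_option maxRecDepth 100000
set_option maxHeartbeats 2000000

namespace Cfsg.Agent.Spor.LargeFischer

/-- The digit of a code. -/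
def dg (c j : ℕ) : ℕ := c / 3 ^ j % 3

/-- The vector of a code. -/
def vec (c : ℕ) : Fin 4 → ZMod 3 := fun i => (dg c i.1 : ZMod 3)

/-- A coordinate of an image. -/
def imgAt (l : List ℕ) (t f c j : ℕ) : ℕ :=
  (t * dg f j + dg c 0 * l.getD j 0 + dg c 1 * l.getD (4 + j) 0 + dg c 2 * l.getD (8 + j) 0 +
    dg c 3 * l.getD (12 + j) 0) % 3

/-- The image of a code, `t` times the translation added. -/
def img (l : List ℕ) (t f c : ℕ) : ℕ :=
  imgAt l t f c 0 + 3 * imgAt l t f c 1 + 9 * imgAt l t f c 2 + 27 * imgAt l t f c 3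

/-- The negative. -/
def negC (c : ℕ) : ℕ := img [2, 0, 0, 0, 0, 2, 0, 0, 0, 0, 2, 0, 0, 0, 0, 2] 0 0 c

/-- The normalised representative of a line. -/
def nrm (c : ℕ) : ℕ := min c (negC c)

/-- Adjoin an element. -/
def ins (l : List ℕ) (x : ℕ) : List ℕ := if l.contains x then l else l ++ [x]

/-- One step of closure. -/
def step (g h : ℕ → ℕ) (l : List ℕ) : List ℕ := ((l.map g) ++ (l.map h)).foldl ins l

/-- Closure. -/
def grow (g h : ℕ → ℕ) : ℕ → List ℕ → List ℕ
  | 0, l => l
  | n + 1, l => if 7 ≤ l.length then l else grow g h n (step g h l)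

/-- The orbit of a line. -/
def linOrb (c : ℕ) : List ℕ :=
  grow (fun d => nrm (img mA1 0 0 d)) (fun d => nrm (img mA2 0 0 d)) 6 [nrm c]

/-- The orbit of a point. -/
def affOrb (f c : ℕ) : List ℕ := grow (img mA1 1 0) (img mA2 1 f) 6 [c]

theorem lin_large : ∀ c < 81, c = 0 ∨ 7 ≤ (linOrb c).length ∧ (linOrb c).Nodup ∧
    (linOrb c).all (fun d => Nat.blt d 81 && Nat.ble d (negC d) && !Nat.beq d 0) = true := by decide +kernel

theorem aff_large : ∀ f < 81, ∀ c < 81, c = 0 ∨ 6 ≤ (affOrb f c).length ∧ (affOrb f c).Nodup ∧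
    (affOrb f c).all (fun d => Nat.blt d 81) = true := by decide +kernel

theorem vec_img (l : List ℕ) (t f c : ℕ) (j : Fin 4) :
    vec (img l t f c) j = (t : ZMod 3) * vec f j + ∑ i : Fin 4, vec c i * ((l.getD (4 * i.1 + j.1) 0 : ℕ) : ZMod 3) := by
  have hd : dg (img l t f c) j.1 = imgAt l t f c j.1 := by
    have h0 : imgAt l t f c 0 < 3 := Nat.mod_lt _ (by norm_num)
    have h1 : imgAt l t f c 1 < 3 := Nat.mod_lt _ (by norm_num)
    have h2 : imgAt l t f c 2 < 3 := Nat.mod_lt _ (by norm_num)
    have h3 : imgAt l t f c 3 < 3 := Nat.mod_lt _ (by norm_num)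
    fin_cases j <;> simp only [dg, img] <;> norm_num <;> omega
  simp only [vec, hd, imgAt, Fin.sum_univ_four]
  rw [ZMod.natCast_mod]
  simp only [Nat.cast_add, Nat.cast_mul, Fin.val_zero, Fin.val_one, Fin.val_two, Fin.isValue,
    show ((3 : Fin 4) : ℕ) = 3 from rfl, Nat.mul_zero, zero_add]
  ring

theorem vec_zero : vec 0 = 0 := funext fun i => by simp [vec, dg]

theorem vec_negC (c : ℕ) : vec (negC c) = -vec c := by
  funext j
  rw [negC, vec_img, Pi.neg_apply, Fin.sum_univ_four]
  fin_cases j <;> simp <;> rw [show (2 : ZMod 3) = -1 from rfl] <;> ring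

theorem vec_nrm (c : ℕ) : vec (nrm c) = vec c ∨ vec (nrm c) = -vec c := by
  rcases min_choice c (negC c) with h | h
  · exact Or.inl (by rw [nrm, h])
  · exact Or.inr (by rw [nrm, h, vec_negC])

/-- The code of a vector. -/
def enc (u : Fin 4 → ZMod 3) : ℕ := (u 0).val + 3 * (u 1).val + 9 * (u 2).val + 27 * (u 3).val

theorem enc_lt (u : Fin 4 → ZMod 3) : enc u < 81 := by
  have := ZMod.val_lt (u 0); have := ZMod.val_lt (u 1); have := ZMod.val_lt (u 2); have := ZMod.val_lt (u 3)
  simp only [enc]; omega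

theorem vec_enc (u : Fin 4 → ZMod 3) : vec (enc u) = u := by
  have := ZMod.val_lt (u 0); have := ZMod.val_lt (u 1); have := ZMod.val_lt (u 2); have := ZMod.val_lt (u 3)
  funext j
  have : dg (enc u) j.1 = (u j).val := by
    match j with
    | 0 | 1 | 2 | 3 => simp only [dg, enc] <;> norm_num <;> omega
  rw [vec, this, ZMod.natCast_zmod_val]

theorem enc_vec : ∀ c < 81, enc (vec c) = c := by decide +kernel

theorem negC_negC : ∀ c < 81, negC (negC c) = c ∧ negC c < 81 := by decide +kernel

/-- Lines are told apart by their normalised codes. -/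
theorem lines_inj {c d : ℕ} (hc : c < 81) (hd : d < 81) (hc' : c ≤ negC c) (hd' : d ≤ negC d)
    (h : vec c = vec d ∨ vec c = -vec d) : c = d := by
  rcases h with h | h
  · rw [← enc_vec c hc, h, enc_vec d hd]
  · rw [← vec_negC] at h
    have e : c = negC d := by rw [← enc_vec c hc, h, enc_vec _ (negC_negC d hd).2]
    have := (negC_negC d hd).1
    rw [← e] at this
    omega

theorem mem_foldl_ins {x : ℕ} : ∀ (m l : List ℕ), x ∈ m.foldl ins l → x ∈ l ∨ x ∈ m
  | [], l, h => Or.inl h
  | y :: m, l, h => by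
    rcases mem_foldl_ins m (ins l y) h with h | h
    · simp only [ins] at h
      split_ifs at h
      · exact Or.inl h
      · rcases List.mem_append.1 h with h | h
        · exact Or.inl h
        · exact Or.inr (List.mem_cons.2 (Or.inl (List.mem_singleton.1 h)))
    · exact Or.inr (List.mem_cons.2 (Or.inr h))

theorem grow_all {g h : ℕ → ℕ} {p : ℕ → Prop} (hg : ∀ x, p x → p (g x)) (hh : ∀ x, p x → p (h x)) :
    ∀ (n : ℕ) (l : List ℕ), (∀ x ∈ l, p x) → ∀ x ∈ grow g h n l, p x
  | 0, l, hl => hl
  | n + 1, l, hl => by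
    simp only [grow]
    split_ifs
    · exact hl
    · refine grow_all hg hh n _ fun x hx => ?_
      rcases mem_foldl_ins _ _ hx with hx | hx
      · exact hl x hx
      · rcases List.mem_append.1 hx with hx | hx <;> obtain ⟨y, hy, rfl⟩ := List.mem_map.1 hx
        · exact hg y (hl y hy)
        · exact hh y (hl y hy)

end Cfsg.Agent.Spor.LargeFischer
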