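import Cfsg.Agent.Lib.Spor.LargeFischer.PairKernel

/-!
Elements outside the linear half do not induce linear maps.
-/

set_option autoImplicit false
set_option maxRecDepth 100000
set_option linter.style.haveILetI false
set_option linter.unusedSectionVars false
set_option maxHeartbeats 1000000

open Cfsg Cfsg.Agent.Classical Matrix
open Cfsg.Agent.Spor.USixTwo (K4 vecOf)
open Cfsg.Agent.Spor.U62U43 (cover62)

namespace Cfsg.Agent.Spor.LargeFischer

variable {G : Type*} [Group G] [Finite G] {z : G} {Q : Subgroup (Subgroup.centralizer ({z} : Set G))}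
  [hQn : Q.Normal] (m : Model z Q)

include m

/-- A pair of conjugates over the first vector of the long orbit in both directions. -/
theorem exists_pair (hF : ∃ g : G, g * z * g⁻¹ ∈ QG Q ∧ g * z * g⁻¹ ≠ z) :
    ∃ (g : G) (s s' : Q), gv s = g * z * g⁻¹ ∧ g * z * g⁻¹ ≠ z ∧ m.rep s = LargeFischer.rep m.k 2 ∧
      gv s' = g⁻¹ * z * g⁻¹⁻¹ ∧ g⁻¹ * z * g⁻¹⁻¹ ≠ z ∧ m.rep s' = LargeFischer.rep m.k 2 := by
  obtain ⟨g, hg, hne⟩ := hF
  obtain ⟨s₀, hs₀⟩ := mem_QG.1 hg
  obtain ⟨y, hy⟩ := m.rep_surj (LargeFischer.rep m.k 2)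
  have hlab : m.lab y = 2 := by rw [Model.lab, hy]; exact (rep_first _ m.hk).2
  obtain ⟨c, hc⟩ := m.conj_of_lab (x := s₀) (y := y) (Or.inr hlab) ((lab_of_conj m hs₀ hne).trans hlab.symm)
  have hc' : (c : G) * gv s₀ * (c : G)⁻¹ = gv y := congrArg Subtype.val hc
  have hz1 : ((c : G) * g) * z * ((c : G) * g)⁻¹ = gv y := by
    rw [← hc', show gv s₀ = g * z * g⁻¹ from hs₀]; group
  have hne1 : ((c : G) * g) * z * ((c : G) * g)⁻¹ ≠ z := by
    rw [hz1]; exact (m.of_lab (Or.inr hlab)).2.2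
  have hx1 : ((c : G) * g) * z * ((c : G) * g)⁻¹ ∈ QG Q := hz1 ▸ mem_QG.2 ⟨y, rfl⟩
  obtain ⟨a, ha⟩ := z_mem_PG m hx1
  obtain ⟨t₀, rfl⟩ := mem_QG.1 ha.1
  have ht : gv t₀ = ((c : G) * g)⁻¹ * z * ((c : G) * g)⁻¹⁻¹ := by
    have e : ((c : G) * g) * gv t₀ * ((c : G) * g)⁻¹ = z := ha.2
    calc gv t₀ = ((c : G) * g)⁻¹ * (((c : G) * g) * gv t₀ * ((c : G) * g)⁻¹) * ((c : G) * g)⁻¹⁻¹ := by group
      _ = _ := by rw [e]
  have htne : ((c : G) * g)⁻¹ * z * ((c : G) * g)⁻¹⁻¹ ≠ z := fun e => hne1 (by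
    calc ((c : G) * g) * z * ((c : G) * g)⁻¹
        = ((c : G) * g) * (((c : G) * g)⁻¹ * z * ((c : G) * g)⁻¹⁻¹) * ((c : G) * g)⁻¹ := by rw [e]
      _ = z := by group)
  obtain ⟨d, hd⟩ := m.conj_of_lab (x := t₀) (y := y) (Or.inr hlab) ((lab_of_conj m ht htne).trans hlab.symm)
  have hd' : (d : G) * gv t₀ * (d : G)⁻¹ = gv y := congrArg Subtype.val hd
  have hdz : (d : G)⁻¹ * z = z * (d : G)⁻¹ := Subgroup.mem_centralizer_singleton_iff.1 (inv_mem d.2)
  have e1 : ((c : G) * g * (d : G)⁻¹) * z * ((c : G) * g * (d : G)⁻¹)⁻¹ = gv y := by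
    rw [← hz1]
    calc _ = (c : G) * g * ((d : G)⁻¹ * z) * (d : G) * ((c : G) * g)⁻¹ := by group
      _ = _ := by rw [hdz]; group
  have e2 : ((c : G) * g * (d : G)⁻¹)⁻¹ * z * ((c : G) * g * (d : G)⁻¹)⁻¹⁻¹ = gv y := by
    rw [← hd', ht]; group
  exact ⟨(c : G) * g * (d : G)⁻¹, y, y, e1.symm, by rw [e1]; exact (m.of_lab (Or.inr hlab)).2.2, hy, e2.symm,
    by rw [e2]; exact (m.of_lab (Or.inr hlab)).2.2, hy⟩

omit m in
theorem herm_fin : ∀ a : K4, a ^ 2 = a → a = 0 ∨ a = 1 := by decide +kernel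

theorem act_norm (c : Subgroup.centralizer ({z} : Set G)) (u : Fin 6 → K4) :
    hermForm 6 K4 2 (m.act c u) (m.act c u) = hermForm 6 K4 2 u u := by
  rcases herm_fin _ (herm_swap u u).symm with h | h
  · rw [h, m.isotropic_act c h]
  · rcases herm_fin _ (herm_swap (m.act c u) (m.act c u)).symm with h' | h'
    · have := m.isotropic_act c⁻¹ h'
      rw [m.act_cancel, h] at this
      exact absurd this one_ne_zero
    · rw [h, h']

variable {g : G} {s s' : Q} (hs : gv s = g * z * g⁻¹) (hne : g * z * g⁻¹ ≠ z)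
  (hrep : m.rep s = LargeFischer.rep m.k 2) (hs' : gv s' = g⁻¹ * z * g⁻¹⁻¹) (hne' : g⁻¹ * z * g⁻¹⁻¹ ≠ z)
  (hrep' : m.rep s' = LargeFischer.rep m.k 2)

include hs hne hrep hs' hne' hrep'

/-- An element of the conjugate group moving the perpendicular space only along the vector lies in `Q`. -/
theorem mem_Q_of_trivial {e : Subgroup.centralizer ({z} : Set G)} (he : e ∈ Es Q g)
    (h : ∀ u, T6 u (LargeFischer.rep m.k 2) = 0 → m.act e u = u ∨ m.act e u = u + LargeFischer.rep m.k 2) : e ∈ Q := by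
  obtain ⟨q', hq', hq'e⟩ := mem_Es.1 he
  obtain ⟨q', rfl⟩ := mem_QG.1 hq'
  have hg : g * gv q' * g⁻¹ = (e : G) := hq'e
  have hext := m.ext.map_conj g
  have key : gv q' ∈ PG Q g⁻¹ := by
    refine mem_of_moves m hs' hne' hrep' fun f hf => ?_
    obtain ⟨q, hq, hqf⟩ := mem_Es.1 hf
    obtain ⟨q, rfl⟩ := mem_QG.1 hq
    have hf' : g⁻¹ * gv q * g = (f : G) := by
      have h0 : g⁻¹ * gv q * g⁻¹⁻¹ = (f : G) := hqf
      rwa [inv_inv] at h0
    have hcom : gv q * gv s = gv s * gv q := by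
      have hfz : (f : G) * z = z * (f : G) := Subgroup.mem_centralizer_singleton_iff.1 f.2
      rw [← hf'] at hfz
      rw [hs]
      calc gv q * (g * z * g⁻¹) = g * (g⁻¹ * gv q * g * z) * g⁻¹ := by group
        _ = g * (z * (g⁻¹ * gv q * g)) * g⁻¹ := by rw [hfz]
        _ = _ := by group
    have hT : T6 (m.rep q) (LargeFischer.rep m.k 2) = 0 := hrep ▸ (m.comm_iff q s).1 hcom
    set x : Q := qconj e q * q⁻¹ with hxdef
    have hx : m.rep x = 0 ∨ m.rep x = LargeFischer.rep m.k 2 := by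
      rw [hxdef, m.rep_mul, m.rep_conj, m.rep_inv]
      rcases h _ hT with e' | e' <;> rw [e']
      · exact Or.inl (neg_self6 _)
      · exact Or.inr (by rw [add_right_comm, neg_self6, zero_add])
    have hgx : g⁻¹ * gv x * g ∈ ({1, z, gv s', gv s' * z} : Set G) := by
      have hsz : g⁻¹ * gv s * g = z := by rw [hs]; group
      have hzs : g⁻¹ * z * g = gv s' := by rw [hs', inv_inv]
      rcases hx with h0 | h0
      · rcases (m.rep_zero x).1 h0 with e0 | e0
        · left; rw [show gv x = 1 from e0]; group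
        · right; right; left; rw [show gv x = z from e0, hzs]
      · rcases m.rep_eq (hrep.trans h0.symm) with e0 | e0
        · right; left; rw [e0, hsz]
        · right; right; right
          rw [e0, show g⁻¹ * (gv s * z) * g = (g⁻¹ * gv s * g) * (g⁻¹ * z * g) by group, hsz, hzs,
            m.ext.central _ (mem_QG.2 ⟨s', rfl⟩)]
          exact rfl
    have hfq : gv (qconj f q') = (g⁻¹ * gv x * g)⁻¹ * gv q' := by
      show (f : G) * gv q' * (f : G)⁻¹ = (g⁻¹ * ((e : G) * gv q * (e : G)⁻¹ * (gv q)⁻¹) * g)⁻¹ * gv q'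
      rw [← hf', ← hg]; group
    have hrep'' : ∀ y : Q, gv y ∈ ({1, z, gv s', gv s' * z} : Set G) →
        m.rep y = 0 ∨ m.rep y = LargeFischer.rep m.k 2 := fun y hy => by
      rcases hy with h' | h' | h' | h'
      · exact Or.inl ((m.rep_zero y).2 (Or.inl h'))
      · exact Or.inl ((m.rep_zero y).2 (Or.inr h'))
      · exact Or.inr (by rw [show y = s' from Subtype.ext (Subtype.ext h'), hrep'])
      · exact Or.inr (by rw [show y = s' * m.zq from Subtype.ext (Subtype.ext h'), ← m.zp_one, m.rep_mul_zp, hrep'])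
    obtain ⟨y, hy⟩ : ∃ y : Q, gv y = g⁻¹ * gv x * g := by
      rcases hgx with h' | h' | h' | h' <;> rw [h']
      exacts [⟨1, rfl⟩, ⟨m.zq, rfl⟩, ⟨s', rfl⟩, ⟨s' * m.zq, rfl⟩]
    have hq'y : qconj f q' = y⁻¹ * q' := Subtype.ext (Subtype.ext (by
      show gv (qconj f q') = (gv y)⁻¹ * gv q'
      rw [hfq, hy]))
    rw [m.act_rep, hq'y, m.rep_mul, m.rep_inv]
    rcases hrep'' y (hy ▸ hgx) with h' | h' <;> rw [h']
    · exact Or.inl (zero_add _)
    · exact Or.inr (add_comm _ _)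
  obtain ⟨a, ha, hae⟩ := key
  have hea : (e : G) = a := by
    rw [← hg]
    have h0 : g⁻¹ * a * g⁻¹⁻¹ = gv q' := hae
    rw [← h0]; group
  obtain ⟨a', ha'⟩ := mem_QG.1 (hea ▸ ha)
  exact (show e = (a' : Subgroup.centralizer ({z} : Set G)) from Subtype.ext ha'.symm) ▸ a'.2

omit hs hne hrep hs' hne' hrep' in
theorem act_scalar (c : Subgroup.centralizer ({z} : Set G))
    (hc : ∀ u, m.act c (K4.of 2 • u) = K4.of 2 • m.act c u) (a : K4) (u : Fin 6 → K4) :
    m.act c (a • u) = a • m.act c u := by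
  rcases (show ∀ a : K4, a = 0 ∨ a = 1 ∨ a = K4.of 2 ∨ a = 1 + K4.of 2 by decide +kernel) a with rfl | rfl | rfl | rfl
  · rw [zero_smul, zero_smul, m.act_zero]
  · rw [one_smul, one_smul]
  · exact hc u
  · rw [add_smul, add_smul, m.act_add, hc, one_smul, one_smul]

/-- Elements outside the linear half are not linear. -/
theorem not_linear {e : Subgroup.centralizer ({z} : Set G)} (he : e ∈ Es Q g) (heM : e ∉ m.M)
    (hc : ∀ u, m.act e (K4.of 2 • u) = K4.of 2 • m.act e u) : False := by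
  obtain ⟨-, ⟨hsl, hsa, hs0, hs1⟩, ⟨hbl, hba, hil, hia, hb1, hb2, hb3⟩, hpat, -⟩ := base_facts m.hk
  have hext := m.ext.map_conj g
  have hsob : ∀ i < 6, m.act e (vecOf ((ext m.k).sb i)) = vecOf ((ext m.k).sb i) ∨
      m.act e (vecOf ((ext m.k).sb i)) = vecOf ((ext m.k).sb i) + LargeFischer.rep m.k 2 := fun i hi => by
    obtain ⟨q, hq⟩ := m.rep_surj (vecOf ((ext m.k).sb i))
    have hin : (ext m.k).inSO (enc6 (m.rep q)) = true := by
      rw [hq, enc6_vecOf (sb_lt m.hk i)]
      have := (xfacts m.hk).2.2.2.1.2 (2 ^ i) (by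
        calc 2 ^ i < 2 ^ 6 := Nat.pow_lt_pow_right (by norm_num) hi
          _ = 64 := rfl)
      rcases hl : (ext m.k).sob with _ | ⟨a0, _ | ⟨a1, _ | ⟨a2, _ | ⟨a3, _ | ⟨a4, _ | ⟨a5, _ | ⟨a6, _⟩⟩⟩⟩⟩⟩⟩ <;>
        simp [hl] at hsl
      rw [hl] at this
      simp only [Ext.sb, hl]
      interval_cases i <;> simpa [app] using this
    have := rep_cases m hs hne hrep he ((inter_iff m hs hne hrep q).2 hin)
    rwa [hq] at this
  classical
  let moved : ℕ → Bool := fun i => decide (m.act e (vecOf ((ext m.k).sb (2 + i))) ≠ vecOf ((ext m.k).sb (2 + i)))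
  let p : ℕ := (if moved 0 then 1 else 0) + (if moved 1 then 2 else 0) + (if moved 2 then 4 else 0) +
    (if moved 3 then 8 else 0)
  have hp : p < 16 ∧ ∀ i < 4, p.testBit i = moved i := by
    refine (show ∀ a b c d : Bool, ((if a then 1 else 0) + (if b then 2 else 0) + (if c then 4 else 0) +
        (if d then 8 else 0) : ℕ) < 16 ∧ ∀ i < 4, ((if a then 1 else 0) + (if b then 2 else 0) + (if c then 4 else 0) +
        (if d then 8 else 0) : ℕ).testBit i = [a, b, c, d].getD i false by decide) (moved 0) (moved 1) (moved 2) (moved 3)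
      |>.imp_right fun h i hi => (h i hi).trans (by interval_cases i <;> rfl)
  obtain ⟨hj, hpe⟩ := hpat p hp.1
  have hj' : (ext m.k).pat.getD p 0 < 16 := by
    rcases Nat.lt_or_ge p (ext m.k).pat.length with h | h
    · rw [List.getD_eq_getElem _ _ h] at hj ⊢; exact hj
    · rw [List.getD_eq_default _ _ h] at hj; omega
  obtain ⟨b, hb, hbl'⟩ := (linear_part m hs hne hrep).2 _ hj'
  set e₁ : Subgroup.centralizer ({z} : Set G) := (b : Subgroup.centralizer ({z} : Set G)) * e with he1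
  have he1E : e₁ ∈ Es Q g := mul_mem hb he
  have he1M : e₁ ∉ m.M := fun h => heM (by
    have := mul_mem (inv_mem b.2) h
    rwa [he1, inv_mul_cancel_left] at this)
  have hact : ∀ u, m.act e₁ u = m.lin b • m.act e u := fun u => by rw [he1, m.act_mul, m.lin_act]
  have hlin : ∀ (a : K4) (u : Fin 6 → K4), m.act e₁ (a • u) = a • m.act e₁ u := fun a u => by
    rw [hact, hact, act_scalar m e hc a u, smul_scalar]
  let L : (Fin 6 → K4) →ₗ[K4] (Fin 6 → K4) :=
    { toFun := m.act e₁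
      map_add' := m.act_add e₁
      map_smul' := hlin }
  have hpres : ∀ u w, hermForm 6 K4 2 (m.act e₁ u) (m.act e₁ w) = hermForm 6 K4 2 u w :=
    herm_preserve L (act_norm m e₁)
  have hv : m.act e₁ (LargeFischer.rep m.k 2) = LargeFischer.rep m.k 2 := by
    rw [← hrep, m.act_rep]
    congr 1
    refine Subtype.ext (Subtype.ext ?_)
    show (e₁ : G) * gv s * (e₁ : G)⁻¹ = gv s
    rw [hs, hext.central _ (mem_Es.1 he1E), mul_inv_cancel_right]
  have hfix4 : ∀ i < 4, m.act e₁ (vecOf ((ext m.k).sb (2 + i))) = vecOf ((ext m.k).sb (2 + i)) := fun i hi => by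
    have hk := hpe i hi
    rw [hp.2 i hi] at hk
    rw [hact, hbl']
    by_cases hm : m.act e (vecOf ((ext m.k).sb (2 + i))) = vecOf ((ext m.k).sb (2 + i))
    · rw [show moved i = false from decide_eq_false (not_not.2 hm), if_neg (by decide)] at hk
      rw [hm, kel_act m.hk hj' (sb_lt m.hk _), hk]
    · rw [show moved i = true from decide_eq_true hm, if_pos rfl] at hk
      rw [(hsob _ (by omega)).resolve_left hm, rep_two, ← vecOf_xor,
        kel_act m.hk hj' (Nat.xor_lt_two_pow (n := 12) (sb_lt m.hk _) (v2_lt _)),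
        show (ext m.k).kap ((ext m.k).pat.getD p 0) ((ext m.k).sb (2 + i) ^^^ (dat m.k).v2) =
          (ext m.k).sb (2 + i) from ?_]
      have hk' := kel_act m.hk hj' (Nat.xor_lt_two_pow (n := 12) (sb_lt m.hk (2 + i)) (v2_lt m.k))
      refine vecOf_inj (kap_lt m.hk hj' _) (sb_lt m.hk _) ?_
      rw [← hk', vecOf_xor, smul_add', kel_act m.hk hj' (sb_lt m.hk _), hk, vecOf_xor, ← rep_two,
        (mem_stab.1 (kel_stab m.hk hj').1).2, add_assoc, neg_self6, add_zero]
  have hom : ∀ c < 4096, m.act e₁ (vecOf c) = vecOf c → m.act e₁ (vecOf ((dat m.k).omC c)) = vecOf ((dat m.k).omC c) :=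
    fun c hc h => by rw [← (om_code m.hk hc).1, hlin, h]
  have hB : ∀ i < 10, m.act e₁ (vecOf ((ext m.k).bB.getD i 0)) = vecOf ((ext m.k).bB.getD i 0) := by
    intro i hi
    rcases Nat.lt_or_ge i 6 with h | h
    · rw [hb1 i h]
      interval_cases i
      · rw [hs0, ← rep_two]; exact hv
      · rw [hs1]; exact hom _ (v2_lt _) (by rw [← rep_two]; exact hv)
      all_goals first | exact hfix4 0 (by norm_num) | exact hfix4 1 (by norm_num) | exact hfix4 2 (by norm_num) | exact hfix4 3 (by norm_num)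
    · obtain ⟨i, rfl⟩ : ∃ i', i = 6 + i' := ⟨i - 6, by omega⟩
      rw [hb2 i (by omega)]
      exact hom _ (sb_lt m.hk _) (hfix4 i (by omega))
  set u₀ := (ext m.k).bB.getD 10 0 with hu0
  have hu0lt : u₀ < 4096 := getD_lt hba 10
  have hw : m.act e₁ (vecOf u₀) = vecOf u₀ ∨ m.act e₁ (vecOf u₀) = vecOf u₀ + LargeFischer.rep m.k 2 := by
    set w := m.act e₁ (vecOf u₀) with hwdef
    have hk := (xfacts m.hk).2.2.2.2.1 _ (enc6_lt w)
    simp only [Ext.chkB, Bool.and_eq_true, Bool.or_eq_true, Bool.not_eq_true', Nat.beq_eq, List.all_eq_false,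
      List.mem_range, beq_iff_eq] at hk
    rcases hk.2 with ((⟨i, hi, h⟩ | h) | h) | h
    · exfalso
      have e : T6 w (vecOf ((ext m.k).bB.getD i 0)) = T6 (vecOf u₀) (vecOf ((ext m.k).bB.getD i 0)) := by
        rw [T6, T6]
        conv_lhs => rw [← hB i hi, hwdef, hpres]
      rw [← vecOf_enc6 w, T6_code, T6_code] at e
      revert h e
      cases trC (enc6 w) ((ext m.k).bB.getD i 0) <;> cases trC u₀ ((ext m.k).bB.getD i 0) <;> simp
    · exfalso
      have e : hermForm 6 K4 2 w w = hermForm 6 K4 2 (vecOf u₀) (vecOf u₀) := by rw [hwdef, hpres]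
      rw [← vecOf_enc6 w, hermC_sound, hermC_sound] at e
      have e' : hermC (enc6 w) (enc6 w) % 4 = hermC u₀ u₀ % 4 := congrArg (fun a : K4 => a.v.1) e
      have := hermC_lt (enc6 w) (enc6 w); have := hermC_lt u₀ u₀
      rw [← hu0, Bool.eq_false_iff, ne_eq, Nat.beq_eq] at h
      omega
    · exact Or.inl (by rw [← vecOf_enc6 w, h])
    · exact Or.inr (by rw [← vecOf_enc6 w, h, vecOf_xor, rep_two])
  refine he1M (m.M_le (mem_Q_of_trivial m hs hne hrep hs' hne' hrep' he1E fun u hu => ?_))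
  let P : (Fin 6 → K4) → Prop := fun u =>
    m.act e₁ u = u ∨ m.act e₁ u = u + LargeFischer.rep m.k 2
  have hP0 : P 0 := Or.inl (m.act_zero _)
  have hPadd : ∀ a b, P a → P b → P (a + b) := fun a b ha hb => by
    simp only [P, m.act_add] at *
    rcases ha with ha | ha <;> rcases hb with hb | hb <;> rw [ha, hb]
    · exact Or.inl rfl
    · exact Or.inr (add_assoc _ _ _).symm
    · exact Or.inr (add_right_comm _ _ _)
    · exact Or.inl (by rw [add_add_add_comm, neg_self6, add_zero])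
  have happ : ∀ (l : List ℕ) (n : ℕ), (∀ i < n, P (vecOf (l.getD i 0))) → ∀ t < 2 ^ n, P (vecOf (app l t)) := by
    intro l
    induction l with
    | nil => intro n _ t _; rw [app, vecOf_zero]; exact hP0
    | cons x l ih =>
      intro n hn t ht
      rcases n with _ | n
      · obtain rfl : t = 0 := by simpa using ht
        have h0 : ∀ l : List ℕ, app l 0 = 0 := fun l => by
          induction l with
          | nil => rfl
          | cons x l ih => simp [app, ih]
        rw [h0, vecOf_zero]; exact hP0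
      · rw [app, vecOf_xor]
        refine hPadd _ _ ?_ (ih n (fun i hi => by simpa using hn (i + 1) (by omega)) _ (by rw [pow_succ] at ht; omega))
        rcases Nat.mod_two_eq_zero_or_one t with h | h <;> rw [h]
        · rw [zero_mul, vecOf_zero]; exact hP0
        · rw [one_mul]; simpa using hn 0 (by omega)
  have hk := (xfacts m.hk).2.2.2.2.1 _ (enc6_lt u)
  simp only [Ext.chkB, Bool.and_eq_true, Bool.or_eq_true, Bool.not_eq_true', Nat.beq_eq, Nat.blt_eq] at hk
  have hlt : app (ext m.k).bI (enc6 u) < 2048 := by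
    refine hk.1.2.resolve_left fun h => ?_
    rw [← vecOf_enc6 u, rep_two, T6_code_zero, trC] at hu
    have h2 := Bool.eq_false_iff.1 h
    have h1 := Bool.eq_false_iff.1 hu
    rw [ne_eq, Nat.blt_eq] at h1 h2
    omega
  have := happ (ext m.k).bB 11 (fun i hi => by
    rcases Nat.lt_or_ge i 10 with h | h
    · exact Or.inl (hB i h)
    · obtain rfl : i = 10 := by omega
      exact hw) _ hlt
  rwa [hk.1.1, vecOf_enc6] at this

end Cfsg.Agent.Spor.LargeFischer
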