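import Cfsg.Agent.Lib.Spor.LargeFischer.PairStructure
import Cfsg.Agent.Lib.Spor.LargeFischer.ExtFacts

/-!
For a conjugate of the centre over the first vector of the long orbit: the linear part of its extraspecial group is
the group fixing the six blocks, the intersection of the two groups lies over the vectors moved only along that
vector, and every element with this property lies in both.
-/

set_option autoImplicit false
set_option maxRecDepth 100000
set_option linter.style.haveILetI false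
set_option linter.unusedSectionVars false
set_option maxHeartbeats 1000000

open Cfsg Cfsg.Agent.Classical Matrix
open Cfsg.Agent.Spor.USixTwo (K4 vecOf)
open Cfsg.Agent.Spor.U62U43 (cover62)

namespace Cfsg.Agent.Spor.LargeFischer

variable {G : Type*} [Group G] [Finite G] {z : G} {Q : Subgroup (Subgroup.centralizer ({z} : Set G))}
  [hQn : Q.Normal] (m : Model z Q) {g : G} {s : Q} (hs : gv s = g * z * g⁻¹) (hne : g * z * g⁻¹ ≠ z)
  (hrep : m.rep s = LargeFischer.rep m.k 2)

include hs hne hrep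

/-- The linear part is the group fixing the blocks. -/
theorem linear_part :
    (∀ d : m.M, (d : Subgroup.centralizer ({z} : Set G)) ∈ Es Q g → ∃ j < 16, m.lin d = kel m.k j) ∧
      ∀ j < 16, ∃ d : m.M, (d : Subgroup.centralizer ({z} : Set G)) ∈ Es Q g ∧ m.lin d = kel m.k j := by
  have hx : g * z * g⁻¹ ∈ QG Q := hs ▸ mem_QG.2 ⟨s, rfl⟩
  obtain ⟨hle, hp, hn⟩ := image_facts m hs (Or.inr (lab_of_conj m hs hne))
  obtain ⟨-, hD, -⟩ := pair_structure m hs hne
  obtain ⟨hr, hk16⟩ := six_blocks m.hk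
  rw [hrep] at hle hn
  set N := ((Es Q g ⊓ m.M).subgroupOf m.M).map m.lin with hN
  let φ : stab m.k (LargeFischer.rep m.k 2) →* alternatingGroup (Fin 6) :=
    (permB m.hk).codRestrict _ fun a => hr ▸ ⟨a, rfl⟩
  have hφ : Function.Surjective φ := fun σ => by
    obtain ⟨a, ha⟩ := (hr.symm ▸ σ.2 : σ.1 ∈ (permB m.hk).range)
    exact ⟨a, Subtype.ext ha⟩
  haveI : Fact (Nat.Prime 2) := ⟨Nat.prime_two⟩
  have hNker : N.subgroupOf (stab m.k (LargeFischer.rep m.k 2)) ≤ (permB m.hk).ker := by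
    have hp' : IsPGroup 2 ((N.subgroupOf (stab m.k (LargeFischer.rep m.k 2))).map φ) :=
      (hp.of_equiv (Subgroup.subgroupOfEquivOfLe hle).symm).map φ
    haveI : IsSimpleGroup (alternatingGroup (Fin 6)) := alternatingGroup.isSimpleGroup (by simp)
    haveI hsub : (N.subgroupOf (stab m.k (LargeFischer.rep m.k 2))).Normal := ⟨fun b hb a => by
      rw [Subgroup.mem_subgroupOf] at hb ⊢
      rw [Subgroup.coe_mul, Subgroup.coe_mul, Subgroup.coe_inv]
      exact hn a.1 a.2 b.1 hb⟩
    haveI hnormal : ((N.subgroupOf (stab m.k (LargeFischer.rep m.k 2))).map φ).Normal := Subgroup.Normal.map hsub φ hφ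
    rcases IsSimpleGroup.eq_bot_or_eq_top_of_normal _ hnormal with h | h
    · exact fun a ha => MonoidHom.mem_ker.2 (congrArg Subtype.val ((Subgroup.eq_bot_iff_forall _).1 h _ ⟨a, ha, rfl⟩))
    · exfalso
      rw [h] at hp'
      obtain ⟨j, hj⟩ := IsPGroup.iff_card.1 hp'
      rw [Subgroup.card_top] at hj
      have h360 : Nat.card (alternatingGroup (Fin 6)) = 360 := by
        have := two_mul_nat_card_alternatingGroup (α := Fin 6)
        rw [Nat.card_perm, Nat.card_fin, show Nat.factorial 6 = 2 * 360 from rfl] at this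
        omega
      rw [h360] at hj
      have h3 : 3 ∣ 2 ^ j := hj ▸ ⟨120, by norm_num⟩
      exact absurd (Nat.prime_three.dvd_of_dvd_pow h3) (by norm_num)
  have hsplit : Nat.card ↥(Es Q g ⊓ m.M) = Nat.card ↥(Es Q g ⊓ Q) * Nat.card N := by
    have h1 := Leech.card_eq_ker_mul_map m.lin ((Es Q g ⊓ m.M).subgroupOf m.M)
    rw [Nat.card_congr (Subgroup.subgroupOfEquivOfLe (inf_le_right : Es Q g ⊓ m.M ≤ m.M)).toEquiv] at h1
    rw [h1]
    congr 1
    rw [← Subgroup.card_map_of_injective (K := (Es Q g ⊓ m.M).subgroupOf m.M ⊓ m.lin.ker) m.M.subtype_injective]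
    congr 2
    ext a
    constructor
    · rintro ⟨b, ⟨hb, hk⟩, rfl⟩
      exact ⟨hb.1, (m.lin_eq_one b).1 hk⟩
    · rintro ⟨ha, hq⟩
      exact ⟨⟨a, m.M_le hq⟩, ⟨⟨ha, m.M_le hq⟩, (m.lin_eq_one ⟨a, m.M_le hq⟩).2 hq⟩, rfl⟩
  have h11 := card_Es_M m hx hne
  rw [hsplit, card_Es_inf, hD] at h11
  have hNeq : N.subgroupOf (stab m.k (LargeFischer.rep m.k 2)) = (permB m.hk).ker := by
    refine Subgroup.eq_of_le_of_card_ge hNker ?_
    rw [hk16, Nat.card_congr (Subgroup.subgroupOfEquivOfLe hle).toEquiv]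
    norm_num at h11
    omega
  refine ⟨fun d hd => ?_, fun j hj => ?_⟩
  · have hmem : m.lin d ∈ N := ⟨d, ⟨hd, d.2⟩, rfl⟩
    have hker : (⟨m.lin d, hle hmem⟩ : stab m.k (LargeFischer.rep m.k 2)) ∈ (permB m.hk).ker :=
      hNeq ▸ Subgroup.mem_subgroupOf.2 hmem
    exact exists_kel m.hk _ hker
  · obtain ⟨hst, hp1⟩ := kel_stab m.hk hj
    have hm : (⟨kel m.k j, hst⟩ : stab m.k (LargeFischer.rep m.k 2)) ∈ N.subgroupOf _ := by
      rw [hNeq]; exact hp1 hst
    obtain ⟨d, ⟨hd, -⟩, e⟩ := Subgroup.mem_subgroupOf.1 hm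
    exact ⟨d, hd, e⟩

/-- Conjugation by the conjugate group moves its part in `Q` only along the vector. -/
theorem moved {d : Subgroup.centralizer ({z} : Set G)} (hd : d ∈ Es Q g) {q : Q} (hq : gv q ∈ PG Q g) :
    qconj d q = q ∨ qconj d q = s * q := by
  have hext := m.ext.map_conj g
  rcases hext.comm _ (mem_Es.1 hd) _ hq with e | e
  · refine Or.inl (Subtype.ext (Subtype.ext ?_))
    show (d : G) * gv q * (d : G)⁻¹ = gv q
    rw [commutatorElement_eq_one_iff_mul_comm.1 e, mul_inv_cancel_right]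
  · refine Or.inr (Subtype.ext (Subtype.ext ?_))
    show (d : G) * gv q * (d : G)⁻¹ = gv s * gv q
    rw [hs, ← e, commutatorElement_def]
    group

theorem rep_cases {d : Subgroup.centralizer ({z} : Set G)} (hd : d ∈ Es Q g) {q : Q} (hq : gv q ∈ PG Q g) :
    m.act d (m.rep q) = m.rep q ∨ m.act d (m.rep q) = m.rep q + LargeFischer.rep m.k 2 := by
  rw [m.act_rep]
  rcases moved m hs hne hrep hd hq with e | e <;> rw [e]
  · exact Or.inl rfl
  · exact Or.inr (by rw [m.rep_mul, hrep, add_comm])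

theorem inSO_of_moves {q : Q} (h : ∀ d ∈ Es Q g, m.act d (m.rep q) = m.rep q ∨
    m.act d (m.rep q) = m.rep q + LargeFischer.rep m.k 2) : (ext m.k).inSO (enc6 (m.rep q)) = true := by
  refine (inSO_iff m.hk (enc6_lt _)).2 fun j hj => ?_
  obtain ⟨d, hd, e⟩ := (linear_part m hs hne hrep).2 j hj
  have hact : m.act (d : Subgroup.centralizer ({z} : Set G)) (m.rep q) =
      vecOf ((ext m.k).kap j (enc6 (m.rep q))) := by
    rw [m.lin_act, e, ← kel_act m.hk hj (enc6_lt _), vecOf_enc6]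
  rcases h _ hd with h' | h'
  · refine Or.inl (vecOf_inj (kap_lt m.hk hj _) (enc6_lt _) ?_)
    rw [← hact, h', vecOf_enc6]
  · refine Or.inr (vecOf_inj (kap_lt m.hk hj _) (Nat.xor_lt_two_pow (n := 12) (enc6_lt _) (v2_lt _)) ?_)
    rw [← hact, h', vecOf_xor, vecOf_enc6, rep_two]

/-- The intersection of the groups lies over the space, onto it. -/
theorem inter_iff (q : Q) : gv q ∈ PG Q g ↔ (ext m.k).inSO (enc6 (m.rep q)) = true := by
  have hfwd : ∀ q : Q, gv q ∈ PG Q g → (ext m.k).inSO (enc6 (m.rep q)) = true := fun q hq =>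
    inSO_of_moves m hs hne hrep fun d hd => rep_cases m hs hne hrep hd hq
  refine ⟨hfwd q, fun hq => ?_⟩
  obtain ⟨-, hD, -⟩ := pair_structure m hs hne
  let f : Q →* Multiplicative (Fin 6 → K4) :=
    MonoidHom.mk' (fun x => Multiplicative.ofAdd (m.rep x)) fun a b => by simp [m.rep_mul, ofAdd_add]
  let ι : Q →* G := (Subgroup.centralizer ({z} : Set G)).subtype.comp Q.subtype
  let D : Subgroup Q := (PG Q g).comap ι
  have hcardD : Nat.card D = 2 ^ 7 := by
    have hι : Function.Injective ι := fun a b e => Subtype.ext (Subtype.ext e)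
    rw [← hD, ← Subgroup.card_map_of_injective (K := D) hι]
    congr 2
    ext x
    constructor
    · rintro ⟨a, ha, rfl⟩; exact ⟨mem_QG.2 ⟨a, rfl⟩, ha⟩
    · rintro ⟨hx, hxp⟩
      obtain ⟨a, rfl⟩ := mem_QG.1 hx
      exact ⟨a, hxp, rfl⟩
  have h1 := Leech.card_eq_ker_mul_map f D
  have hker : Nat.card ↥(D ⊓ f.ker) ≤ 2 := by
    have hsub : ((D ⊓ f.ker : Subgroup Q) : Set Q) ⊆ {(1 : Q), m.zq} := fun x hx => by
      have h0 : m.rep x = 0 := Multiplicative.ofAdd.injective ((MonoidHom.mem_ker.1 hx.2).trans ofAdd_zero.symm)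
      rcases (m.rep_zero x).1 h0 with e | e
      · exact Or.inl (Subtype.ext (Subtype.ext e))
      · exact Or.inr (Subtype.ext (Subtype.ext e))
    refine (Set.ncard_le_ncard hsub (Set.toFinite _)).trans ((Set.ncard_insert_le _ _).trans ?_)
    rw [Set.ncard_singleton]
  let S : Set (Multiplicative (Fin 6 → K4)) :=
    (fun c => Multiplicative.ofAdd (vecOf c)) '' ↑((List.range 4096).filter (ext m.k).inSO).toFinset
  have hsub : ((D.map f : Subgroup (Multiplicative (Fin 6 → K4))) : Set (Multiplicative (Fin 6 → K4))) ⊆ S := by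
    rintro _ ⟨x, hx, rfl⟩
    refine ⟨enc6 (m.rep x), ?_, ?_⟩
    · rw [Finset.mem_coe, List.mem_toFinset, List.mem_filter, List.mem_range]
      exact ⟨enc6_lt _, hfwd x hx⟩
    · show Multiplicative.ofAdd _ = Multiplicative.ofAdd _
      rw [vecOf_enc6]
  have hS : S.ncard ≤ 64 := by
    refine (Set.ncard_image_le (Finset.finite_toSet _)).trans ?_
    rw [Set.ncard_coe_finset, ← (xfacts m.hk).2.2.1, List.countP_eq_length_filter]
    exact List.toFinset_card_le _
  have h2 : 64 ≤ Nat.card (D.map f) := by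
    rw [hcardD] at h1
    have := Nat.mul_le_mul_right (Nat.card (D.map f)) hker
    omega
  have he := Set.eq_of_subset_of_ncard_le hsub (hS.trans (h2.trans_eq (Nat.card_coe_set_eq _).symm)) (Set.toFinite _)
  have hmem : Multiplicative.ofAdd (m.rep q) ∈ S := ⟨enc6 (m.rep q), by
    rw [Finset.mem_coe, List.mem_toFinset, List.mem_filter, List.mem_range]
    exact ⟨enc6_lt _, hq⟩, by show Multiplicative.ofAdd _ = _; rw [vecOf_enc6]⟩
  rw [← he] at hmem
  obtain ⟨x, hx, e⟩ := hmem
  obtain ⟨t, ht⟩ := m.exists_zp (Multiplicative.ofAdd.injective e)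
  have hz : gv (m.zp t) ∈ PG Q g := by
    rcases (show ∀ s : ZMod 2, s = 0 ∨ s = 1 by decide) t with rfl | rfl
    · rw [m.zp_zero]; exact one_mem _
    · rw [m.zp_one, m.gv_zq]; exact z_mem_PG m (hs ▸ mem_QG.2 ⟨s, rfl⟩)
  rw [ht]
  exact mul_mem (show gv x ∈ PG Q g from hx) hz

/-- An element moved only along the vector lies in both groups. -/
theorem mem_of_moves {q : Q} (h : ∀ d ∈ Es Q g, m.act d (m.rep q) = m.rep q ∨
    m.act d (m.rep q) = m.rep q + LargeFischer.rep m.k 2) : gv q ∈ PG Q g :=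
  (inter_iff m hs hne hrep q).2 (inSO_of_moves m hs hne hrep h)

end Cfsg.Agent.Spor.LargeFischer
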