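import Cfsg.Agent.Lib.Spor.LargeFischer.Classes
import Cfsg.Agent.Lib.Spor.LargeFischer.LargeOrbit
import Cfsg.Prelude.Def_Transfer

/-!
The extraspecial groups of two conjugate centres, one lying in the group of the other: they meet in order `2⁷`, and
the centraliser of both centres induces `2⁵.A₆` on the quotient.
-/

set_option autoImplicit false
set_option maxRecDepth 100000
set_option linter.style.haveILetI false
set_option maxHeartbeats 2000000

open Cfsg Cfsg.Agent.Classical Matrix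
open Cfsg.Agent.Spor.USixTwo (K4)
open Cfsg.Agent.Spor.U62U43 (cover62)

namespace Cfsg.Agent.Spor.LargeFischer

variable {G : Type*} [Group G] [Finite G] {z : G} {Q : Subgroup (Subgroup.centralizer ({z} : Set G))}
  [hQn : Q.Normal] (m : Model z Q) {g : G}

/-- The centraliser of both centres. -/
abbrev Cs (z : G) (g : G) : Subgroup (Subgroup.centralizer ({z} : Set G)) :=
  (Subgroup.centralizer ({z} : Set G) ⊓ Subgroup.centralizer ({g * z * g⁻¹} : Set G)).subgroupOf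
    (Subgroup.centralizer ({z} : Set G))

omit [Finite G] in
theorem mem_Cs {a : Subgroup.centralizer ({z} : Set G)} :
    a ∈ Cs z g ↔ (a : G) * (g * z * g⁻¹) = g * z * g⁻¹ * a :=
  ⟨fun h => Subgroup.mem_centralizer_singleton_iff.1 h.2,
    fun h => ⟨a.2, Subgroup.mem_centralizer_singleton_iff.2 h⟩⟩

omit [Finite G] in
theorem isMulComm_of_sq {P : Type*} [Group P] (A : Subgroup P) (h : ∀ a ∈ A, a * a = 1) :
    Cfsg.IsElementaryAbelian 2 A := by
  refine ⟨⟨⟨fun a b => Subtype.ext ?_⟩⟩, fun a ha => by rw [pow_two]; exact h a ha⟩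
  show (a : P) * b = b * a
  calc (a : P) * b = ((a : P) * b)⁻¹ := (inv_eq_of_mul_eq_one_right (h _ (mul_mem a.2 b.2))).symm
    _ = (b : P)⁻¹ * (a : P)⁻¹ := mul_inv_rev _ _
    _ = b * a := by rw [inv_eq_of_mul_eq_one_right (h _ b.2), inv_eq_of_mul_eq_one_right (h _ a.2)]

include m

omit m in
theorem mk_mem_imageE {a : Subgroup.centralizer ({z} : Set G)} :
    (QuotientGroup.mk a : Subgroup.centralizer ({z} : Set G) ⧸ Q) ∈ (Es Q g).map (QuotientGroup.mk' Q) ↔
      ∃ d ∈ Es Q g, d⁻¹ * a ∈ Q :=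
  ⟨fun ⟨d, hd, e⟩ => ⟨d, hd, QuotientGroup.eq.1 e⟩, fun ⟨d, hd, h⟩ => ⟨d, hd, QuotientGroup.eq.2 h⟩⟩

theorem Es_le_Cs : Es Q g ≤ Cs z g := fun _ ha => mem_Cs.2 ((m.ext.map_conj g).central _ (mem_Es.1 ha))

/-- All the facts. -/
theorem pair_structure {s : Q} (hs : gv s = g * z * g⁻¹) (hne : g * z * g⁻¹ ≠ z) :
    Cfsg.IsElementaryAbelian 2 (QG Q ⊓ PG Q g) ∧ Nat.card ↥(QG Q ⊓ PG Q g) = 2 ^ 7 ∧
    (Es Q g).map (QuotientGroup.mk' Q) ≤ (Cs z g).map (QuotientGroup.mk' Q) ∧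
    (∀ x ∈ (Cs z g).map (QuotientGroup.mk' Q), ∀ y ∈ (Es Q g).map (QuotientGroup.mk' Q),
      x * y * x⁻¹ ∈ (Es Q g).map (QuotientGroup.mk' Q)) ∧
    Cfsg.IsElementaryAbelian 2 ((Es Q g).map (QuotientGroup.mk' Q)) ∧
    Nat.card ((Es Q g).map (QuotientGroup.mk' Q)) = 32 ∧
    ∃ _ : (((Es Q g).map (QuotientGroup.mk' Q)).subgroupOf ((Cs z g).map (QuotientGroup.mk' Q))).Normal,
      Nonempty (↥((Cs z g).map (QuotientGroup.mk' Q)) ⧸
        ((Es Q g).map (QuotientGroup.mk' Q)).subgroupOf ((Cs z g).map (QuotientGroup.mk' Q)) ≃*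
          alternatingGroup (Fin 6)) := by
  have hext := m.ext.map_conj g
  have hx : g * z * g⁻¹ ∈ QG Q := hs ▸ mem_QG.2 ⟨s, rfl⟩
  have hlab := lab_of_conj m hs hne
  obtain ⟨hle, hp, hn⟩ := image_facts m hs (Or.inr hlab)
  obtain ⟨φ, hφ, hφ16⟩ := six_action m.hk hlab
  haveI : Fact (Nat.Prime 2) := ⟨Nat.prime_two⟩
  -- the linear image lies in the kernel
  set N := ((Es Q g ⊓ m.M).subgroupOf m.M).map m.lin with hN
  have hNker : N.subgroupOf (stab m.k (m.rep s)) ≤ φ.ker := by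
    have hp' : IsPGroup 2 ((N.subgroupOf (stab m.k (m.rep s))).map φ) :=
      (hp.of_equiv (Subgroup.subgroupOfEquivOfLe hle).symm).map φ
    haveI : IsSimpleGroup (alternatingGroup (Fin 6)) := alternatingGroup.isSimpleGroup (by simp)
    haveI hsub : (N.subgroupOf (stab m.k (m.rep s))).Normal := ⟨fun b hb a => by
      rw [Subgroup.mem_subgroupOf] at hb ⊢
      rw [Subgroup.coe_mul, Subgroup.coe_mul, Subgroup.coe_inv]
      exact hn a.1 a.2 b.1 hb⟩
    haveI hnormal : ((N.subgroupOf (stab m.k (m.rep s))).map φ).Normal := Subgroup.Normal.map hsub φ hφ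
    rcases IsSimpleGroup.eq_bot_or_eq_top_of_normal _ hnormal with h | h
    · exact fun a ha => MonoidHom.mem_ker.2 ((Subgroup.eq_bot_iff_forall _).1 h _ ⟨a, ha, rfl⟩)
    · exfalso
      rw [h] at hp'
      obtain ⟨j, hj⟩ := IsPGroup.iff_card.1 hp'
      rw [Subgroup.card_top] at hj
      have h360 : Nat.card (alternatingGroup (Fin 6)) = 360 := by
        have := two_mul_nat_card_alternatingGroup (α := Fin 6)
        rw [Nat.card_perm, Nat.card_fin, show Nat.factorial 6 = 2 * 360 from rfl] at this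
        omega
      rw [h360] at hj
      have h3 : 3 ∣ 2 ^ j := hj ▸ ⟨120, by norm_num⟩
      exact absurd (Nat.prime_three.dvd_of_dvd_pow h3) (by norm_num)
  have hN16 : Nat.card N ≤ 16 := by
    rw [← hφ16, ← Nat.card_congr (Subgroup.subgroupOfEquivOfLe hle).toEquiv]
    exact Subgroup.card_le_of_le hNker
  -- the linear part modulo Q
  have hsplit : Nat.card ↥(Es Q g ⊓ m.M) = Nat.card ↥(Es Q g ⊓ Q) * Nat.card N := by
    have h1 := Leech.card_eq_ker_mul_map m.lin ((Es Q g ⊓ m.M).subgroupOf m.M)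
    rw [Nat.card_congr (Subgroup.subgroupOfEquivOfLe (inf_le_right : Es Q g ⊓ m.M ≤ m.M)).toEquiv] at h1
    rw [h1]
    congr 1
    rw [← Subgroup.card_map_of_injective (K := (Es Q g ⊓ m.M).subgroupOf m.M ⊓ m.lin.ker) m.M.subtype_injective]
    congr 2
    ext a
    constructor
    · rintro ⟨b, ⟨hb, hk⟩, rfl⟩
      exact ⟨hb.1, (m.lin_eq_one b).1 hk⟩
    · rintro ⟨ha, hq⟩
      exact ⟨⟨a, m.M_le hq⟩, ⟨⟨ha, m.M_le hq⟩, (m.lin_eq_one ⟨a, m.M_le hq⟩).2 hq⟩, rfl⟩
  have h11 := card_Es_M m hx hne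
  have hDle := card_inter_le m hx hne
  rw [hsplit, card_Es_inf] at h11
  have hD : Nat.card ↥(QG Q ⊓ PG Q g) = 2 ^ 7 := by
    refine le_antisymm hDle ?_
    by_contra hlt
    have := lt_of_le_of_lt (Nat.mul_le_mul_left (Nat.card ↥(QG Q ⊓ PG Q g)) hN16)
      (Nat.mul_lt_mul_of_pos_right (not_le.1 hlt) (by norm_num : 0 < 16))
    have := lt_of_le_of_lt h11 this
    norm_num at this
  have hNeq : Nat.card N = 16 := by
    rw [hD] at h11
    refine le_antisymm hN16 ?_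
    norm_num at h11
    omega
  have hNker' : N.subgroupOf (stab m.k (m.rep s)) = φ.ker := by
    refine Subgroup.eq_of_le_of_card_ge hNker ?_
    rw [hφ16, Nat.card_congr (Subgroup.subgroupOfEquivOfLe hle).toEquiv, hNeq]
  -- the conjugate group is not in the linear part
  have hnotM : ∃ e ∈ Es Q g, e ∉ m.M := by
    by_contra hcon
    push Not at hcon
    have h12 := card_Es m hx hne
    rw [← inf_eq_left.2 (show Es Q g ≤ m.M from hcon), hsplit, card_Es_inf, hD, hNeq] at h12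
    norm_num at h12
  -- the image of the conjugate group
  have hsqE : ∀ b ∈ (Es Q g).map (QuotientGroup.mk' Q), b * b = 1 := by
    rintro _ ⟨a, ha, rfl⟩
    show (QuotientGroup.mk (a * a) : _ ⧸ Q) = 1
    rw [QuotientGroup.eq_one_iff]
    have hm : ((a * a : Subgroup.centralizer ({z} : Set G)) : G) ∈ QG Q := by
      rw [Subgroup.coe_mul]
      rcases hext.sq _ (mem_Es.1 ha) with e' | e' <;> rw [e']
      exacts [one_mem _, hx]
    obtain ⟨q, hq⟩ := mem_QG.1 hm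
    rw [← Subtype.ext hq]
    exact q.2
  have hE32 : Nat.card ((Es Q g).map (QuotientGroup.mk' Q)) = 32 := by
    have h1 := Leech.card_eq_ker_mul_map (QuotientGroup.mk' Q) (Es Q g)
    rw [card_Es m hx hne, QuotientGroup.ker_mk', card_Es_inf, hD] at h1
    have : (2 : ℕ) ^ 12 = 2 ^ 7 * 32 := by norm_num
    rw [this] at h1
    exact (Nat.eq_of_mul_eq_mul_left (by norm_num) h1).symm
  have hnorm : ∀ x ∈ (Cs z g).map (QuotientGroup.mk' Q), ∀ y ∈ (Es Q g).map (QuotientGroup.mk' Q),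
      x * y * x⁻¹ ∈ (Es Q g).map (QuotientGroup.mk' Q) := by
    rintro _ ⟨c, hc, rfl⟩ _ ⟨d, hd, rfl⟩
    exact ⟨c * d * c⁻¹, mem_Es.2 (hext.norm _ (mem_Cs.1 hc) _ (mem_Es.1 hd)), by rw [map_mul, map_mul, map_inv]⟩
  refine ⟨isMulComm_of_sq _ (inter_sq m hne), hD, Subgroup.map_mono (Es_le_Cs m), hnorm, isMulComm_of_sq _ hsqE,
    hE32, ?_⟩
  set X := (Cs z g).map (QuotientGroup.mk' Q)
  set E := (Es Q g).map (QuotientGroup.mk' Q) with hE
  haveI hEn : (E.subgroupOf X).Normal := ⟨fun b hb a => hnorm a.1 a.2 b.1 hb⟩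
  refine ⟨hEn, ?_⟩
  -- the linear part of the centraliser maps onto both
  let B : Subgroup m.M := (Cs z g).subgroupOf m.M
  have hBstab : ∀ b : B, m.lin b.1 ∈ stab m.k (m.rep s) := fun b => by
    refine mem_stab.2 ⟨m.lin_mem _, ?_⟩
    rw [← m.lin_act, m.act_rep]
    congr 1
    refine Subtype.ext (Subtype.ext ?_)
    show ((b.1 : Subgroup.centralizer ({z} : Set G)) : G) * gv s * ((b.1 : Subgroup.centralizer ({z} : Set G)) : G)⁻¹ = gv s
    rw [hs, mul_inv_eq_iff_eq_mul]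
    exact mem_Cs.1 (Subgroup.mem_subgroupOf.1 b.2)
  let α : B →* alternatingGroup (Fin 6) :=
    φ.comp ((m.lin.comp B.subtype).codRestrict _ hBstab)
  have hα : Function.Surjective α := fun σ => by
    obtain ⟨a, rfl⟩ := hφ σ
    obtain ⟨b, hb, hc⟩ := m.exists_centralizing (Or.inr hlab) a.2
    refine ⟨⟨b, mem_Cs.2 (by rw [← hs]; exact hc)⟩, congrArg φ (Subtype.ext hb)⟩
  let β : B →* X ⧸ E.subgroupOf X :=
    (QuotientGroup.mk' (E.subgroupOf X)).comp
      (((QuotientGroup.mk' Q).comp (m.M.subtype.comp B.subtype)).codRestrict X fun b =>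
        ⟨_, Subgroup.mem_subgroupOf.1 b.2, rfl⟩)
  have hβ : Function.Surjective β := fun u => by
    obtain ⟨⟨x, hxX⟩, rfl⟩ := QuotientGroup.mk'_surjective (E.subgroupOf X) u
    obtain ⟨c, hc, rfl⟩ := hxX
    obtain ⟨e₀, he, heM⟩ := hnotM
    by_cases hcM : c ∈ m.M
    · exact ⟨⟨⟨c, hcM⟩, hc⟩, rfl⟩
    · have hmem : c * e₀ ∈ m.M := ((Subgroup.mul_mem_iff_of_index_two m.M_index).2 (iff_of_false hcM heM))
      refine ⟨⟨⟨c * e₀, hmem⟩, mul_mem hc (Es_le_Cs m he)⟩, QuotientGroup.eq.2 ?_⟩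
      show (QuotientGroup.mk (c * e₀) : _ ⧸ Q)⁻¹ * QuotientGroup.mk c ∈ E
      rw [← QuotientGroup.mk_inv, ← QuotientGroup.mk_mul, show (c * e₀)⁻¹ * c = e₀⁻¹ by group]
      exact ⟨_, inv_mem he, rfl⟩
  have hkereq : β.ker = α.ker := by
    ext b
    rw [MonoidHom.mem_ker, MonoidHom.mem_ker]
    show (QuotientGroup.mk _ : X ⧸ E.subgroupOf X) = 1 ↔ φ _ = 1
    rw [QuotientGroup.eq_one_iff, ← MonoidHom.mem_ker, ← hNker', Subgroup.mem_subgroupOf, Subgroup.mem_subgroupOf]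
    show (QuotientGroup.mk (b.1 : Subgroup.centralizer ({z} : Set G)) : _ ⧸ Q) ∈ E ↔ m.lin b.1 ∈ N
    rw [hE, mk_mem_imageE]
    constructor
    · rintro ⟨d, hd, hq⟩
      have hdM : d ∈ m.M := by
        have h1 := m.M_le hq
        have : d = (b.1 : Subgroup.centralizer ({z} : Set G)) * (d⁻¹ * b.1)⁻¹ := by group
        rw [this]; exact mul_mem b.1.2 (inv_mem h1)
      refine ⟨⟨d, hdM⟩, ⟨hd, hdM⟩, ?_⟩
      have := (m.lin_eq_one (⟨d, hdM⟩⁻¹ * b.1)).2 hq
      rw [map_mul, map_inv, inv_mul_eq_one] at this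
      exact this
    · rintro ⟨d, ⟨hd, -⟩, e⟩
      exact ⟨d, hd, (m.lin_eq_one (d⁻¹ * b.1)).1 (by rw [map_mul, map_inv, e, inv_mul_cancel])⟩
  exact ⟨((QuotientGroup.quotientKerEquivOfSurjective β hβ).symm.trans
    (QuotientGroup.quotientMulEquivOfEq hkereq)).trans (QuotientGroup.quotientKerEquivOfSurjective α hα)⟩

end Cfsg.Agent.Spor.LargeFischer
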