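import Cfsg.Agent.Lib.Spor.LargeFischer.Outer

/-!
The centraliser of an element inducing a scalar: it lies in the linear half and maps onto the class, a perfect group,
with a kernel of order two.
-/

set_option autoImplicit false
set_option maxRecDepth 100000
set_option linter.style.haveILetI false
set_option linter.unusedSectionVars false

open Cfsg Cfsg.Agent.Classical Cfsg.Agent.Spor.Cos Matrix
open Cfsg.Agent.Spor.USixTwo (K4 vecOf)
open Cfsg.Agent.Spor.U62U43 (cover62)

namespace Cfsg.Agent.Spor.LargeFischer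

variable {k : ℕ}

theorem omS_mem (hk : k < 3) : omS ∈ cover62 k := by
  have := kgen_mem hk 3
  rwa [kgen, if_neg (by omega)] at this

theorem omS_cube : omS ^ 3 = 1 := by
  refine ext_suv fun i _ => ?_
  rw [pow_three, mul_smul, mul_smul, omS_smul, omS_smul, omS_smul, smul_smul, smul_smul, one_smul]
  rw [show K4.of 2 * K4.of 2 * K4.of 2 = 1 by decide +kernel, one_smul]

theorem omS_ne : omS ≠ 1 := fun h => by
  have e := congrArg (fun x : SUV => x • vecOf 1) h
  simp only [omS_smul, one_smul] at e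
  exact absurd (congrFun e 0) (by decide +kernel)

theorem omS_central (x : SUV) : x * omS = omS * x := by
  refine ext_suv fun i _ => ?_
  rw [mul_smul, mul_smul, omS_smul, omS_smul, smul_scalar]

theorem center_cover (hk : k < 3) :
    Subgroup.center (cover62 k) = Subgroup.zpowers (⟨omS, omS_mem hk⟩ : cover62 k) := by
  obtain ⟨h3, -⟩ := U62U43.cover_good hk
  refine (Subgroup.eq_of_le_of_card_ge ?_ ?_).symm
  · rw [Subgroup.zpowers_le]
    exact Subgroup.mem_center_iff.2 fun g => Subtype.ext (omS_central g)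
  · haveI : Fact (Nat.Prime 3) := ⟨Nat.prime_three⟩
    rw [h3, Nat.card_zpowers, orderOf_eq_prime (Subtype.ext omS_cube) fun h => omS_ne (congrArg Subtype.val h)]

theorem normal_three_central (hk : k < 3) {A : Subgroup (cover62 k)} (hA : A.Normal) (h3 : Nat.card A = 3) :
    A = Subgroup.center (cover62 k) := by
  obtain ⟨hz, ⟨e⟩⟩ := U62U43.cover_good hk
  have hle : A ≤ Subgroup.center (cover62 k) := by
    let f : cover62 k →* U62U43.G43 := e.toMonoidHom.comp (QuotientGroup.mk' _)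
    have hf : Function.Surjective f := e.surjective.comp (QuotientGroup.mk'_surjective _)
    rcases IsSimpleGroup.eq_bot_or_eq_top_of_normal _ (Subgroup.Normal.map hA f hf) with h | h
    · intro a ha
      have h1 : f a = 1 := (Subgroup.eq_bot_iff_forall _).1 h _ ⟨a, ha, rfl⟩
      exact (QuotientGroup.eq_one_iff a).1 ((map_eq_one_iff e e.injective).1 h1)
    · exfalso
      have h1 := Subgroup.card_map_dvd (H := A) f
      rw [h, Subgroup.card_top, UFourThree.card_G43, h3] at h1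
      norm_num at h1
  exact Subgroup.eq_of_le_of_card_ge hle (by rw [hz, h3])

theorem count_cons_pow {A : Type*} [CommGroup A] (f : ℕ → A) (hf : ∀ s, f s ^ 3 = 1) :
    ∀ w : List ℕ, (∀ s ∈ w, s < 3) → (w.map f).prod = f 0 ^ w.count 0 * f 1 ^ w.count 1 * f 2 ^ w.count 2
  | [], _ => by simp
  | s :: w, h => by
    rw [List.map_cons, List.prod_cons, count_cons_pow f hf w fun t ht => h t (List.mem_cons_of_mem _ ht)]
    have hs := h s (List.mem_cons_self ..)
    interval_cases s <;> simp [List.count_cons, pow_succ] <;>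
      simp only [mul_comm, mul_left_comm, mul_assoc]

theorem cover_perfect (hk : k < 3) : commutator (cover62 k) = ⊤ := by
  obtain ⟨-, ⟨e⟩⟩ := U62U43.cover_good hk
  let f : cover62 k →* U62U43.G43 := e.toMonoidHom.comp (QuotientGroup.mk' _)
  have hf : Function.Surjective f := e.surjective.comp (QuotientGroup.mk'_surjective _)
  have hG : commutator U62U43.G43 = ⊤ := by
    refine ((IsSimpleGroup.eq_bot_or_eq_top_of_normal _ inferInstance).resolve_left fun h => ?_)
    have hc : (⊤ : Subgroup U62U43.G43) ≤ Subgroup.center _ := fun x _ => Subgroup.mem_center_iff.2 fun y =>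
      commutatorElement_eq_one_iff_mul_comm.1 ((Subgroup.eq_bot_iff_forall _).1 h _
        (Subgroup.commutator_mem_commutator (Subgroup.mem_top y) (Subgroup.mem_top x)))
    rw [U62U43.center_G43] at hc
    have h1 := Subgroup.card_le_of_le hc
    rw [Subgroup.card_top, Subgroup.card_bot, UFourThree.card_G43] at h1
    norm_num at h1
  let π : cover62 k →* Abelianization (cover62 k) := Abelianization.of
  have hgen : ∀ x : cover62 k, ∃ c ∈ Subgroup.center (cover62 k), π x = π c := fun x => by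
    have hx : f x ∈ (commutator (cover62 k)).map f := by
      rw [commutator_def, Subgroup.map_commutator, Subgroup.map_top_of_surjective f hf, ← commutator_def, hG]
      trivial
    obtain ⟨d, hd, ed⟩ := hx
    refine ⟨d⁻¹ * x, (QuotientGroup.eq_one_iff _).1 ((map_eq_one_iff e e.injective).1
      (show f (d⁻¹ * x) = 1 by rw [map_mul, map_inv, ed, inv_mul_cancel])), ?_⟩
    have h0 : π d = 1 := MonoidHom.mem_ker.1 ((Abelianization.ker_of (cover62 k)).symm ▸ hd)
    rw [map_mul, map_inv, h0, inv_one, one_mul]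
  have hcube : ∀ x : cover62 k, π x ^ 3 = 1 := fun x => by
    obtain ⟨c, hc, ec⟩ := hgen x
    obtain ⟨i, rfl⟩ := Subgroup.mem_zpowers_iff.1 (center_cover hk ▸ hc)
    rw [ec, ← map_pow, ← zpow_natCast, ← _root_.zpow_mul, mul_comm, _root_.zpow_mul, zpow_natCast,
      show (⟨omS, omS_mem hk⟩ : cover62 k) ^ 3 = 1 from Subtype.ext omS_cube, _root_.one_zpow, map_one]
  have hom : π ⟨omS, omS_mem hk⟩ = 1 := by
    have h := (xfacts hk).2.2.2.2.2.2.2.2.2.2
    simp only [Ext.chkOm, Bool.and_eq_true, List.all_eq_true, List.mem_range, Nat.blt_eq, Nat.beq_eq] at h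
    obtain ⟨⟨hw, hc⟩, himg⟩ := h
    let gm : ℕ → cover62 k := fun s => ⟨kgen k s, kgen_mem hk s⟩
    have hev : ((ev gm (ext k).omW : cover62 k) : SUV) = ev (kgen k) (ext k).omW := ev_map (cover62 k).subtype gm _
    have he : ev gm (ext k).omW = ⟨omS, omS_mem hk⟩ := Subtype.ext (ext_suv fun b hb => by
      rw [hev]
      show _ = omS • vecOf (2 ^ b)
      have h2 : 2 ^ b < 4096 := Nat.pow_lt_pow_right (by norm_num : 1 < 2) hb
      rw [(word_act hk _ (fun s hs => (hw s hs).trans (by norm_num)) _ h2).1, himg b hb, omS_smul, (om_code hk h2).1])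
    rw [← he, ev_map π gm, show ev (fun s => π (gm s)) (ext k).omW = ((ext k).omW.map fun s => π (gm s)).prod from ?_,
      count_cons_pow _ (fun s => hcube _) _ hw]
    · have hp : ∀ s < 3, π (gm s) ^ (ext k).omW.count s = 1 := fun s hs => by
        obtain ⟨j, hj⟩ := Nat.dvd_of_mod_eq_zero (hc s hs)
        rw [hj, pow_mul, hcube, one_pow]
      rw [hp 0 (by norm_num), hp 1 (by norm_num), hp 2 (by norm_num), one_mul, one_mul]
    · induction (ext k).omW with
      | nil => rfl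
      | cons s w ih => rw [List.map_cons, List.prod_cons, ← ih]; rfl
  refine eq_top_iff.2 fun x _ => ?_
  obtain ⟨c, hc, ec⟩ := hgen x
  obtain ⟨i, rfl⟩ := Subgroup.mem_zpowers_iff.1 (center_cover hk ▸ hc)
  rw [map_zpow, hom, _root_.one_zpow] at ec
  exact (Abelianization.ker_of (cover62 k)) ▸ MonoidHom.mem_ker.2 ec

variable {G : Type*} [Group G] [Finite G] {z : G} {Q : Subgroup (Subgroup.centralizer ({z} : Set G))}
  [hQn : Q.Normal] (m : Model z Q)

include m

/-- A subgroup of order three normal modulo `Q` induces the scalars. -/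
theorem exists_scalar {X : Subgroup (Subgroup.centralizer ({z} : Set G))} (hX : Nat.card X = 3) (hXQ : (X ⊔ Q).Normal) :
    ∃ x₀ ∈ X, x₀ ∈ m.M ∧ m.Scalar x₀ ∧ X = Subgroup.zpowers x₀ := by
  haveI : Fact (Nat.Prime 3) := ⟨Nat.prime_three⟩
  have hcube : ∀ y ∈ X, y ^ 3 = 1 := fun y hy => by
    have := pow_card_eq_one' (x := (⟨y, hy⟩ : X))
    rw [hX] at this
    exact congrArg Subtype.val this
  have hXM : X ≤ m.M := fun y hy => by
    have h4 : y = y ^ 2 * y ^ 2 := by rw [← pow_add, show 2 + 2 = 3 + 1 from rfl, pow_add, hcube y hy, one_mul, pow_one]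
    rw [h4]
    exact Subgroup.mul_self_mem_of_index_two m.M_index _
  have hcardQ : Nat.card Q = 2 ^ 13 := by
    rw [← m.card_QG, Subgroup.card_map_of_injective (Subgroup.subtype_injective _)]
  have hXQ' : ∀ y ∈ X, y ∈ Q → y = 1 := fun y hy hq => by
    have h1 : orderOf y ∣ 3 := orderOf_dvd_of_pow_eq_one (hcube y hy)
    have h2 : orderOf y ∣ 2 ^ 13 := hcardQ ▸ (Subgroup.orderOf_mk y hq ▸ orderOf_dvd_natCard (⟨y, hq⟩ : Q))
    rw [← orderOf_eq_one_iff]
    exact Nat.eq_one_of_dvd_coprimes (by norm_num) h1 h2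
  -- the image
  let ψ : m.M →* cover62 m.k := m.lin.codRestrict _ m.lin_mem
  have hψ : Function.Surjective ψ := fun a => by
    obtain ⟨b, hb⟩ := m.exists_lin a.2
    exact ⟨b, Subtype.ext hb⟩
  set A := (X.subgroupOf m.M).map ψ with hA
  have hinj : ∀ a ∈ X.subgroupOf m.M, ψ a = 1 → a = 1 := fun a ha h =>
    Subtype.ext (hXQ' _ ha ((m.lin_eq_one a).1 (congrArg Subtype.val h)))
  have hcard : Nat.card A = 3 := by
    have h1 := Leech.card_eq_ker_mul_map ψ (X.subgroupOf m.M)
    rw [Nat.card_congr (Subgroup.subgroupOfEquivOfLe hXM).toEquiv, hX,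
      show X.subgroupOf m.M ⊓ ψ.ker = ⊥ from (Subgroup.eq_bot_iff_forall _).2 fun a ha => hinj a ha.1 ha.2,
      Subgroup.card_bot, one_mul] at h1
    exact h1.symm
  have hAn : A.Normal := ⟨fun b hb a => by
    obtain ⟨d, hd, rfl⟩ := hb
    obtain ⟨c, rfl⟩ := hψ a
    have hmem : (c * d * c⁻¹ : m.M).1 ∈ X ⊔ Q :=
      hXQ.conj_mem _ ((le_sup_left : X ≤ X ⊔ Q) hd) _
    rw [Subgroup.mem_sup_of_normal_right] at hmem
    obtain ⟨x, hx, q, hq, hxq⟩ := hmem
    refine ⟨⟨x, hXM hx⟩, hx, ?_⟩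
    rw [← map_inv, ← map_mul, ← map_mul]
    refine Subtype.ext ?_
    show m.lin _ = m.lin _
    rw [← mul_inv_eq_one, ← map_inv, ← map_mul, m.lin_eq_one]
    show x * ((c * d * c⁻¹ : m.M) : Subgroup.centralizer ({z} : Set G))⁻¹ ∈ Q
    rw [← hxq, show x * (x * q)⁻¹ = x * q⁻¹ * x⁻¹ by group]
    exact hQn.conj_mem _ (inv_mem hq) x⟩
  have hAc := normal_three_central m.hk hAn hcard
  have hom : (⟨omS, omS_mem m.hk⟩ : cover62 m.k) ∈ A := by
    rw [hAc, center_cover m.hk]; exact Subgroup.mem_zpowers _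
  obtain ⟨a, ha, hae⟩ := hom
  refine ⟨a, ha, a.2, fun v => ?_, ?_⟩
  · rw [m.lin_act, show m.lin a = omS from congrArg Subtype.val hae, omS_smul]
  · refine (Subgroup.eq_of_le_of_card_ge (Subgroup.zpowers_le.2 (show (a : Subgroup.centralizer ({z} : Set G)) ∈ X from ha)) ?_).symm
    rw [hX, Nat.card_zpowers, orderOf_eq_prime (hcube (a : Subgroup.centralizer ({z} : Set G)) ha) fun h => ?_]
    have e : ψ a = 1 := by rw [show a = 1 from Subtype.ext h, map_one]
    exact omS_ne (congrArg Subtype.val (hae.symm.trans e))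

variable {x₀ : Subgroup.centralizer ({z} : Set G)} (hx : m.Scalar x₀)

include hx

theorem commute_act {c : Subgroup.centralizer ({z} : Set G)} (hc : c * x₀ = x₀ * c) (u : Fin 6 → K4) :
    m.act c (K4.of 2 • u) = K4.of 2 • m.act c u := by
  rw [← hx, ← hx, ← m.act_mul, ← m.act_mul, hc]

theorem cent_le (hF : ∃ g : G, g * z * g⁻¹ ∈ QG Q ∧ g * z * g⁻¹ ≠ z) {c : Subgroup.centralizer ({z} : Set G)}
    (hc : c * x₀ = x₀ * c) : c ∈ m.M := by
  obtain ⟨g, s, s', hs, hne, hrep, hs', hne', hrep'⟩ := exists_pair m hF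
  by_contra hcM
  obtain ⟨e, he, heM⟩ : ∃ e ∈ Es Q g, e ∉ m.M := by
    by_contra hcon
    push Not at hcon
    have h1 := card_Es m (hs ▸ mem_QG.2 ⟨s, rfl⟩) hne
    obtain ⟨hlp, -⟩ := linear_part m hs hne hrep
    let ψ : Es Q g →* SUV := m.lin.comp (Subgroup.inclusion hcon)
    have hr : Nat.card ψ.range ≤ 16 := by
      have hsub : ((ψ.range : Subgroup SUV) : Set SUV) ⊆ (fun j => kel m.k j) '' (↑(Finset.range 16) : Set ℕ) := by
        rintro _ ⟨a, rfl⟩
        obtain ⟨j, hj, e⟩ := hlp ⟨a.1, hcon _ a.2⟩ a.2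
        exact ⟨j, Finset.mem_coe.2 (Finset.mem_range.2 hj), e.symm⟩
      refine ((Nat.card_coe_set_eq _).trans_le ((Set.ncard_le_ncard hsub ((Finset.finite_toSet _).image _)).trans
        (Set.ncard_image_le (Finset.finite_toSet _)))).trans ?_
      rw [Set.ncard_coe_finset, Finset.card_range]
    have hk : Nat.card ψ.ker ≤ Nat.card ↥(Es Q g ⊓ Q) :=
      Nat.card_le_card_of_injective (fun a => (⟨a.1.1, a.1.2, (m.lin_eq_one _).1 a.2⟩ : ↥(Es Q g ⊓ Q)))
        fun a b h => Subtype.ext (Subtype.ext (congrArg Subtype.val h :))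
    rw [card_Es_inf] at hk
    have h2 := card_inter_le m (hs ▸ mem_QG.2 ⟨s, rfl⟩) hne
    rw [← ψ.ker.card_mul_index, Subgroup.index_ker] at h1
    have := Nat.mul_le_mul (hk.trans h2) hr
    rw [h1] at this
    norm_num at this
  have hce : c * e ∈ m.M := (Subgroup.mul_mem_iff_of_index_two m.M_index).2 (iff_of_false hcM heM)
  refine not_linear m hs hne hrep hs' hne' hrep' he heM fun u => ?_
  have e1 : ∀ v, m.act e v = m.act c⁻¹ (m.lin ⟨c * e, hce⟩ • v) := fun v => by
    rw [← m.lin_act, ← m.act_mul]; simp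
  have hci : c⁻¹ * x₀ = x₀ * c⁻¹ := ((Commute.inv_left (show Commute c x₀ from hc))).eq
  rw [e1, e1, smul_scalar, commute_act m hx hci]

/-- Elements commuting with the scalar element map onto the class. -/
theorem exists_cent (hx₃ : x₀ ^ 3 = 1) {a : SUV} (ha : a ∈ cover62 m.k) :
    ∃ c : m.M, (c : Subgroup.centralizer ({z} : Set G)) * x₀ = x₀ * c ∧ m.lin c = a := by
  obtain ⟨b, rfl⟩ := m.exists_lin ha
  set bv : Subgroup.centralizer ({z} : Set G) := b.1
  set r := bv * x₀ * bv⁻¹ * x₀⁻¹ with hr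
  have hrQ : r ∈ Q := (m.act_ker r).1 fun v => by
    rw [hr, m.act_mul, m.act_mul, m.act_mul]
    have e1 : ∀ w, m.act bv⁻¹ (K4.of 2 • w) = K4.of 2 • m.act bv⁻¹ w := fun w => by
      rw [show bv⁻¹ = ((b⁻¹ : m.M) : Subgroup.centralizer ({z} : Set G)) from rfl, m.lin_act, m.lin_act, smul_scalar]
    have e2 : ∀ w, m.act x₀⁻¹ w = (K4.of 2 * K4.of 2) • w := fun w => by
      refine m.act_inj x₀ ?_
      rw [← m.act_mul, mul_inv_cancel, m.act_one, hx, smul_smul,
        show K4.of 2 * (K4.of 2 * K4.of 2) = 1 by decide +kernel, one_smul]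
    rw [e2, mul_smul, e1, e1, hx, smul_smul, smul_smul, show K4.of 2 * K4.of 2 * K4.of 2 = 1 by decide +kernel,
      one_smul, ← m.act_mul, mul_inv_cancel, m.act_one]
  obtain ⟨q, hq⟩ := m.rep_surj (K4.of 2 • m.rep ⟨r, hrQ⟩)
  have hx3 : x₀ * x₀ * x₀ = 1 := by rw [← hx₃, pow_three, mul_assoc]
  let rq : Q := q * (qconj x₀ q)⁻¹
  have hzero : ∀ w : Q, (w : Subgroup.centralizer ({z} : Set G)) * x₀ * ((w : Subgroup.centralizer ({z} : Set G)) * x₀) *
      ((w : Subgroup.centralizer ({z} : Set G)) * x₀) = x₀ * x₀ * x₀ → Model.zc x₀ w = 0 := fun w hw => by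
    refine m.zp_inj ?_
    rw [← m.prd_spec hx, m.zp_zero]
    refine Subtype.ext ?_
    show (w : Subgroup.centralizer ({z} : Set G)) * (x₀ * w * x₀⁻¹) * (x₀ * (x₀ * w * x₀⁻¹) * x₀⁻¹) = 1
    calc _ = (w : Subgroup.centralizer ({z} : Set G)) * x₀ * ((w : Subgroup.centralizer ({z} : Set G)) * x₀) *
          ((w : Subgroup.centralizer ({z} : Set G)) * x₀) * (x₀ * x₀ * x₀)⁻¹ := by group
      _ = 1 := by rw [hw, mul_inv_cancel]
  have h3c : bv * (x₀ * x₀ * x₀) * bv⁻¹ = x₀ * x₀ * x₀ ∧ (q : Subgroup.centralizer ({z} : Set G)) * (x₀ * x₀ * x₀) *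
      (q : Subgroup.centralizer ({z} : Set G))⁻¹ = x₀ * x₀ * x₀ := by
    rw [hx3]; exact ⟨by group, by group⟩
  have heq : rq = ⟨r, hrQ⟩ := by
    refine m.coord_inj hx ?_ ?_
    · rw [m.rep_mul, m.rep_inv, m.rep_conj, hx, hq, smul_smul]
      funext i
      simp only [Pi.add_apply, Pi.smul_apply, smul_eq_mul]
      generalize m.rep ⟨r, hrQ⟩ i = t
      revert t; decide +kernel
    · rw [hzero rq, hzero ⟨r, hrQ⟩]
      · show r * x₀ * (r * x₀) * (r * x₀) = _
        rw [← h3c.1, hr]; group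
      · show (q : Subgroup.centralizer ({z} : Set G)) * (x₀ * q * x₀⁻¹)⁻¹ * x₀ *
          ((q : Subgroup.centralizer ({z} : Set G)) * (x₀ * q * x₀⁻¹)⁻¹ * x₀) *
          ((q : Subgroup.centralizer ({z} : Set G)) * (x₀ * q * x₀⁻¹)⁻¹ * x₀) = _
        rw [← h3c.2]; group
  refine ⟨(⟨q, m.M_le q.2⟩ : m.M)⁻¹ * b, ?_, by rw [map_mul, map_inv, (m.lin_eq_one _).2 q.2, inv_one, one_mul]⟩
  show (q : Subgroup.centralizer ({z} : Set G))⁻¹ * bv * x₀ = x₀ * ((q : Subgroup.centralizer ({z} : Set G))⁻¹ * bv)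
  have e' : (q : Subgroup.centralizer ({z} : Set G)) * (x₀ * q * x₀⁻¹)⁻¹ = bv * x₀ * bv⁻¹ * x₀⁻¹ := congrArg Subtype.val heq
  calc _ = (q : Subgroup.centralizer ({z} : Set G))⁻¹ * (bv * x₀ * bv⁻¹ * x₀⁻¹) * x₀ * bv := by group
    _ = _ := by rw [← e']; group

end Cfsg.Agent.Spor.LargeFischer
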