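import Cfsg.Agent.Lib.Spor.LargeFischer.NonSplit

/-!
The centraliser of a subgroup of order three mapping onto the centre of the quotient by the extraspecial group is
`6.U₄(3)`.
-/

set_option autoImplicit false
set_option maxRecDepth 100000
set_option linter.style.haveILetI false
set_option linter.unusedSectionVars false

open Cfsg Cfsg.Agent.Classical Matrix
open Cfsg.Agent.Spor.USixTwo (K4)
open Cfsg.Agent.Spor.U62U43 (cover62 G43)

namespace Cfsg.Agent.Spor.LargeFischer

variable {G : Type*} [Group G] [Finite G] {z : G} {Q : Subgroup (Subgroup.centralizer ({z} : Set G))}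
  [hQn : Q.Normal] (m : Model z Q)

include m

theorem three_core_centralizer (hF : ∃ g : G, g * z * g⁻¹ ∈ QG Q ∧ g * z * g⁻¹ ≠ z)
    {X : Subgroup (Subgroup.centralizer ({z} : Set G))} (hX : Nat.card X = 3) (hXQ : (X ⊔ Q).Normal) :
    Cfsg.IsQuasisimple ↥(Subgroup.centralizer (X : Set (Subgroup.centralizer ({z} : Set G)))) ∧
    IsCyclic ↥(Subgroup.center ↥(Subgroup.centralizer (X : Set (Subgroup.centralizer ({z} : Set G))))) ∧
    Nat.card ↥(Subgroup.center ↥(Subgroup.centralizer (X : Set (Subgroup.centralizer ({z} : Set G))))) = 6 ∧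
    Nonempty (↥(Subgroup.centralizer (X : Set (Subgroup.centralizer ({z} : Set G)))) ⧸
      Subgroup.center ↥(Subgroup.centralizer (X : Set (Subgroup.centralizer ({z} : Set G)))) ≃* G43) := by
  obtain ⟨x₀, hx₀X, hx₀M, hx, rfl⟩ := exists_scalar m hX hXQ
  have hx₃ : x₀ ^ 3 = 1 := by
    rw [← hX, Nat.card_zpowers]; exact pow_orderOf_eq_one x₀
  set C := Subgroup.centralizer ((Subgroup.zpowers x₀ : Subgroup _) : Set (Subgroup.centralizer ({z} : Set G))) with hC
  have hmem : ∀ c, c ∈ C ↔ c * x₀ = x₀ * c := fun c => by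
    rw [hC, Subgroup.zpowers_eq_closure, Subgroup.centralizer_closure, Subgroup.mem_centralizer_singleton_iff]
  have hCM : ∀ c ∈ C, c ∈ m.M := fun c hc => cent_le m hx hF ((hmem c).1 hc)
  set zH : Subgroup.centralizer ({z} : Set G) := (m.zq : Subgroup.centralizer ({z} : Set G)) with hzH
  have hzcomm : ∀ c : Subgroup.centralizer ({z} : Set G), c * zH = zH * c := fun c =>
    Subtype.ext (Subgroup.mem_centralizer_singleton_iff.1 c.2)
  have hzC : zH ∈ C := (hmem _).2 (hzcomm x₀).symm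
  let ψ : C →* cover62 m.k := (m.lin.comp (Subgroup.inclusion hCM)).codRestrict _ fun c => m.lin_mem _
  have hψ : Function.Surjective ψ := fun a => by
    obtain ⟨c, hc, e⟩ := exists_cent m hx hx₃ a.2
    exact ⟨⟨c, (hmem _).2 hc⟩, Subtype.ext e⟩
  have hker : ∀ c : C, ψ c = 1 → c = 1 ∨ c = ⟨zH, hzC⟩ := fun c h => by
    have hq : (c : Subgroup.centralizer ({z} : Set G)) ∈ Q := (m.lin_eq_one _).1 (congrArg Subtype.val h)
    have hc := (hmem _).1 c.2
    have h0 : m.rep ⟨c, hq⟩ = 0 := by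
      have e : qconj x₀ (⟨c, hq⟩ : Q) = ⟨c, hq⟩ := Subtype.ext (by
        show x₀ * (c : Subgroup.centralizer ({z} : Set G)) * x₀⁻¹ = c
        rw [← hc, mul_inv_cancel_right])
      have h2 := congrArg m.rep e
      rw [← m.act_rep, hx] at h2
      funext i
      have h3 := congrFun h2 i
      simp only [Pi.smul_apply, smul_eq_mul] at h3
      simp only [Pi.zero_apply]
      revert h3
      generalize m.rep ⟨(c : Subgroup.centralizer ({z} : Set G)), hq⟩ i = t
      revert t
      decide +kernel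
    rcases (m.rep_zero _).1 h0 with e | e
    · exact Or.inl (Subtype.ext (Subtype.ext e))
    · exact Or.inr (Subtype.ext (Subtype.ext e))
  have hzne : (⟨zH, hzC⟩ : C) ≠ 1 := fun h => m.zq_ne (Subtype.ext (congrArg Subtype.val h :))
  have hψz : ψ ⟨zH, hzC⟩ = 1 := Subtype.ext ((m.lin_eq_one _).2 m.zq.2)
  have hkercard : Nat.card ψ.ker = 2 := by
    rw [Nat.card_eq_two_iff]
    refine ⟨⟨1, one_mem _⟩, ⟨⟨zH, hzC⟩, hψz⟩, fun h => hzne (congrArg Subtype.val h).symm, ?_⟩
    refine Set.eq_univ_of_forall fun x => ?_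
    rcases hker x.1 x.2 with e | e
    · exact Or.inl (Subtype.ext e)
    · exact Or.inr (Subtype.ext e)
  have hcenter : Subgroup.center C = (Subgroup.center (cover62 m.k)).comap ψ := by
    refine le_antisymm (fun c hc => Subgroup.mem_center_iff.2 fun a => ?_) fun c hc => ?_
    · obtain ⟨b, rfl⟩ := hψ a
      rw [← map_mul, ← map_mul, Subgroup.mem_center_iff.1 hc b]
    · rw [Subgroup.mem_comap, center_cover m.hk, Subgroup.mem_zpowers_iff] at hc
      obtain ⟨i, hi⟩ := hc
      have hx0C : x₀ ∈ C := (hmem _).2 rfl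
      have hψx : ψ ⟨x₀, hx0C⟩ = ⟨omS, omS_mem m.hk⟩ := Subtype.ext (ext_suv fun b _ => by
        show m.lin ⟨x₀, _⟩ • _ = omS • _
        rw [← m.lin_act, omS_smul]; exact hx _)
      have h1 : ψ (c * ((⟨x₀, hx0C⟩ : C) ^ i)⁻¹) = 1 := by rw [map_mul, map_inv, map_zpow, hψx, hi, mul_inv_cancel]
      have hx0c : (⟨x₀, hx0C⟩ : C) ∈ Subgroup.center C :=
        Subgroup.mem_center_iff.2 fun a => Subtype.ext ((hmem _).1 a.2)
      have hzc : (⟨zH, hzC⟩ : C) ∈ Subgroup.center C := Subgroup.mem_center_iff.2 fun a => Subtype.ext (hzcomm _)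
      rcases hker _ h1 with e | e
      · rw [mul_inv_eq_one.1 e]; exact zpow_mem hx0c i
      · rw [mul_inv_eq_iff_eq_mul.1 e]; exact mul_mem hzc (zpow_mem hx0c i)
  obtain ⟨h3, ⟨e43⟩⟩ := U62U43.cover_good m.hk
  have hcard : Nat.card (Subgroup.center C) = 6 := by
    have h1 := Leech.card_eq_ker_mul_map ψ (Subgroup.center C)
    rw [show Subgroup.center C ⊓ ψ.ker = ψ.ker from inf_eq_right.2 fun x hx' => by
        rw [hcenter, Subgroup.mem_comap, MonoidHom.mem_ker.1 hx']; exact one_mem _,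
      hkercard, hcenter, Subgroup.map_comap_eq_self_of_surjective hψ, h3] at h1
    rw [hcenter]; exact h1
  let π : C →* cover62 m.k ⧸ Subgroup.center (cover62 m.k) := (QuotientGroup.mk' _).comp ψ
  have hπ : Function.Surjective π := (QuotientGroup.mk'_surjective _).comp hψ
  have hπker : π.ker = Subgroup.center C := by
    rw [hcenter, ← MonoidHom.comap_ker, QuotientGroup.ker_mk']
  let e : C ⧸ Subgroup.center C ≃* G43 :=
    (QuotientGroup.quotientMulEquivOfEq hπker.symm).trans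
      ((QuotientGroup.quotientKerEquivOfSurjective π hπ).trans e43)
  refine ⟨⟨?_, ?_⟩, ?_, hcard, ⟨e⟩⟩
  · -- perfect
    refine ⟨?_⟩
    have hmap : (commutator C).map ψ = ⊤ := by
      rw [commutator_def, Subgroup.map_commutator, Subgroup.map_top_of_surjective ψ hψ, ← commutator_def,
        cover_perfect m.hk]
    have hz : (⟨zH, hzC⟩ : C) ∈ commutator C := by
      by_contra hn
      let K : Subgroup (Subgroup.centralizer ({z} : Set G)) := (commutator C).map C.subtype
      have hKC : ∀ c ∈ K, c ∈ C := fun c ⟨a, _, e⟩ => e ▸ a.2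
      refine no_complement m hx (K := K) (fun c hc => ⟨hCM _ (hKC c hc), (hmem _).1 (hKC c hc)⟩) ?_ hF ?_
      · rintro _ ⟨a, ha, rfl⟩ hq
        rcases hker a (Subtype.ext ((m.lin_eq_one _).2 hq)) with e | e
        · rw [e]; rfl
        · exact absurd (e ▸ ha) hn
      · intro a ha
        have hm : (⟨a, ha⟩ : cover62 m.k) ∈ (commutator C).map ψ := hmap ▸ Subgroup.mem_top _
        obtain ⟨c, hc, e⟩ := hm
        exact ⟨c.1, ⟨c, hc, rfl⟩, congrArg Subtype.val e⟩
    refine eq_top_iff.2 fun c _ => ?_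
    have hm : ψ c ∈ (commutator C).map ψ := hmap ▸ Subgroup.mem_top _
    obtain ⟨d, hd, ed⟩ := hm
    rcases hker (d⁻¹ * c) (by rw [map_mul, map_inv, ed, inv_mul_cancel]) with e | e
    · rw [← inv_mul_eq_one.1 e]; exact hd
    · rw [inv_mul_eq_iff_eq_mul.1 e]; exact mul_mem hd hz
  · exact e.isSimpleGroup
  · haveI : Fact (Nat.Prime 3) := ⟨Nat.prime_three⟩
    haveI : Fact (Nat.Prime 2) := ⟨Nat.prime_two⟩
    have hx0C : x₀ ∈ C := (hmem _).2 rfl
    have hzc : (⟨zH, hzC⟩ : C) ∈ Subgroup.center C := Subgroup.mem_center_iff.2 fun a => Subtype.ext (hzcomm _)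
    have hx0c : (⟨x₀, hx0C⟩ : C) ∈ Subgroup.center C :=
      Subgroup.mem_center_iff.2 fun a => Subtype.ext ((hmem _).1 a.2)
    refine isCyclic_of_orderOf_eq_card (⟨_, mul_mem hx0c hzc⟩ : Subgroup.center C) ?_
    rw [Subgroup.orderOf_mk, hcard]
    have ho3 : orderOf (⟨x₀, hx0C⟩ : C) = 3 := by
      rw [Subgroup.orderOf_mk, ← Nat.card_zpowers, hX]
    have ho2 : orderOf (⟨zH, hzC⟩ : C) = 2 := orderOf_eq_prime (by
      rw [pow_two]; exact Subtype.ext (Subtype.ext m.ext.zz)) hzne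
    rw [(show Commute (⟨x₀, hx0C⟩ : C) ⟨zH, hzC⟩ from Subtype.ext (hzcomm _)).orderOf_mul_eq_mul_orderOf_of_coprime
      (by rw [ho3, ho2]; norm_num), ho3, ho2]

end Cfsg.Agent.Spor.LargeFischer
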