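import Cfsg.Agent.Lib.Spor.LargeFischer.Orbits

/-!
Idempotents of the characters of an elementary abelian group of order 243 acting on a binary vector space, and the
six weights they have when two maps normalising the group act as in the orbit tables.
-/

set_option autoImplicit false
set_option linter.unusedSectionVars false

namespace Cfsg.Agent.Spor.LargeFischer.Weights

/-- The group of order 243 and its characters. -/
abbrev K5 : Type := Fin 5 → ZMod 3

/-- The pairing. -/
def dot (χ k : K5) : ZMod 3 := ∑ i, χ i * k i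

theorem dot_add (χ k l : K5) : dot χ (k + l) = dot χ k + dot χ l := by
  simp [dot, mul_add, Finset.sum_add_distrib]

theorem dot_smul (χ k : K5) (a : ZMod 3) : dot χ (a • k) = a * dot χ k := by
  simp [dot, Finset.mul_sum, mul_left_comm]

theorem dot_unit (χ : K5) (i : Fin 5) : dot χ (Pi.single i 1) = χ i := by
  simp [dot, Pi.single_apply]

theorem neg_dot (χ k : K5) : dot (-χ) k = -dot χ k := by simp [dot]

theorem three_cases : ∀ a : ZMod 3, a = 0 ∨ a = 1 ∨ a = -1 := by decide

theorem sq_one {a : ZMod 3} (h : a ≠ 0) : a * a = 1 := by revert h; revert a; decide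

/-- A kernel is contained in another only for proportional characters. -/
theorem exists_sep {χ ψ : K5} (hχ : χ ≠ 0) (hψ : ψ ≠ 0) (h1 : χ ≠ ψ) (h2 : χ ≠ -ψ) :
    ∃ l, dot ψ l = 0 ∧ dot χ l ≠ 0 := by
  by_contra h
  push Not at h
  obtain ⟨i, hi⟩ := Function.ne_iff.1 hψ
  have hk : ∀ j, χ j = χ i * ψ i * ψ j := fun j => by
    have := h ((Pi.single j 1 : K5) + (-(ψ j * ψ i)) • (Pi.single i 1 : K5))
      (by rw [dot_add, dot_smul, dot_unit, dot_unit, neg_mul, mul_assoc, sq_one hi, mul_one, add_neg_cancel])
    rw [dot_add, dot_smul, dot_unit, dot_unit] at this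
    linear_combination this
  rcases three_cases (χ i * ψ i) with h' | h' | h'
  · exact hχ (funext fun j => by rw [hk j, h', zero_mul]; rfl)
  · exact h1 (funext fun j => by rw [hk j, h', one_mul])
  · exact h2 (funext fun j => by rw [hk j, h', neg_one_mul]; rfl)

variable {V : Type*} [AddCommGroup V] [Module (ZMod 2) V]

theorem self_add (f : Module.End (ZMod 2) V) : f + f = 0 :=
  LinearMap.ext fun x => by simpa using ZModModule.add_self (f x)

theorem three_add (f : Module.End (ZMod 2) V) : f + f + f = f := by rw [self_add, zero_add]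

/-- An action of the group. -/
structure Act (R : K5 → Module.End (ZMod 2) V) : Prop where
  zero : R 0 = 1
  add : ∀ k l, R (k + l) = R k * R l

variable (R : K5 → Module.End (ZMod 2) V)

/-- The sum over a kernel. -/
def kerSum (χ : K5) : Module.End (ZMod 2) V := ∑ k ∈ Finset.univ.filter (fun k => dot χ k = 0), R k

/-- The sum over all. -/
def allSum : Module.End (ZMod 2) V := ∑ k, R k

/-- The idempotent of a character. -/
def e (χ : K5) : Module.End (ZMod 2) V := kerSum R χ + allSum R

theorem kerSum_neg (χ : K5) : kerSum R (-χ) = kerSum R χ := by simp only [kerSum, neg_dot, neg_eq_zero]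

theorem e_neg (χ : K5) : e R (-χ) = e R χ := by rw [e, kerSum_neg, ← e]

theorem e_congr {χ ψ : K5} (h : χ = ψ ∨ χ = -ψ) : e R χ = e R ψ := by
  rcases h with rfl | rfl
  · rfl
  · exact e_neg R ψ

variable {R} (hR : Act R)
include hR

theorem comm (k l : K5) : R k * R l = R l * R k := by rw [← hR.add, ← hR.add, add_comm]

theorem kerSum_comm (χ k : K5) : R k * kerSum R χ = kerSum R χ * R k := by
  rw [kerSum, Finset.mul_sum, Finset.sum_mul]
  exact Finset.sum_congr rfl fun l _ => comm hR k l

theorem allSum_mul (k : K5) : allSum R * R k = allSum R := by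
  simp only [allSum, Finset.sum_mul, ← hR.add]
  exact Equiv.sum_comp (Equiv.addRight k) R

theorem shift (χ x : K5) : ∑ k ∈ Finset.univ.filter (fun k => dot χ k = dot χ x), R k = kerSum R χ * R x := by
  simp only [kerSum, Finset.sum_mul, ← hR.add]
  refine (Finset.sum_equiv (Equiv.addRight x) (fun k => ?_) fun k _ => rfl).symm
  simp [dot_add]

theorem kerSum_mul {χ k : K5} (h : dot χ k = 0) : kerSum R χ * R k = kerSum R χ := by
  rw [← shift hR χ k, h, kerSum]

theorem orbit_sum {χ x : K5} (h : dot χ x ≠ 0) : kerSum R χ * (1 + R x + R (x + x)) = allSum R := by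
  have hs := Finset.sum_fiberwise (Finset.univ : Finset K5) (dot χ) R
  have h0 : ∑ k ∈ Finset.univ.filter (fun k => dot χ k = 0), R k = kerSum R χ * 1 := by rw [mul_one, kerSum]
  have hx : (Finset.univ : Finset (ZMod 3)) = {0, dot χ x, dot χ (x + x)} := by
    rw [dot_add]; rcases three_cases (dot χ x) with e | e | e
    · exact absurd e h
    all_goals rw [e]; decide
  rw [hx, Finset.sum_insert (by rw [dot_add]; revert h; generalize dot χ x = a; revert a; decide),
    Finset.sum_insert (by rw [dot_add]; revert h; generalize dot χ x = a; revert a; decide),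
    Finset.sum_singleton, h0, shift hR, shift hR, ← mul_add, ← mul_add, ← add_assoc] at hs
  exact hs

theorem card_ker {χ : K5} (hχ : χ ≠ 0) : Odd (Finset.univ.filter (fun k => dot χ k = 0)).card := by
  obtain ⟨i, hi⟩ := Function.ne_iff.1 hχ
  have hx : dot χ (χ i • (Pi.single i 1 : K5)) = 1 := by rw [dot_smul, dot_unit, sq_one hi]
  set x := χ i • (Pi.single i 1 : K5)
  have hc : ∀ t : ZMod 3, (Finset.univ.filter fun k => dot χ k = t).card =
      (Finset.univ.filter fun k => dot χ k = 0).card := fun t => by
    refine (Finset.card_equiv (Equiv.addRight (t • x)) fun k => ?_).symm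
    simp [dot_add, dot_smul, hx]
  have hs := Finset.card_eq_sum_card_fiberwise (s := (Finset.univ : Finset K5)) (t := Finset.univ)
    (f := dot χ) fun _ _ => Finset.mem_coe.2 (Finset.mem_univ _)
  simp only [hc, Finset.sum_const, Finset.card_univ, Fintype.card_fun, Fintype.card_fin, ZMod.card,
    smul_eq_mul] at hs
  rw [Nat.odd_iff]; omega

theorem nsmul_odd {n : ℕ} (hn : Odd n) (f : Module.End (ZMod 2) V) : n • f = f := by
  obtain ⟨m, rfl⟩ := hn
  rw [add_smul, mul_comm, mul_smul, two_smul, self_add, smul_zero, zero_add, one_smul]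

theorem kerSum_sq {χ : K5} (hχ : χ ≠ 0) : kerSum R χ * kerSum R χ = kerSum R χ := by
  conv_lhs => arg 2; unfold kerSum
  rw [Finset.mul_sum, Finset.sum_congr rfl fun k hk => kerSum_mul hR (Finset.mem_filter.1 hk).2,
    Finset.sum_const, nsmul_odd hR (card_ker hR hχ)]

theorem allSum_kerSum {χ : K5} (hχ : χ ≠ 0) : allSum R * kerSum R χ = allSum R := by
  conv_lhs => arg 2; unfold kerSum
  rw [Finset.mul_sum, Finset.sum_congr rfl fun k _ => allSum_mul hR k, Finset.sum_const,
    nsmul_odd hR (card_ker hR hχ)]

theorem kerSum_allSum {χ : K5} (hχ : χ ≠ 0) : kerSum R χ * allSum R = allSum R := by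
  have : kerSum R χ * allSum R = allSum R * kerSum R χ := by
    simp only [allSum, Finset.mul_sum, Finset.sum_mul, kerSum_comm hR]
  rw [this, allSum_kerSum hR hχ]

theorem allSum_sq : allSum R * allSum R = allSum R := by
  conv_lhs => arg 2; unfold allSum
  rw [Finset.mul_sum, Finset.sum_congr rfl fun k _ => allSum_mul hR k, Finset.sum_const, Finset.card_univ,
    nsmul_odd hR (by simp; decide)]

theorem kerSum_kerSum {χ ψ : K5} (hχ : χ ≠ 0) (hψ : ψ ≠ 0) (h1 : χ ≠ ψ) (h2 : χ ≠ -ψ) :
    kerSum R χ * kerSum R ψ = allSum R := by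
  obtain ⟨l, hl, hl'⟩ := exists_sep hχ hψ h1 h2
  have a1 : R l * kerSum R ψ = kerSum R ψ := by rw [kerSum_comm hR, kerSum_mul hR hl]
  have a2 : R (l + l) * kerSum R ψ = kerSum R ψ := by rw [hR.add, mul_assoc, a1, a1]
  calc kerSum R χ * kerSum R ψ = kerSum R χ * ((1 + R l + R (l + l)) * kerSum R ψ) := by
        rw [add_mul, add_mul, one_mul, a1, a2, three_add]
    _ = _ := by rw [← mul_assoc, orbit_sum hR hl', allSum_kerSum hR hψ]

theorem e_sq {χ : K5} (hχ : χ ≠ 0) : e R χ * e R χ = e R χ := by
  rw [e, add_mul, mul_add, mul_add, kerSum_sq hR hχ, kerSum_allSum hR hχ, allSum_kerSum hR hχ, allSum_sq hR,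
    self_add (allSum R), add_zero]

theorem e_mul {χ ψ : K5} (hχ : χ ≠ 0) (hψ : ψ ≠ 0) (h1 : χ ≠ ψ) (h2 : χ ≠ -ψ) : e R χ * e R ψ = 0 := by
  rw [e, e, add_mul, mul_add, mul_add, kerSum_kerSum hR hχ hψ h1 h2, kerSum_allSum hR hχ, allSum_kerSum hR hψ,
    allSum_sq hR, self_add (allSum R), add_zero]

theorem e_fix {χ k : K5} (h : dot χ k = 0) : R k * e R χ = e R χ := by
  rw [e, mul_add, kerSum_comm hR, kerSum_mul hR h]
  congr 1
  conv_rhs => rw [← allSum_mul hR k]
  simp only [allSum, Finset.mul_sum, Finset.sum_mul, comm hR k]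

theorem e_move {χ x : K5} (h : dot χ x ≠ 0) : (1 + R x + R (x + x)) * e R χ = 0 := by
  have hc : (1 + R x + R (x + x)) * kerSum R χ = kerSum R χ * (1 + R x + R (x + x)) := by
    simp only [add_mul, mul_add, one_mul, mul_one, kerSum_comm hR]
  have hp : ∀ k, R k * allSum R = allSum R := fun k => by
    conv_rhs => rw [← allSum_mul hR k]
    simp only [allSum, Finset.mul_sum, Finset.sum_mul, comm hR k]
  rw [e, mul_add, hc, orbit_sum hR h, add_mul, add_mul, one_mul, hp, hp, three_add, self_add]

/-- A vector moved by an element lies over a character not vanishing on it. -/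
theorem exists_weight {x : K5} (hx : R x ≠ 1) : ∃ χ, dot χ x ≠ 0 ∧ e R χ ≠ 0 := by
  set p := (1 + R x + R (x + x)) with hp
  have hp0 : ∃ w, w ≠ 0 ∧ p w = 0 := by
    by_contra hcon
    push Not at hcon
    refine hx (LinearMap.ext fun v => ?_)
    have h3 : R (x + x + x) = 1 := by
      rw [← hR.zero]; congr 1; funext i
      simp only [Pi.add_apply, Pi.zero_apply]
      generalize x i = a; revert a; decide
    by_contra hv
    refine hcon (R x v + v) (fun h0 => hv ?_) ?_
    · rw [Module.End.one_apply, ← sub_eq_zero, ZModModule.sub_eq_add, h0]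
    · simp only [hp, LinearMap.add_apply, Module.End.one_apply, map_add, ← Module.End.mul_apply, ← hR.add,
        ← add_assoc, h3]
      rw [← add_comm (R (x + x) v)]
      abel_nf
      simp [two_smul, ZModModule.add_self, two_nsmul, two_zsmul]
  obtain ⟨w, hw, hwp⟩ := hp0
  have step : ∀ (l : List K5), ∃ w, w ≠ 0 ∧ p w = 0 ∧ ∀ y ∈ l, ∃ t : ZMod 3, R (y + t • x) w = w := by
    intro l
    induction l with
    | nil => exact ⟨w, hw, hwp, fun y hy => by simp at hy⟩
    | cons y l ih =>
      obtain ⟨u, hu, hup, hl⟩ := ih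
      let q : ZMod 3 → Module.End (ZMod 2) V := fun t => 1 + R (y + t • x) + R ((y + t • x) + (y + t • x))
      have hq : q 0 + q 1 + q (-1) = 1 + 1 + 1 + (R y + R (y + y)) * p := by
        have e1 : (y + (-1 : ZMod 3) • x) = y + (x + x) := by
          funext i; simp only [Pi.add_apply, Pi.smul_apply, smul_eq_mul]; generalize x i = a; revert a; generalize y i = b; revert b; decide
        have e2 : (y + (x + x)) + (y + (x + x)) = (y + y) + x := by
          funext i; simp only [Pi.add_apply]; generalize x i = a; generalize y i = b; revert a b; decide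
        have e3 : (y + x) + (y + x) = (y + y) + (x + x) := by abel
        simp only [q, zero_smul, one_smul, add_zero, e1, e2, e3, hp, mul_add, add_mul, mul_one, ← hR.add]
        abel
      have ht : ∃ t, q t u ≠ 0 := by
        by_contra hcon
        push Not at hcon
        refine hu ?_
        have := LinearMap.congr_fun hq u
        simpa [hcon, hup, ZModModule.add_self] using this.symm
      obtain ⟨t, ht⟩ := ht
      have hc : ∀ k, R k * q t = q t * R k := fun k => by
        simp only [q, mul_add, add_mul, one_mul, mul_one, comm hR k]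
      refine ⟨q t u, ht, ?_, ?_⟩
      · have : p * q t = q t * p := by
          simp only [hp, add_mul, mul_add, one_mul, mul_one, hc]
        rw [← Module.End.mul_apply, this, Module.End.mul_apply, hup, map_zero]
      · intro z hz
        rcases List.mem_cons.1 hz with rfl | hz
        · refine ⟨t, ?_⟩
          have h3 : (z + t • x) + ((z + t • x) + (z + t • x)) = 0 := by
            funext i; simp only [Pi.add_apply, Pi.zero_apply]; generalize z i + (t • x) i = a; revert a; decide
          simp only [q, ← Module.End.mul_apply, mul_add, mul_one, ← hR.add, h3, hR.zero]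
          simp only [LinearMap.add_apply]
          abel
        · obtain ⟨s, hs⟩ := hl z hz
          exact ⟨s, by rw [← Module.End.mul_apply, hc, Module.End.mul_apply, hs]⟩
  obtain ⟨v, hv, hvp, hvl⟩ := step (List.ofFn fun i : Fin 5 => (Pi.single i 1 : K5))
  choose t ht using fun i => hvl (Pi.single i 1) (List.mem_ofFn.2 ⟨i, rfl⟩)
  let χ : K5 := fun i => -t i
  let S : Submodule (ZMod 3) K5 :=
    { carrier := {k | R k v = v}
      zero_mem' := by simp [hR.zero]
      add_mem' := fun {a b} ha hb => by
        show R (a + b) v = v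
        rw [hR.add, Module.End.mul_apply, hb, ha]
      smul_mem' := fun a k (hk : R k v = v) => by
        show R (a • k) v = v
        rcases three_cases a with rfl | rfl | rfl
        · simp [hR.zero]
        · rw [one_smul]; exact hk
        · rw [show (-1 : ZMod 3) • k = k + k from funext fun i => by
            simp only [Pi.smul_apply, Pi.add_apply, smul_eq_mul]; generalize k i = b; revert b; decide,
            hR.add, Module.End.mul_apply, hk, hk] }
  have hker : ∀ l, l - dot χ l • x ∈ S := fun l => by
    have : l - dot χ l • x = ∑ i, l i • ((Pi.single i 1 : K5) + t i • x) := by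
      rw [Finset.sum_congr rfl fun i _ => smul_add (l i) _ _, Finset.sum_add_distrib]
      simp only [smul_smul, ← Finset.sum_smul, sub_eq_add_neg, ← neg_smul]
      congr 1
      · funext j; simp [Finset.sum_apply, Pi.single_apply]
      · congr 1; simp [dot, χ, mul_comm]
    rw [this]
    exact Submodule.sum_mem S fun i _ => S.smul_mem _ (ht i)
  have hxS : x ∉ S := fun h => by
    have h' : R x v = v := h
    have : p v = v := by
      simp [hp, hR.add, h', ZModModule.add_self]
    exact hv (this.symm.trans hvp)
  have hχx : dot χ x ≠ 0 := fun h0 => hxS (by simpa [h0] using hker x)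
  refine ⟨χ, hχx, fun he => hv ?_⟩
  have hfix : ∀ k, dot χ k = 0 → R k v = v := fun k hk => by
    have := hker k; rw [hk, zero_smul, sub_zero] at this; exact this
  have hA : kerSum R χ v = v := by
    have hn := card_ker hR (χ := χ) (fun h => hχx (by simp [h, dot]))
    rw [kerSum, LinearMap.sum_apply, Finset.sum_congr rfl fun k hk => hfix k (Finset.mem_filter.1 hk).2,
      Finset.sum_const]
    obtain ⟨m, hm⟩ := hn
    rw [hm, add_smul, mul_comm, mul_smul, two_smul, ZModModule.add_self, smul_zero, zero_add, one_smul]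
  have hall : allSum R v = 0 := by
    rw [← orbit_sum hR hχx, Module.End.mul_apply, ← hp, hvp, map_zero]
  have := LinearMap.congr_fun he v
  rwa [e, LinearMap.add_apply, hA, hall, add_zero, LinearMap.zero_apply] at this

end Cfsg.Agent.Spor.LargeFischer.Weights
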